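import Cfsg.Agent.Lib.Classical.Dickson.MaxExistFields
import Cfsg.Agent.Lib.Classical.PSLTwoSimple
import Cfsg.Agent.Lib.Recog.SimpleSixty

/-!
The minimal index of a proper subgroup of `PSL(2, q)` and the minimal simple `PSL(2, q)`.
-/

set_option autoImplicit false

namespace CfsgLib.Classical.Dickson

open Matrix
open scoped LinearAlgebra.Projectivization MatrixGroups commutatorElement

/-! ### General facts -/

/-- A group all of whose commutators commute with one another is solvable. -/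
theorem isSolvable_of_commutators_commute {G : Type*} [Group G]
    (h : ∀ a b c d : G, Commute ⁅a, b⁆ ⁅c, d⁆) : Group.IsSolvable G := by
  let _ : CommGroup (commutator G) :=
    { (inferInstance : Group (commutator G)) with
      mul_comm := fun x y => by
        have hc : ∀ u ∈ commutatorSet G, ∀ v ∈ commutatorSet G, u * v = v * u := by
          rintro _ ⟨a, b, rfl⟩ _ ⟨c, d, rfl⟩
          exact (h a b c d).eq
        have h1 := Subgroup.closure_le_centralizer_centralizer (commutatorSet G)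
        have hx : (x : G) ∈ Subgroup.closure (commutatorSet G) := commutator_eq_closure G ▸ x.2
        have hy : (y : G) ∈ Subgroup.closure (commutatorSet G) := commutator_eq_closure G ▸ y.2
        have h2 : Subgroup.closure (commutatorSet G) ≤ Subgroup.centralizer (commutatorSet G) :=
          (Subgroup.closure_le _).2 fun u hu => fun v hv => hc v hv u hu
        have h3 : Subgroup.closure (commutatorSet G) ≤
            Subgroup.centralizer (Subgroup.closure (commutatorSet G) : Set G) :=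
          (Subgroup.closure_le _).2 fun u hu => fun v hv => (h2 hv u hu).symm
        exact Subtype.ext (h3 hy x hx) }
  exact Group.isSolvable_of_ker_le_range (commutator G).subtype Abelianization.of
    (by rw [Abelianization.ker_of, Subgroup.range_subtype])

theorem not_isSolvable_of_simple_noncomm {G : Type*} [Group G] [IsSimpleGroup G]
    (h : ∃ a b : G, a * b ≠ b * a) : ¬ Group.IsSolvable G := fun hs => by
  obtain ⟨a, b, hab⟩ := h
  exact hab (IsSimpleGroup.comm_iff_isSolvable.2 hs a b)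

theorem isSolvable_of_equiv {G H : Type*} [Group G] [Group H] (e : G ≃* H)
    (h : Group.IsSolvable H) : Group.IsSolvable G :=
  Group.isSolvable_of_isSolvable_injective (f := e.toMonoidHom) e.injective

theorem isSolvable_perm_four : Group.IsSolvable (Equiv.Perm (Fin 4)) := by
  have : Group.IsSolvable (alternatingGroup (Fin 4)) :=
    CfsgLib.Recog.Sixty.isSolvable_of_dvd_sixty (by rw [natCard_alt_four]; norm_num)
      (by rw [natCard_alt_four]; norm_num)
  exact Group.isSolvable_of_ker_le_range (alternatingGroup (Fin 4)).subtype Equiv.Perm.sign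
    (by rw [Subgroup.range_subtype, alternatingGroup_eq_sign_ker])

theorem not_isSolvable_alt_five : ¬ Group.IsSolvable (alternatingGroup (Fin 5)) :=
  not_isSolvable_of_simple_noncomm (by decide +kernel)

/-- In a dihedral group all commutators commute. -/
theorem commutators_commute_dihedral {G : Type*} [Group G] {n : ℕ} (ψ : G ≃* DihedralGroup n)
    (a b c d : G) : Commute ⁅a, b⁆ ⁅c, d⁆ := by
  have key : ∀ x y : DihedralGroup n, ∃ i, ⁅x, y⁆ = DihedralGroup.r i := by
    rintro (i | i) (j | j) <;> exact ⟨_, rfl⟩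
  obtain ⟨i, hi⟩ := key (ψ a) (ψ b)
  obtain ⟨j, hj⟩ := key (ψ c) (ψ d)
  apply ψ.injective
  rw [map_mul, map_mul, map_commutatorElement, map_commutatorElement, hi, hj,
    DihedralGroup.r_mul_r, DihedralGroup.r_mul_r, add_comm]

variable {F : Type*} [Field F] [Fintype F] (p : ℕ) [Fact p.Prime] [CharP F p]

include p in
/-- A subgroup fixing a point is metabelian. -/
theorem isSolvable_of_fix {M : Subgroup (ProjectiveSpecialLinearGroup (Fin 2) F)}
    {z : ℙ F (Fin 2 → F)} (hz : ∀ g ∈ M, g • z = z) : Group.IsSolvable M := by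
  refine isSolvable_of_commutators_commute fun a b c d => ?_
  let j : M →* Mob F := ProjectiveSpecialLinearGroup.toPGL.comp M.subtype
  have hj : ∀ a : M, j a • z = z := fun a => by
    show ProjectiveSpecialLinearGroup.toPGL (a : ProjectiveSpecialLinearGroup (Fin 2) F) • z = z
    rw [psl_smul]; exact hz a a.2
  have hp : ∀ a b : M, j ⁅a, b⁆ ^ p = 1 := fun a b => by
    rw [map_commutatorElement]; exact comm_pow_char_of_fix p (hj a) (hj b)
  have e := commute_of_unip p (hj ⁅a, b⁆) (hj ⁅c, d⁆) (hp a b) (hp c d)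
  have hinj : Function.Injective j :=
    (ProjectiveSpecialLinearGroup.toPGL_injective).comp M.subtype_injective
  exact hinj ((map_mul j _ _).trans (e.eq.trans (map_mul j _ _).symm))

/-! ### Subfields -/

theorem card_top_subfield : Nat.card (⊤ : Subfield F) = Fintype.card F :=
  (Nat.card_congr Subfield.topEquiv.toEquiv).trans Nat.card_eq_fintype_card

omit [Fact p.Prime] [CharP F p] in
theorem exists_card_pow (K : Subfield F) : ∃ j, 1 ≤ j ∧ Nat.card K ^ j = Fintype.card F := by
  obtain ⟨j, hj, hjF⟩ := exists_degree (le_top : K ≤ ⊤)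
  exact ⟨j, hj, hjF.trans card_top_subfield⟩

theorem card_subfieldConj_le {M : Subgroup (ProjectiveSpecialLinearGroup (Fin 2) F)} {K : Subfield F}
    {g : GL (Fin 2) F} (h : M.map (pslConj g).toMonoidHom = pglImage K.subtype ∨
      (p ≠ 2 ∧ M.map (pslConj g).toMonoidHom = pslImage K.subtype)) :
    Nat.card M ≤ Nat.card K * (Nat.card K ^ 2 - 1) := by
  have h2 : 1 < Nat.card K := Finite.one_lt_card
  have h1 : Nat.card M ≤ Nat.card (pglImage K.subtype) := by
    rw [← card_map_pslConj g M]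
    rcases h with e | ⟨-, e⟩ <;> rw [e]
    exact Subgroup.card_le_of_le (pslImage_le_pglImage _)
  refine h1.trans (Nat.le_of_dvd (Nat.mul_pos (by omega) ?_) card_pglImage_dvd)
  have : 2 ^ 2 ≤ Nat.card K ^ 2 := Nat.pow_le_pow_left h2 2
  omega

include p in
theorem gcd_mul_card_le {q : ℕ} (hF : Fintype.card F = q) (hq : q ∉ ({2, 3, 5, 7, 9, 11} : Finset ℕ))
    {M : Subgroup (ProjectiveSpecialLinearGroup (Fin 2) F)} (hM : M ≠ ⊤) :
    Nat.gcd 2 (q - 1) * Nat.card M ≤ q * (q - 1) := by
  have hp := (Fact.out : p.Prime)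
  obtain ⟨f, hf, hqf⟩ := exists_card_eq_prime_pow (F := F) p
  rw [hF] at hqf
  simp only [Finset.mem_insert, Finset.mem_singleton, not_or] at hq
  have hq2 : 2 ≤ q := hF ▸ Fintype.one_lt_card
  have hq6 : q ≠ 6 := hqf ▸ prime_pow_ne_six hp f
  have hd : Nat.gcd 2 (q - 1) ≤ 2 := Nat.le_of_dvd two_pos (Nat.gcd_dvd_left _ _)
  have hqq : 2 * (q + 1) ≤ q * (q - 1) := by
    have : 4 * (q - 1) ≤ q * (q - 1) := Nat.mul_le_mul_right _ (by omega)
    omega
  have hG := gcd_mul_card_psl (F := F) hF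
  have hd12 : (Nat.gcd 2 (q - 1) = 1 ∧ q % 2 = 0) ∨ (Nat.gcd 2 (q - 1) = 2 ∧ q % 2 = 1) := by
    rcases Nat.mod_two_eq_zero_or_one q with h | h
    · exact Or.inl ⟨Nat.coprime_two_left.2 (Nat.odd_iff.2 (by omega)), h⟩
    · exact Or.inr ⟨Nat.gcd_eq_left (Nat.dvd_of_mod_eq_zero (by omega)), h⟩
  set d := Nat.gcd 2 (q - 1) with hdd
  have hdiv : ∀ n, n ∣ (q + 1) / d ∨ n ∣ (q - 1) / d → d * n ≤ q + 1 := by
    intro n hn
    rcases hd12 with ⟨h1, h2⟩ | ⟨h1, h2⟩ <;> rw [h1] at hn ⊢ <;> rcases hn with h | h <;>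
      (have := Nat.le_of_dvd (by omega) h) <;> omega
  have hge : 13 ≤ q → 156 ≤ q * (q - 1) := fun h =>
    le_trans (by norm_num) (Nat.mul_le_mul h (by omega : 12 ≤ q - 1))
  rcases subgroup_cases_conj p hF M with
    ⟨-, -, hdvd⟩ | ⟨-, z, hz⟩ | ⟨n, -, -, hn, ⟨ψ⟩⟩ | ⟨⟨ψ⟩⟩ | ⟨⟨ψ⟩⟩ | ⟨⟨ψ⟩⟩ | ⟨K, g, hK3, hc⟩
  · exact le_trans (hdiv _ hdvd) (by omega)
  · rw [← gcd_mul_card_stabilizer hF z, ← hdd]
    exact Nat.mul_le_mul_left _ (Subgroup.card_le_of_le fun x hx => hz x hx)
  · rw [card_of_equiv ψ DihedralGroup.nat_card, mul_left_comm]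
    exact le_trans (Nat.mul_le_mul_left 2 (hdiv n hn)) hqq
  · rw [card_of_equiv ψ natCard_alt_four]
    rcases hd12 with ⟨h1, h2⟩ | ⟨h1, h2⟩ <;> rw [h1]
    · have : 4 * 3 ≤ q * (q - 1) := Nat.mul_le_mul (by omega) (by omega)
      omega
    · have := hge (by omega)
      omega
  · rw [card_of_equiv ψ natCard_perm_four]
    have h16 := (perm_four_iff hF).1 ⟨M, ⟨ψ⟩⟩
    have hodd : q % 2 = 1 := by
      by_contra hne
      rw [pow_two, Nat.mul_mod] at h16
      have e : q % 2 = q % 16 % 2 := (Nat.mod_mod_of_dvd q (by norm_num)).symm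
      have hlt : q % 16 < 16 := Nat.mod_lt _ (by norm_num)
      generalize q % 16 = r at h16 e hlt
      interval_cases r <;> omega
    have := hge (by omega)
    calc d * 24 ≤ 2 * 24 := Nat.mul_le_mul_right _ hd
      _ ≤ q * (q - 1) := by omega
  · have h5 := (alt_five_iff hF).1 ⟨M, ⟨ψ⟩⟩
    have hM60 := card_of_equiv ψ natCard_alt_five
    rw [hM60]
    rcases hd12 with ⟨h1, h2⟩ | ⟨h1, h2⟩ <;> rw [h1] at hG ⊢
    · rcases (by omega : q = 4 ∨ q = 8 ∨ 10 ≤ q) with rfl | rfl | h
      · refine absurd (Subgroup.eq_top_of_le_card M ?_) hM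
        norm_num at hG
        omega
      · norm_num at h5
      · have : 10 * 9 ≤ q * (q - 1) := Nat.mul_le_mul h (by omega)
        omega
    · have := hge (by omega)
      omega
  · obtain ⟨j, hj, hjF⟩ := exists_card_pow K
    rcases Nat.lt_or_ge j 2 with hj2 | hj2
    · exact absurd (eq_top_of_subfield p (by rw [← hjF, show j = 1 by omega, pow_one]) hc) hM
    set k := Nat.card K
    have hk : k ^ 2 ≤ q := by rw [← hF, ← hjF]; exact Nat.pow_le_pow_right (by omega) hj2
    calc d * Nat.card M ≤ 2 * (k * (k ^ 2 - 1)) := Nat.mul_le_mul hd (card_subfieldConj_le p hc)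
      _ ≤ k ^ 2 * (k ^ 2 - 1) := by
        rw [← mul_assoc, pow_two]; exact Nat.mul_le_mul_right _ (Nat.mul_le_mul_right k (by omega))
      _ ≤ q * (q - 1) := Nat.mul_le_mul hk (Nat.sub_le_sub_right hk 1)

theorem min_index {q : ℕ} (hF : Fintype.card F = q) (hq : q ∉ ({2, 3, 5, 7, 9, 11} : Finset ℕ)) :
    (∀ H : Subgroup (ProjectiveSpecialLinearGroup (Fin 2) F), H ≠ ⊤ → q + 1 ≤ H.index) ∧
      ∃ H : Subgroup (ProjectiveSpecialLinearGroup (Fin 2) F), H.index = q + 1 := by
  obtain ⟨p, hp⟩ := CharP.exists F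
  have : Fact p.Prime := ⟨CharP.char_is_prime F p⟩
  refine ⟨fun H hH => ?_, _, index_stabilizer_psl hF
    (Projectivization.mk F (![1, 0] : Fin 2 → F) (by simp))⟩
  have hle := gcd_mul_card_le p hF hq hH
  have hG := gcd_mul_card_psl (F := F) hF
  rw [← H.card_mul_index, ← mul_assoc] at hG
  have hq2 : 2 ≤ q := hF ▸ Fintype.one_lt_card
  have e : q * (q ^ 2 - 1) = q * (q - 1) * (q + 1) := by
    rw [show q ^ 2 - 1 = (q + 1) * (q - 1) by rw [← Nat.sq_sub_sq, one_pow], mul_comm (q + 1), ← mul_assoc]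
  rw [e] at hG
  by_contra hlt
  have h1 : Nat.gcd 2 (q - 1) * Nat.card H * H.index ≤ q * (q - 1) * q :=
    Nat.mul_le_mul hle (by omega)
  rw [hG] at h1
  have h2 : q * (q - 1) * q < q * (q - 1) * (q + 1) :=
    Nat.mul_lt_mul_of_pos_left (by omega) (Nat.mul_pos (by omega) (by omega))
  omega

/-! ### Minimal simple -/

include p in
theorem exists_char_pow : ∃ f, 1 ≤ f ∧ Fintype.card F = p ^ f := by
  obtain ⟨f, hf, hqf⟩ := exists_card_eq_prime_pow (F := F) p
  exact ⟨f, by omega, hqf⟩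

theorem noncomm_psl (h4 : 4 ≤ Fintype.card F) :
    ∃ a b : ProjectiveSpecialLinearGroup (Fin 2) F, a * b ≠ b * a := by
  obtain ⟨x, -, y, -, hxy⟩ := pslImage_squares_noncommute (RingHom.id F) (Or.inr h4)
  exact ⟨x ^ 2, y ^ 2, hxy⟩

theorem not_isSolvable_pslImage {K : Type*} [Field K] [Fintype K] (f : K →+* F)
    (h4 : 4 ≤ Fintype.card K) : ¬ Group.IsSolvable (pslImage f) := fun h => by
  obtain ⟨e⟩ := nonempty_pslImage_equiv f
  have := isSimpleGroup_PSL_two h4
  exact not_isSolvable_of_simple_noncomm (noncomm_psl h4) (isSolvable_of_equiv e.symm h)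

include p in
/-- A subfield of order `p ^ l ≥ 4` with `l` a proper divisor of the degree spoils minimality. -/
theorem not_minimal_of_subfield {l m : ℕ} (hl : 4 ≤ p ^ l) (hm : 2 ≤ m)
    (h : (p ^ l) ^ m = Fintype.card F) :
    ¬ Cfsg.IsMinimalSimple (ProjectiveSpecialLinearGroup (Fin 2) F) := by
  rintro ⟨-, -, hsolv⟩
  obtain ⟨L, hL⟩ := exists_subfield_card (F := F) p (l := l) (m := m)
    (by rintro rfl; norm_num at hl) (by omega) h
  have : Fintype L := Fintype.ofFinite L
  refine not_isSolvable_pslImage L.subtype (by rw [← Nat.card_eq_fintype_card, hL]; exact hl)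
    (hsolv _ (ne_top_of_card_lt ?_))
  set k := p ^ l
  have h1 := card_pslImage_mul hL
  have hG := card_psl_mul_two (F := F) rfl
  have hkq : k * k ≤ Fintype.card F := by
    rw [← h, ← pow_two]; exact Nat.pow_le_pow_right (by omega) hm
  have h2 : 3 * (k * (k ^ 2 - 1)) ≤ Fintype.card F * (Fintype.card F ^ 2 - 1) := by
    rw [← mul_assoc]
    exact Nat.mul_le_mul (le_trans (Nat.mul_le_mul_right k (by omega)) hkq)
      (Nat.sub_le_sub_right (Nat.pow_le_pow_left (le_trans (Nat.le_mul_self k) hkq) 2) 1)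
  have h3 : 0 < k * (k ^ 2 - 1) := Nat.mul_pos (by omega) (by
    have := Nat.pow_le_pow_left hl 2; omega)
  have h4 : Nat.card (pslImage L.subtype) ≤ k * (k ^ 2 - 1) :=
    Nat.le_of_dvd h3 (Dvd.intro_left _ h1)
  omega

theorem not_minimal_of_five {q : ℕ} (hF : Fintype.card F = q) (h5 : 5 ∣ q * (q ^ 2 - 1))
    (hq : 9 ≤ q) : ¬ Cfsg.IsMinimalSimple (ProjectiveSpecialLinearGroup (Fin 2) F) := by
  rintro ⟨-, -, hsolv⟩
  obtain ⟨H, ⟨e⟩⟩ := (alt_five_iff hF).2 h5
  refine not_isSolvable_alt_five (isSolvable_of_equiv e.symm (hsolv H (ne_top_of_card_lt ?_)))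
  have hG := card_psl_mul_two (F := F) hF
  have h9 : 9 * 80 ≤ q * (q ^ 2 - 1) :=
    Nat.mul_le_mul hq (by have := Nat.pow_le_pow_left hq 2; omega)
  rw [card_of_equiv e natCard_alt_five]
  omega

theorem sq_mod_five {x : ℕ} : (x % 5 = 2 ∨ x % 5 = 3) → x ^ 2 % 5 = 4 := by
  intro h
  rw [Nat.pow_mod]
  rcases h with e | e <;> rw [e]

theorem not_five_dvd {x : ℕ} (h : x ^ 2 % 5 = 4) : ¬ 5 ∣ x * (x ^ 2 - 1) := fun hd => by
  rcases (Nat.Prime.dvd_mul (by norm_num)).1 hd with h' | h'
  · have := Nat.dvd_trans h' (dvd_pow_self x two_ne_zero)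
    omega
  · omega

theorem five_dvd_of_mod {x : ℕ} (h : x % 5 = 1 ∨ x % 5 = 4) : 5 ∣ x * (x ^ 2 - 1) := by
  refine Dvd.dvd.mul_left ?_ _
  have : x ^ 2 % 5 = 1 := by
    rw [Nat.pow_mod]
    rcases h with e | e <;> rw [e]
  omega

theorem minimal_simple_iff {q : ℕ} (hF : Fintype.card F = q) :
    Cfsg.IsMinimalSimple (ProjectiveSpecialLinearGroup (Fin 2) F) ↔
      ((∃ r : ℕ, r.Prime ∧ q = 2 ^ r) ∨ (∃ r : ℕ, r.Prime ∧ r ≠ 2 ∧ q = 3 ^ r) ∨
        (q.Prime ∧ 5 < q ∧ (q % 5 = 2 ∨ q % 5 = 3)) ∨ q = 5) := by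
  obtain ⟨p, hp⟩ := CharP.exists F
  have : Fact p.Prime := ⟨CharP.char_is_prime F p⟩
  have hp := (Fact.out : p.Prime)
  obtain ⟨f, hf, hqf⟩ := exists_char_pow (F := F) p
  constructor
  · intro hmin
    obtain ⟨hsimp, hnc, hsolv⟩ := hmin
    have hq4 : 4 ≤ q := by
      by_contra hlt
      have hq2 : 2 ≤ q := hF ▸ Fintype.one_lt_card
      have hG := gcd_mul_card_psl (F := F) hF
      have hS : Group.IsSolvable (ProjectiveSpecialLinearGroup (Fin 2) F) := by
        have hc : Nat.card (ProjectiveSpecialLinearGroup (Fin 2) F) = 6 ∨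
            Nat.card (ProjectiveSpecialLinearGroup (Fin 2) F) = 12 := by
          rcases (by omega : q = 2 ∨ q = 3) with rfl | rfl <;> norm_num at hG <;> omega
        refine CfsgLib.Recog.Sixty.isSolvable_of_dvd_sixty ?_ (by omega)
        rcases hc with e | e <;> rw [e] <;> norm_num
      exact hnc ⟨⟨IsSimpleGroup.comm_iff_isSolvable.2 hS⟩⟩
    have hcomp : ∀ l m, 4 ≤ p ^ l → 2 ≤ m → f = l * m → False := fun l m hl hm e =>
      not_minimal_of_subfield p hl hm (by rw [← pow_mul, ← e, hqf]) ⟨hsimp, hnc, hsolv⟩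
    have h5 : 9 ≤ q → ¬ 5 ∣ q * (q ^ 2 - 1) := fun h9 hd =>
      not_minimal_of_five hF hd h9 ⟨hsimp, hnc, hsolv⟩
    rw [hF] at hqf
    have hfac : ¬ f.Prime → 2 ≤ f → ∃ l m, 2 ≤ l ∧ 2 ≤ m ∧ f = l * m := fun hnp h2 => by
      obtain ⟨l, hl, hl1, hlf⟩ := Nat.exists_dvd_of_not_prime2 h2 hnp
      obtain ⟨m, rfl⟩ := hl
      refine ⟨l, m, hl1, ?_, rfl⟩
      rcases m with _ | _ | m <;> omega
    by_cases hf1 : f = 1
    · rw [hf1, pow_one] at hqf
      rw [hqf] at h5 hq4 ⊢
      by_cases h55 : p = 5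
      · exact Or.inr (Or.inr (Or.inr h55))
      refine Or.inr (Or.inr (Or.inl ⟨hp, ?_, ?_⟩))
      · rcases (by omega : p = 4 ∨ 5 < p) with rfl | h
        · norm_num at hp
        · exact h
      · have h05 : p % 5 ≠ 0 := fun h =>
          h55 ((Nat.prime_dvd_prime_iff_eq (by norm_num) hp).1 (Nat.dvd_of_mod_eq_zero h)).symm
        by_contra hne
        rcases (by omega : p = 4 ∨ p = 6 ∨ 9 ≤ p) with rfl | rfl | h9
        · norm_num at hp
        · norm_num at hp
        · exact h5 h9 (five_dvd_of_mod (by omega))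
    · by_cases h2 : p = 2
      · subst h2
        by_cases hfp : f.Prime
        · exact Or.inl ⟨f, hfp, hqf⟩
        · obtain ⟨l, m, hl, hm, e⟩ := hfac hfp (by omega)
          exact (hcomp l m (le_trans (by norm_num) (Nat.pow_le_pow_right two_pos hl)) hm e).elim
      by_cases h3 : p = 3
      · subst h3
        by_cases hfp : f.Prime
        · refine Or.inr (Or.inl ⟨f, hfp, fun e => ?_, hqf⟩)
          subst e
          rw [hqf] at h5
          exact h5 (by norm_num) (by norm_num)
        · obtain ⟨l, m, hl, hm, e⟩ := hfac hfp (by omega)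
          exact (hcomp l m (le_trans (by norm_num) (Nat.pow_le_pow_right (by norm_num) hl)) hm e).elim
      have hp5 : 5 ≤ p := by
        rcases (by have := hp.two_le; omega : p = 4 ∨ 5 ≤ p) with rfl | h
        · norm_num at hp
        · exact h
      exact (hcomp 1 f (by rw [pow_one]; omega) (by omega) (by omega)).elim
  · intro hcl
    have hq4 : 4 ≤ q := by
      rcases hcl with ⟨r, hr, rfl⟩ | ⟨r, hr, -, rfl⟩ | ⟨-, h, -⟩ | h
      · exact le_trans (by norm_num) (Nat.pow_le_pow_right two_pos hr.two_le)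
      · exact le_trans (by norm_num) (Nat.pow_le_pow_right (by norm_num) hr.two_le)
      all_goals omega
    have hsimp := isSimpleGroup_PSL_two (hF ▸ hq4 : 4 ≤ Fintype.card F)
    refine ⟨hsimp, fun hc => ?_, fun M hM => ?_⟩
    · obtain ⟨a, b, hab⟩ := noncomm_psl (hF ▸ hq4 : 4 ≤ Fintype.card F)
      exact hab (hc.is_comm.comm a b)
    rcases subgroup_cases_conj p hF M with
      ⟨hC, -, -⟩ | ⟨-, z, hz⟩ | ⟨n, -, -, -, ⟨ψ⟩⟩ | ⟨⟨ψ⟩⟩ | ⟨⟨ψ⟩⟩ | ⟨⟨ψ⟩⟩ | ⟨K, g, hK3, hc⟩
    · exact Group.isSolvable_of_comm fun a b => (IsCyclic.isMulCommutative (α := M)).is_comm.comm a b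
    · exact isSolvable_of_fix p hz
    · exact isSolvable_of_commutators_commute (commutators_commute_dihedral ψ)
    · exact isSolvable_of_equiv ψ (CfsgLib.Recog.Sixty.isSolvable_of_dvd_sixty
        (by rw [natCard_alt_four]; norm_num) (by rw [natCard_alt_four]; norm_num))
    · exact isSolvable_of_equiv ψ isSolvable_perm_four
    · exfalso
      have h5 := (alt_five_iff hF).1 ⟨M, ⟨ψ⟩⟩
      have hM60 := card_of_equiv ψ natCard_alt_five
      have hG := gcd_mul_card_psl (F := F) hF
      have small : q = 4 ∨ q = 5 → False := by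
        intro h
        refine hM (Subgroup.eq_top_of_le_card M ?_)
        rcases h with rfl | rfl <;> norm_num at hG <;> omega
      rcases hcl with ⟨r, hr, e⟩ | ⟨r, hr, hr2, e⟩ | ⟨-, -, h⟩ | h
      · rcases hr.eq_two_or_odd' with rfl | ⟨t, rfl⟩
        · exact small (Or.inl (by rw [e]; norm_num))
        · refine not_five_dvd ?_ h5
          rw [e, ← pow_mul, show (2 * t + 1) * 2 = 4 * t + 2 by ring, pow_add, pow_mul, Nat.mul_mod,
            Nat.pow_mod]
          norm_num
      · obtain ⟨t, rfl⟩ := hr.odd_of_ne_two hr2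
        refine not_five_dvd ?_ h5
        rw [e, ← pow_mul, show (2 * t + 1) * 2 = 4 * t + 2 by ring, pow_add, pow_mul, Nat.mul_mod,
          Nat.pow_mod]
        norm_num
      · exact not_five_dvd (sq_mod_five h) h5
      · exact small (Or.inr h)
    · obtain ⟨j, hj, hjF⟩ := exists_card_pow K
      rcases Nat.lt_or_ge j 2 with hj2 | hj2
      · exact absurd (eq_top_of_subfield p (by rw [← hjF, show j = 1 by omega, pow_one]) hc) hM
      set k := Nat.card K with hk
      rw [hF] at hjF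
      have hprime : ∀ b r : ℕ, b.Prime → r.Prime → q = b ^ r → k = b := by
        intro b r hb hr e
        obtain ⟨i, -, hi⟩ := (Nat.dvd_prime_pow hb).1 (show k ∣ b ^ r by
          rw [← e, ← hjF]; exact dvd_pow_self _ (by omega))
        have hij : i * j = r := Nat.pow_right_injective hb.two_le (by
          show b ^ (i * j) = b ^ r
          rw [pow_mul, ← hi, hjF, e])
        rcases (Nat.dvd_prime hr).1 (Dvd.intro j hij) with h | h
        · rw [hi, h, pow_one]
        · exfalso
          rw [h] at hij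
          have : r * 2 ≤ r * j := Nat.mul_le_mul_left r hj2
          have := hr.two_le
          omega
      have hnp : ¬ q.Prime := fun hq => by
        rw [← hjF] at hq
        exact Nat.Prime.not_prime_pow (by omega) hq
      rcases hcl with ⟨r, hr, e⟩ | ⟨r, hr, hr2, e⟩ | ⟨h, -, -⟩ | h
      · exact absurd (hprime 2 r Nat.prime_two hr e) (by omega)
      · have hk3 := hprime 3 r Nat.prime_three hr e
        have : Fintype K := Fintype.ofFinite K
        have hjr : j = r := Nat.pow_right_injective (le_refl 2 |>.trans (by norm_num : 2 ≤ 3)) (by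
          show 3 ^ j = 3 ^ r
          rw [← hk3, hjF, e, hk3])
        have heq : pglImage K.subtype = pslImage K.subtype := pglImage_eq_pslImage _ fun a =>
          isSquare_of_odd_degree K.subtype (hjr ▸ hr.odd_of_ne_two hr2)
            (by rw [← Nat.card_eq_fintype_card, ← hk, hjF, hF])
        have hMc : Nat.card M = 12 := by
          rw [← card_map_pslConj g M]
          have h1 := card_pslImage_mul (K := K) hk.symm
          rw [hk3] at h1
          norm_num at h1
          rcases hc with e | ⟨-, e⟩ <;> rw [e]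
          · rw [heq]; omega
          · omega
        exact CfsgLib.Recog.Sixty.isSolvable_of_dvd_sixty (by rw [hMc]; norm_num)
          (by rw [hMc]; norm_num)
      · exact (hnp h).elim
      · exact (hnp (h ▸ (by norm_num : Nat.Prime 5))).elim

end CfsgLib.Classical.Dickson
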