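import Cfsg.Agent.Lib.Classical.Dickson.Subfield
import Cfsg.Agent.Lib.Classical.SL2Elements
import Mathlib.FieldTheory.Finite.GaloisField
import Mathlib.FieldTheory.IsAlgClosed.AlgebraicClosure

/-!
Dickson's theorem for the subgroups of `PSL(2, q)`.
-/

set_option autoImplicit false

namespace CfsgLib.Classical.Dickson

open Matrix
open scoped LinearAlgebra.Projectivization MatrixGroups Pointwise

/-! ### Element orders -/

section Orders

variable {F : Type*} [Field F] [Fintype F] (p : ℕ) [Fact p.Prime] [CharP F p]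

theorem orderOf_dvd_psl (g : ProjectiveSpecialLinearGroup (Fin 2) F)
    (hg : ¬ p ∣ orderOf g) {q : ℕ} (hF : Fintype.card F = q) :
    orderOf g ∣ (q + 1) / Nat.gcd 2 (q - 1) ∨ orderOf g ∣ (q - 1) / Nat.gcd 2 (q - 1) := by
  induction g using QuotientGroup.induction_on with | _ A =>
  obtain ⟨f, hf, hqf⟩ := exists_card_eq_prime_pow (F := F) p
  rw [hF] at hqf
  have hq2 : 2 ≤ q := hF ▸ Fintype.one_lt_card
  set π := QuotientGroup.mk' (Subgroup.center SL(2, F))
  have hz2 : ∀ z ∈ Subgroup.center SL(2, F), z ^ Nat.gcd 2 (q - 1) = 1 := fun z hz => by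
    have h : Nat.card (Subgroup.center SL(2, F)) = Nat.gcd 2 (q - 1) := by
      rw [card_center_SL, Fintype.card_fin, hF]
    rw [← h]
    exact congrArg Subtype.val (pow_card_eq_one' (x := (⟨z, hz⟩ : Subgroup.center SL(2, F))))
  set k := orderOf (π A) with hk
  have hAk : A ^ k ∈ Subgroup.center SL(2, F) := by
    rw [← QuotientGroup.eq_one_iff]
    show π (A ^ k) = 1
    rw [map_pow, hk, pow_orderOf_eq_one]
  have hAord : orderOf A ∣ k * Nat.gcd 2 (q - 1) :=
    orderOf_dvd_of_pow_eq_one (by rw [pow_mul]; exact hz2 _ hAk)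
  have hdp : Nat.Coprime (Nat.gcd 2 (q - 1)) p := by
    refine ((Fact.out : p.Prime).coprime_iff_not_dvd.2 fun h => ?_).symm
    have h2 : p ∣ q - 1 := h.trans (Nat.gcd_dvd_right _ _)
    have h1 : p ∣ q := hqf ▸ dvd_pow_self p (by omega)
    have := (Nat.dvd_sub h1 h2)
    rw [show q - (q - 1) = 1 by omega] at this
    exact (Fact.out : p.Prime).not_dvd_one this
  have hcop : Nat.Coprime (orderOf A) p := by
    refine Nat.Coprime.coprime_dvd_left hAord ?_
    exact Nat.Coprime.mul_left (((Fact.out : p.Prime).coprime_iff_not_dvd.2 hg).symm) hdp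
  have key : ∀ M : ℕ, orderOf A ∣ M → Nat.gcd 2 (q - 1) ∣ M → orderOf (π A) ∣ M / Nat.gcd 2 (q - 1) := by
    intro M hM hdM
    refine orderOf_dvd_of_pow_eq_one ?_
    rw [← map_pow]
    refine (QuotientGroup.eq_one_iff _).2 ?_
    rcases (Nat.dvd_prime Nat.prime_two).1 (Nat.gcd_dvd_left 2 (q - 1)) with hd | hd
    · rw [hd, Nat.div_one, orderOf_dvd_iff_pow_eq_one.1 hM]; exact one_mem _
    · have h2 : (2 : F) ≠ 0 := by
        intro h
        have hpd : ringChar F = p := ringChar.eq_iff.2 inferInstance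
        have : CharP F 2 := CharTwo.of_one_ne_zero_of_two_eq_zero one_ne_zero h
        have hp2 : p = 2 := CharP.eq F ‹_› ‹_›
        rw [hd, hp2] at hdp
        norm_num at hdp
      rw [hd] at hdM ⊢
      have hsq : A ^ (M / 2) * A ^ (M / 2) = 1 := by
        rw [← pow_add, show M / 2 + M / 2 = M by omega, orderOf_dvd_iff_pow_eq_one.1 hM]
      rcases Two.eq_one_or_neg_one_of_sq h2 (A ^ (M / 2)) hsq with h | h
      · exact (congrArg (· ∈ Subgroup.center SL(2, F)) (Subtype.ext h : A ^ (M / 2) = 1)).mpr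
          (one_mem _)
      · exact (congrArg (· ∈ Subgroup.center SL(2, F))
          (Subtype.ext (h.trans (by simp)) : A ^ (M / 2) = -1)).mpr
          (Subgroup.mem_center_iff.2 fun g => by rw [mul_neg, neg_mul, mul_one, one_mul])
  have hd1 : Nat.gcd 2 (q - 1) ∣ q - 1 := Nat.gcd_dvd_right _ _
  have hd2 : Nat.gcd 2 (q - 1) ∣ q + 1 := by
    have h := dvd_add hd1 (Nat.gcd_dvd_left 2 (q - 1))
    rwa [show q - 1 + 2 = q + 1 by omega] at h
  rcases Two.orderOf_dvd_of_coprime p A hcop with h | h <;> rw [hF] at h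
  · exact Or.inr (key _ h hd1)
  · exact Or.inl (key _ h hd2)

end Orders

/-! ### The embedding -/

section Embedding

variable (F : Type*) [Field F]

/-- `PSL(2, F)` inside the Möbius group of the algebraic closure. -/
noncomputable def pslEmb :
    ProjectiveSpecialLinearGroup (Fin 2) F →* Mob (AlgebraicClosure F) :=
  (ProjGenLinGroup.map (algebraMap F (AlgebraicClosure F))).comp ProjectiveSpecialLinearGroup.toPGL

theorem pglMap_injective {K L : Type*} [Field K] [Field L] (f : K →+* L) :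
    Function.Injective (ProjGenLinGroup.map (n := Fin 2) f) := by
  rw [injective_iff_map_eq_one]
  intro g hg
  induction g using ProjGenLinGroup.induction_on with | mk g =>
  rw [ProjGenLinGroup.map_mk, ProjGenLinGroup.mk_eq_one, Subgroup.mem_center_iff] at hg
  rw [ProjGenLinGroup.mk_eq_one, Subgroup.mem_center_iff]
  intro h
  have hinj : Function.Injective (GeneralLinearGroup.map (n := Fin 2) f) := fun a b e => by
    apply Units.ext
    ext i j
    have := congrArg (fun u : GL (Fin 2) L => (u : Matrix (Fin 2) (Fin 2) L) i j) e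
    exact f.injective (by simpa [GeneralLinearGroup.map] using this)
  apply hinj
  rw [map_mul, map_mul]
  exact hg _

theorem pslEmb_injective : Function.Injective (pslEmb F) :=
  (pglMap_injective _).comp ProjectiveSpecialLinearGroup.toPGL_injective

variable {F}

/-- A point of the line over `F`, seen over `L`. -/
def ptMap {L : Type*} [Field L] (f : F →+* L) : ℙ F (Fin 2 → F) → Pt L :=
  Projectivization.map (σ := f)
    ({ toFun := fun v i => f (v i)
       map_add' := fun u v => funext fun i => map_add f _ _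
       map_smul' := fun c v => funext fun i => map_mul f _ _ } : (Fin 2 → F) →ₛₗ[f] (Fin 2 → L))
    fun u v h => funext fun i => f.injective (congrFun h i)

theorem ptMap_mk {L : Type*} [Field L] (f : F →+* L) (v : Fin 2 → F) (hv : v ≠ 0) :
    ptMap f (Projectivization.mk F v hv) = Projectivization.mk L (fun i => f (v i))
      (fun h => hv (funext fun i => f.injective ((congrFun h i).trans (map_zero f).symm))) := rfl

theorem ptMap_smul {L : Type*} [Field L] (f : F →+* L) (g : ProjGenLinGroup (Fin 2) F)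
    (x : ℙ F (Fin 2 → F)) : ptMap f (g • x) = ProjGenLinGroup.map f g • ptMap f x := by
  induction g using ProjGenLinGroup.induction_on with | mk g =>
  induction x using Projectivization.ind with | _ v hv =>
  rw [Projectivization.PGL.mk_smul_mk, ptMap_mk, ptMap_mk,
    ProjGenLinGroup.map_mk, Projectivization.PGL.mk_smul_mk, Projectivization.mk_eq_mk_iff']
  refine ⟨1, funext fun i => ?_⟩
  fin_cases i <;> simp [Units.smul_def, Matrix.mulVec, dotProduct, GeneralLinearGroup.map]

theorem psl_smul (g : ProjectiveSpecialLinearGroup (Fin 2) F) (x : ℙ F (Fin 2 → F)) :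
    ProjectiveSpecialLinearGroup.toPGL g • x = g • x := by
  induction g using QuotientGroup.induction_on with | _ A =>
  induction x using Projectivization.ind with | _ v hv => rfl

theorem pglFix_conj_aff {g : Mob F} {x : Pt F} (hg : g • x = x) :
    ∃ h : Mob F, ∃ a b, h * g * h⁻¹ = aff a b ∧ h • x = inf F := by
  obtain ⟨h, hh⟩ := exists_move x
  obtain ⟨a, b, hab⟩ := exists_aff_of_fix (g := h * g * h⁻¹) (by
    rw [← hh, mul_smul, mul_smul, inv_smul_smul, hg])
  exact ⟨h, a, b, hab, hh⟩

theorem commute_of_unip (p : ℕ) [Fact p.Prime] [CharP F p] {g g' : Mob F} {x : Pt F}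
    (hg : g • x = x) (hg' : g' • x = x) (hp : g ^ p = 1) (hp' : g' ^ p = 1) : Commute g g' := by
  obtain ⟨h, a, b, hab, hh⟩ := pglFix_conj_aff hg
  obtain ⟨a', b', hab'⟩ := exists_aff_of_fix (g := h * g' * h⁻¹) (by
    rw [← hh, mul_smul, mul_smul, inv_smul_smul, hg'])
  have ha : a = 1 := by rw [← aff_pow_eq_one_iff p a b, ← hab, conj_pow, conj_eq_one_iff]; exact hp
  have ha' : a' = 1 := by
    rw [← aff_pow_eq_one_iff p a' b', ← hab', conj_pow, conj_eq_one_iff]; exact hp'
  refine (Commute.conj_iff h).1 ?_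
  rw [hab, hab', ha, ha']
  show aff (1 : Fˣ) b * aff 1 b' = aff 1 b' * aff 1 b
  simp [aff_mul, add_comm]

theorem unip_fix_unique (p : ℕ) [Fact p.Prime] [CharP F p] {g : Mob F} {x y : Pt F}
    (hg : g • x = x) (hg' : g • y = y) (hp : g ^ p = 1) (h1 : g ≠ 1) : x = y := by
  by_contra hne
  obtain ⟨h, hh, hh'⟩ := exists_move_two hne
  obtain ⟨a, ha⟩ := conj_aff_of_fix_two hh hh' hg hg'
  have ha1 : a = 1 := by rw [← aff_pow_eq_one_iff p a 0, ← ha, conj_pow, conj_eq_one_iff]; exact hp
  rw [ha1, aff_one_zero, conj_eq_one_iff] at ha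
  exact h1 ha

end Embedding

/-! ### Transport of the linear groups along field isomorphisms -/

section Transport

variable {K K' : Type*} [Field K] [Field K'] (e : K ≃+* K')

/-- `PGL₂` is functorial in the field. -/
def pglCongr : ProjGenLinGroup (Fin 2) K ≃* ProjGenLinGroup (Fin 2) K' where
  toFun := ProjGenLinGroup.map (e : K →+* K')
  invFun := ProjGenLinGroup.map (e.symm : K' →+* K)
  left_inv g := by
    rw [← MonoidHom.comp_apply, ← ProjGenLinGroup.map_comp, RingEquiv.symm_comp,
      ProjGenLinGroup.map_id, MonoidHom.id_apply]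
  right_inv g := by
    rw [← MonoidHom.comp_apply, ← ProjGenLinGroup.map_comp, RingEquiv.comp_symm,
      ProjGenLinGroup.map_id, MonoidHom.id_apply]
  map_mul' := map_mul _

/-- `SL₂` is functorial in the field. -/
def slCongr : SL(2, K) ≃* SL(2, K') where
  toFun := SpecialLinearGroup.map (e : K →+* K')
  invFun := SpecialLinearGroup.map (e.symm : K' →+* K)
  left_inv g := by ext i j; simp
  right_inv g := by ext i j; simp
  map_mul' := map_mul _

/-- `PSL₂` is functorial in the field. -/
def pslCongr : ProjectiveSpecialLinearGroup (Fin 2) K ≃* ProjectiveSpecialLinearGroup (Fin 2) K' :=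
  QuotientGroup.congr _ _ (slCongr e) (by
    ext x
    simp only [Subgroup.mem_map, Subgroup.mem_center_iff]
    constructor
    · rintro ⟨y, hy, rfl⟩ g
      obtain ⟨g, rfl⟩ := (slCongr e).surjective g
      simpa using congrArg (slCongr e) (hy g)
    · intro hx
      obtain ⟨y, rfl⟩ := (slCongr e).surjective x
      exact ⟨y, fun g => (slCongr e).injective (by simpa using hx (slCongr e g)), rfl⟩)

end Transport

/-! ### The trace invariant -/

section Trace

variable {K : Type*} [Field K]

/-- `(tr g)² / det g`, an invariant of a Möbius transformation. -/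
def traceSq (g : GL (Fin 2) K) : K :=
  (g : Matrix (Fin 2) (Fin 2) K).trace ^ 2 / (g : Matrix (Fin 2) (Fin 2) K).det

theorem traceSq_congr {g g' : GL (Fin 2) K}
    (h : (ProjGenLinGroup.mk g : Mob K) = ProjGenLinGroup.mk g') : traceSq g = traceSq g' := by
  obtain ⟨u, rfl⟩ := ProjGenLinGroup.mk_eq_mk_iff.1 h
  rw [traceSq, traceSq, Units.val_mul, GeneralLinearGroup.coe_scalar, Matrix.scalar_apply,
    ← Matrix.smul_one_eq_diagonal, Matrix.mul_smul, mul_one, Matrix.trace_smul, Matrix.det_smul,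
    Fintype.card_fin, smul_eq_mul, mul_pow, mul_div_mul_left _ _ (pow_ne_zero 2 u.ne_zero)]

theorem traceSq_conj (h g : GL (Fin 2) K) : traceSq (h * g * h⁻¹) = traceSq g := by
  rw [traceSq, traceSq, Units.val_mul, Units.val_mul, Matrix.trace_units_conj,
    Matrix.det_units_conj]

end Trace

/-! ### The theorem -/

section Main

variable {F : Type*} [Field F] [Fintype F] (p : ℕ) [Fact p.Prime] [CharP F p]

/-- A field isomorphic to `GF(p^a)` lies in `F` and `H` is `PSL₂` or `PGL₂` of it. -/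
def SubfieldCase (q : ℕ) (H : Subgroup (ProjectiveSpecialLinearGroup (Fin 2) F)) : Prop :=
  ∃ a m : ℕ, 3 ≤ p ^ a ∧ (p ^ a) ^ m = q ∧ a ≠ 0 ∧
    ((Nat.card H = p ^ a * ((p ^ a) ^ 2 - 1) ∧
        Nonempty (H ≃* ProjGenLinGroup (Fin 2) (GaloisField p a))) ∨
      (p ≠ 2 ∧ 2 * Nat.card H = p ^ a * ((p ^ a) ^ 2 - 1) ∧
        Nonempty (H ≃* ProjectiveSpecialLinearGroup (Fin 2) (GaloisField p a))))

/-- Dickson's theorem. -/
theorem subgroup_cases {q : ℕ} (hF : Fintype.card F = q)
    (H : Subgroup (ProjectiveSpecialLinearGroup (Fin 2) F)) :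
    (IsCyclic H ∧ ¬ p ∣ Nat.card H ∧ (Nat.card H ∣ (q + 1) / Nat.gcd 2 (q - 1) ∨
      Nat.card H ∣ (q - 1) / Nat.gcd 2 (q - 1))) ∨
    (p ∣ Nat.card H ∧ ∃ x : ℙ F (Fin 2 → F), ∀ g ∈ H, g • x = x) ∨
    (∃ n, 2 ≤ n ∧ ¬ p ∣ n ∧ (n ∣ (q + 1) / Nat.gcd 2 (q - 1) ∨ n ∣ (q - 1) / Nat.gcd 2 (q - 1)) ∧
      Nonempty (H ≃* DihedralGroup n)) ∨
    Nonempty (H ≃* alternatingGroup (Fin 4)) ∨
    Nonempty (H ≃* Equiv.Perm (Fin 4)) ∨
    Nonempty (H ≃* alternatingGroup (Fin 5)) ∨
    SubfieldCase p q H := by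
  classical
  let L := AlgebraicClosure F
  have : CharP L p := charP_of_injective_algebraMap (algebraMap F L).injective p
  let ι := pslEmb F
  let ε : H ≃* H.map ι := H.equivMapOfInjective ι (pslEmb_injective F)
  have : Finite (H.map ι) := Finite.of_equiv H ε.toEquiv
  have hcard : Nat.card (H.map ι) = Nat.card H := (Nat.card_congr ε.toEquiv).symm
  have hcyc : ∀ C : Subgroup (H.map ι), IsCyclic C → ¬ p ∣ Nat.card C →
      Nat.card C ∣ (q + 1) / Nat.gcd 2 (q - 1) ∨ Nat.card C ∣ (q - 1) / Nat.gcd 2 (q - 1) := by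
    intro C hC hp
    obtain ⟨c, hc⟩ := hC.exists_generator
    rw [← orderOf_eq_card_of_forall_mem_zpowers hc] at hp ⊢
    have e : orderOf ((ε.symm (c : H.map ι) : H) : ProjectiveSpecialLinearGroup (Fin 2) F) = orderOf c := by
      rw [Subgroup.orderOf_coe, MulEquiv.orderOf_eq, Subgroup.orderOf_coe]
    rw [← e] at hp ⊢
    exact orderOf_dvd_psl p _ hp hF
  rcases structure_cases (G := H.map ι) (p := p) with
      ⟨hC, hp⟩ | ⟨hp, x, hx⟩ | ⟨n, hn, hpn, ⟨C, hC, hCn⟩, ⟨ψ⟩⟩ | ⟨⟨ψ⟩⟩ | ⟨⟨ψ⟩⟩ | ⟨⟨ψ⟩⟩ | hsub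
  · refine Or.inl ⟨ε.isCyclic.2 hC, hcard ▸ hp, ?_⟩
    have htop : Nat.card (⊤ : Subgroup (H.map ι)) = Nat.card H := Subgroup.card_top.trans hcard
    rw [← htop]
    exact hcyc ⊤ (Subgroup.topEquiv.isCyclic.2 hC) (by rw [htop, ← hcard]; exact hp)
  · refine Or.inr (Or.inl ⟨hcard ▸ hp, ?_⟩)
    obtain ⟨u, hu⟩ := exists_prime_orderOf_dvd_card' (G := H) p (hcard ▸ hp)
    have hu' : (ProjectiveSpecialLinearGroup.toPGL (u : ProjectiveSpecialLinearGroup (Fin 2) F)) ^ p = 1 := by
      rw [← map_pow, ← Subgroup.coe_pow, ← hu, pow_orderOf_eq_one, OneMemClass.coe_one, map_one]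
    have hune : ProjectiveSpecialLinearGroup.toPGL (u : ProjectiveSpecialLinearGroup (Fin 2) F) ≠ 1 := fun h => by
      have : u = 1 := Subtype.ext (ProjectiveSpecialLinearGroup.toPGL_injective (h.trans (map_one _).symm))
      rw [this, orderOf_one] at hu
      exact (Fact.out : p.Prime).one_lt.ne hu
    obtain ⟨x₀, hx₀⟩ : ∃ x₀ : ℙ F (Fin 2 → F), (u : ProjectiveSpecialLinearGroup (Fin 2) F) • x₀ = x₀ := by
      have hP : IsPGroup p (Subgroup.zpowers (u : ProjectiveSpecialLinearGroup (Fin 2) F)) :=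
        IsPGroup.of_card (n := 1) (by rw [Nat.card_zpowers, Subgroup.orderOf_coe, hu, pow_one])
      obtain ⟨x₀, hx₀⟩ := hP.nonempty_fixed_point_of_prime_not_dvd_card (ℙ F (Fin 2 → F)) (by
        rw [Two.card_line, hF]
        intro h
        obtain ⟨f, hf, hqf⟩ := exists_card_eq_prime_pow (F := F) p
        have h2 : p ∣ q := hF ▸ hqf ▸ dvd_pow_self p (by omega)
        exact (Fact.out : p.Prime).not_dvd_one ((Nat.dvd_add_right h2).1 h))
      exact ⟨x₀, hx₀ ⟨_, Subgroup.mem_zpowers _⟩⟩
    have hu0 : ProjectiveSpecialLinearGroup.toPGL (u : ProjectiveSpecialLinearGroup (Fin 2) F) • x₀ = x₀ := by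
      rw [psl_smul]; exact hx₀
    refine ⟨x₀, fun g hg => ?_⟩
    set g' := ProjectiveSpecialLinearGroup.toPGL g with hg'
    set u' := ProjectiveSpecialLinearGroup.toPGL (u : ProjectiveSpecialLinearGroup (Fin 2) F) with hu''
    set v := g' * u' * g'⁻¹ with hv
    have hLfix : ∀ a ∈ H, ProjGenLinGroup.map (algebraMap F L) (ProjectiveSpecialLinearGroup.toPGL a) • x = x :=
      fun a ha => hx ⟨ι a, a, ha, rfl⟩
    have hvfix : ProjGenLinGroup.map (algebraMap F L) v • x = x := by
      rw [hv, map_mul, map_mul, map_inv, mul_smul, mul_smul,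
        inv_smul_eq_iff.2 (hLfix g hg).symm, hLfix _ u.2, hLfix g hg]
    have hcomm : Commute v u' := by
      have h := commute_of_unip p hvfix (hLfix _ u.2)
        (by rw [← map_pow, hv, conj_pow, hu', mul_one, mul_inv_cancel, map_one])
        (by rw [← map_pow, hu', map_one])
      exact pglMap_injective (algebraMap F L)
        ((map_mul _ v u').trans (h.eq.trans (map_mul _ u' v).symm))
    have h1 : u' • (g' • x₀) = g' • x₀ := by
      have hv1 : v • (g' • x₀) = g' • x₀ := by rw [hv, mul_smul, mul_smul, inv_smul_smul, hu0]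
      have hv2 : v • (u' • (g' • x₀)) = u' • (g' • x₀) := by rw [← mul_smul, hcomm.eq, mul_smul, hv1]
      exact unip_fix_unique p hv2 hv1 (by rw [hv, conj_pow, hu', mul_one, mul_inv_cancel])
        (fun h => hune (conj_eq_one_iff.1 h))
    rw [← psl_smul]
    exact unip_fix_unique p h1 hu0 hu' hune
  · exact Or.inr (Or.inr (Or.inl ⟨n, hn, hpn, hCn ▸ hcyc C hC (hCn ▸ hpn), ⟨ε.trans ψ⟩⟩))
  · exact Or.inr (Or.inr (Or.inr (Or.inl ⟨ε.trans ψ⟩)))
  · exact Or.inr (Or.inr (Or.inr (Or.inr (Or.inl ⟨ε.trans ψ⟩))))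
  · exact Or.inr (Or.inr (Or.inr (Or.inr (Or.inr (Or.inl ⟨ε.trans ψ⟩)))))
  · refine Or.inr (Or.inr (Or.inr (Or.inr (Or.inr (Or.inr ?_)))))
    obtain ⟨x, z, a, e, c, hf3, hun, hk, hst, hN, he, he2, hrest⟩ := hsub
    have hsub : SubfieldData (H.map ι) p :=
      ⟨x, z, a, e, c, hf3, hun, hk, hst, hN, he, he2, hrest⟩
    obtain ⟨K, h, hKfin, hcase⟩ := exists_subfield hsub
    have : Fintype K := Fintype.ofFinite K
    have hconj : ∀ S : Subgroup (Mob L), (H.map ι).map (MulAut.conj h).toMonoidHom = S →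
        Nonempty (H ≃* S) := fun S hS =>
      ⟨ε.trans (((H.map ι).equivMapOfInjective _ (MulAut.conj h).injective).trans
        (MulEquiv.subgroupCongr hS))⟩
    -- `K` lies in the image of `F`
    let F' := (algebraMap F L).fieldRange
    have hsqmem : ∀ b ∈ K, b ^ 2 ∈ F' := by
      intro b hb
      have hM : ∃ A : SL(2, K), (A : Matrix (Fin 2) (Fin 2) K) = !![⟨b, hb⟩, -1; 1, 0] :=
        ⟨⟨_, by simp [det_fin_two]⟩, rfl⟩
      obtain ⟨A, hA⟩ := hM
      have hmem : mapPSL K (QuotientGroup.mk A) ∈ (H.map ι).map (MulAut.conj h).toMonoidHom := by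
        rcases hcase with hc | ⟨-, hc⟩ <;> rw [hc]
        · exact ⟨ProjectiveSpecialLinearGroup.toPGL (QuotientGroup.mk A), rfl⟩
        · exact ⟨_, rfl⟩
      obtain ⟨g, ⟨g₀, -, rfl⟩, hg⟩ := hmem
      obtain ⟨B, rfl⟩ := QuotientGroup.mk_surjective g₀
      obtain ⟨h', rfl⟩ := ProjGenLinGroup.mk_surjective h
      have hg' : (ProjGenLinGroup.mk (h' * GeneralLinearGroup.map (algebraMap F L)
          (SpecialLinearGroup.toGL B) * h'⁻¹) : Mob L) =
          ProjGenLinGroup.mk (GeneralLinearGroup.map K.subtype (SpecialLinearGroup.toGL A)) := by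
        rw [map_mul, map_mul, map_inv]
        exact hg
      have ht := traceSq_congr hg'
      rw [traceSq_conj] at ht
      refine ⟨(B : Matrix (Fin 2) (Fin 2) F).trace ^ 2, ?_⟩
      simp [traceSq, GeneralLinearGroup.map, Matrix.trace_fin_two, Matrix.det_fin_two, hA] at ht
      have hB : (B : Matrix (Fin 2) (Fin 2) F).det = 1 := B.2
      rw [Matrix.det_fin_two] at hB
      rw [← ht, Matrix.trace_fin_two, map_pow, map_add]
      rw [← map_mul, ← map_mul, ← map_sub, hB, map_one, div_one]
    have hKF : K ≤ F' := by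
      intro b hb
      by_cases hp2 : p = 2
      · have : CharP L 2 := hp2 ▸ ‹CharP L p›
        let sq : K → K := fun s => s ^ 2
        have hinj : Function.Injective sq := fun s t hst =>
          Subtype.ext (frobenius_inj L 2 (show (s : L) ^ 2 = (t : L) ^ 2 from congrArg Subtype.val hst))
        obtain ⟨s, hs⟩ := Finite.injective_iff_surjective.1 hinj ⟨b, hb⟩
        have h1 := hsqmem s s.2
        rwa [show (s : L) ^ 2 = b by simpa [sq] using congrArg Subtype.val hs] at h1
      · have h2 : (2 : L) ≠ 0 := by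
          intro h0
          have : CharP L 2 := CharTwo.of_one_ne_zero_of_two_eq_zero one_ne_zero h0
          exact hp2 (CharP.eq L ‹CharP L p› ‹CharP L 2›)
        have e1 : b = ((b + 1) ^ 2 - b ^ 2 - 1) / 2 := by field_simp; ring
        rw [e1]
        exact F'.div_mem (F'.sub_mem (F'.sub_mem (hsqmem _ (K.add_mem hb K.one_mem)) (hsqmem b hb))
          F'.one_mem) (by rw [show (2 : L) = 1 + 1 by norm_num]; exact F'.add_mem F'.one_mem F'.one_mem)
    have hpsl : Nat.gcd 2 (Fintype.card K - 1) *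
        Nat.card (ProjectiveSpecialLinearGroup (Fin 2) K) =
        Fintype.card K * (Fintype.card K ^ 2 - 1) := Two.card_PSL_two
    have hpgl : Nat.card (ProjGenLinGroup (Fin 2) K) = Fintype.card K * (Fintype.card K ^ 2 - 1) := by
      rw [card_PGL_eq_card_SL, Two.card_SL_two]
    obtain ⟨a', ha', hKa⟩ : ∃ a' : ℕ, a' ≠ 0 ∧ Fintype.card K = p ^ a' := by
      have : CharP K p := RingHom.charP K.subtype Subtype.val_injective p
      obtain ⟨n, -, hn⟩ := FiniteField.card K p
      exact ⟨n, n.ne_zero, hn⟩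
    have hG : Nat.card (GaloisField p a') = p ^ a' := GaloisField.card p a' ha'
    have : Fintype (GaloisField p a') := Fintype.ofFinite _
    let eK : K ≃+* GaloisField p a' :=
      FiniteField.ringEquivOfCardEq (by rw [hKa, ← hG, Nat.card_eq_fintype_card])
    obtain ⟨m, hm⟩ : ∃ m, (p ^ a') ^ m = q := by
      let j : K →+* F' := Subfield.inclusion hKF
      let _ : Algebra K F' := j.toAlgebra
      have hF'fin : Finite F' := Finite.of_surjective _ (algebraMap F L).rangeRestrictField_bijective.2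
      have : Fintype F' := Fintype.ofFinite F'
      have hF' : Fintype.card F' = q := by
        rw [← hF, Fintype.card_eq.2 ⟨(Equiv.ofBijective _ (algebraMap F L).rangeRestrictField_bijective).symm⟩]
      exact ⟨Module.finrank K F', by rw [← hKa, ← Module.card_eq_pow_finrank, hF']⟩
    refine ⟨a', m, ?_, hm, ha', ?_⟩
    · have hdeg : p ^ a ≤ p ^ a' := by
        have hle : Nat.card H ≤ Nat.card (ProjGenLinGroup (Fin 2) K) := by
          have : Finite (ProjGenLinGroup (Fin 2) K) := Nat.finite_of_card_ne_zero (by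
            rw [hpgl]
            refine Nat.mul_ne_zero Fintype.card_ne_zero (Nat.sub_ne_zero_of_lt ?_)
            exact Nat.one_lt_pow two_ne_zero Fintype.one_lt_card)
          rcases hcase with hc | ⟨-, hc⟩ <;> obtain ⟨φ⟩ := hconj _ hc <;>
            rw [Nat.card_congr φ.toEquiv]
          · exact Finite.card_range_le _
          · exact le_trans (le_of_eq (Nat.card_congr
              (MonoidHom.ofInjective (mapPSL_injective K)).toEquiv).symm)
              (Nat.card_le_card_of_injective _ ProjectiveSpecialLinearGroup.toPGL_injective)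
        rw [← hcard, hN, hpgl, hKa] at hle
        by_contra hlt
        push Not at hlt
        have hk' : 2 ≤ e := he2
        have h1 : p ^ a' ≥ 2 := hKa ▸ Fintype.one_lt_card
        have hpa : 2 * p ^ a' ≤ p ^ a := by
          have hlt' : a' < a := (Nat.pow_lt_pow_iff_right (Fact.out : p.Prime).one_lt).1 hlt
          calc 2 * p ^ a' ≤ p * p ^ a' := Nat.mul_le_mul_right _ (Fact.out : p.Prime).two_le
            _ = p ^ (a' + 1) := (pow_succ' p a').symm
            _ ≤ p ^ a := Nat.pow_le_pow_right (Fact.out : p.Prime).pos hlt'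
        have h2 : e * 2 + 1 ≥ p ^ a := by rcases he with he | he <;> omega
        have h3 : p ^ a' * ((p ^ a') ^ 2 - 1) < (p ^ a + 1) * (p ^ a * e) := by
          have h4 : (p ^ a') ^ 2 - 1 ≤ p ^ a' * p ^ a' := by rw [pow_two]; omega
          have h5 := Nat.mul_le_mul_left (p ^ a') h4
          have he' : p ^ a' ≤ e := by omega
          have h6 : (2 * p ^ a') * p ^ a' ≤ p ^ a * e := Nat.mul_le_mul hpa he'
          have h7 : (2 * p ^ a' + 1) * ((2 * p ^ a') * p ^ a') ≤ (p ^ a + 1) * (p ^ a * e) :=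
            Nat.mul_le_mul (by omega) h6
          nlinarith [h5, h7, h1]
        omega
      omega
    · rcases hcase with hc | ⟨hp2, hc⟩ <;> obtain ⟨φ⟩ := hconj _ hc
      · refine Or.inl ⟨?_, ⟨φ.trans ((MonoidHom.ofInjective (mapPGL_injective K)).symm.trans
          (pglCongr eK))⟩⟩
        rw [Nat.card_congr φ.toEquiv,
          ← Nat.card_congr (MonoidHom.ofInjective (mapPGL_injective K)).toEquiv, hpgl, hKa]
      · refine Or.inr ⟨hp2, ?_, ⟨φ.trans ((MonoidHom.ofInjective (mapPSL_injective K)).symm.trans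
          (pslCongr eK))⟩⟩
        rw [Nat.card_congr φ.toEquiv,
          ← Nat.card_congr (MonoidHom.ofInjective (mapPSL_injective K)).toEquiv, ← hKa, ← hpsl]
        congr 1
        have hodd : Fintype.card K % 2 = 1 := by
          rw [hKa]
          exact Nat.odd_iff.1 (((Fact.out : p.Prime).odd_of_ne_two hp2).pow)
        rw [Nat.gcd_eq_left (by omega)]

end Main

end CfsgLib.Classical.Dickson
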