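import Cfsg.Agent.Lib.Classical.Dickson.Platonic

/-!
Which `PSL(2, q)` contain `A₄`, `S₄`, `A₅`.
-/

set_option autoImplicit false

namespace CfsgLib.Classical.Dickson

open Matrix
open scoped LinearAlgebra.Projectivization MatrixGroups

section Map

variable {K F : Type*} [Field K] [Field F] (f : K →+* F)

/-- `PSL₂` along a field embedding. -/
def pslMap : ProjectiveSpecialLinearGroup (Fin 2) K →* ProjectiveSpecialLinearGroup (Fin 2) F :=
  QuotientGroup.map _ _ (SpecialLinearGroup.map f) (by
    intro A hA
    rw [Matrix.SpecialLinearGroup.mem_center_iff] at hA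
    rw [Subgroup.mem_comap, Matrix.SpecialLinearGroup.mem_center_iff]
    obtain ⟨r, hr, hA⟩ := hA
    refine ⟨f r, by rw [← map_pow, hr, map_one], ?_⟩
    ext i j
    have h := congrFun (congrFun hA i) j
    simp only [Matrix.scalar_apply, Matrix.diagonal_apply] at h
    simp only [SpecialLinearGroup.map_apply_coe, RingHom.mapMatrix_apply, Matrix.map_apply, ← h,
      Matrix.scalar_apply, Matrix.diagonal_apply]
    split <;> simp)

theorem toPGL_pslMap (g : ProjectiveSpecialLinearGroup (Fin 2) K) :
    ProjectiveSpecialLinearGroup.toPGL (pslMap f g) =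
      ProjGenLinGroup.map f (ProjectiveSpecialLinearGroup.toPGL g) := by
  induction g using QuotientGroup.induction_on with | _ A =>
  rw [pslMap, QuotientGroup.map_mk, ProjectiveSpecialLinearGroup.toPGL_mk,
    ProjectiveSpecialLinearGroup.toPGL_mk, ProjGenLinGroup.map_mk]
  congr 1
  exact Units.ext rfl

theorem pslMap_injective : Function.Injective (pslMap f) := by
  intro x y h
  refine ProjectiveSpecialLinearGroup.toPGL_injective (pglMap_injective f ?_)
  rw [← toPGL_pslMap, ← toPGL_pslMap, h]

end Map

/-- `A₄` sits inside `A₅`. -/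
theorem exists_alt_four_five :
    ∃ φ : alternatingGroup (Fin 4) →* alternatingGroup (Fin 5), Function.Injective φ := by
  let ψ : Equiv.Perm (Fin 4) →* Equiv.Perm (Fin 5) :=
    Equiv.Perm.extendDomainHom (finSuccAboveEquiv (0 : Fin 5))
  have hmem : ∀ g : alternatingGroup (Fin 4), ψ g ∈ alternatingGroup (Fin 5) := fun g => by
    rw [Equiv.Perm.mem_alternatingGroup]
    exact (Equiv.Perm.sign_extendDomain _ _).trans g.2
  refine ⟨(ψ.comp (alternatingGroup (Fin 4)).subtype).codRestrict _ hmem, fun x y h => ?_⟩
  exact Subtype.ext (Equiv.Perm.extendDomainHom_injective _ (congrArg Subtype.val h))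

section Finite

variable {F : Type*} [Field F] [Fintype F]

theorem exists_sq_add_sq_eq_neg_one : ∃ a b : F, a * a + b * b = -1 := by
  obtain ⟨p, hp⟩ := CharP.exists F
  have : Fact p.Prime := ⟨CharP.char_is_prime F p⟩
  obtain ⟨a, b, h⟩ := CharP.sq_add_sq F p (-1)
  exact ⟨a, b, by simpa [pow_two] using h⟩

theorem mul_self_eq_trace (A : SL(2, F)) :
    (A : Matrix (Fin 2) (Fin 2) F) * A = (A : Matrix (Fin 2) (Fin 2) F).trace • (A : Matrix (Fin 2) (Fin 2) F) - 1 := by
  have hd := A.2
  rw [Matrix.det_fin_two] at hd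
  ext i j
  fin_cases i <;> fin_cases j <;>
    simp [Matrix.mul_apply, Fin.sum_univ_two, Matrix.trace_fin_two] <;>
    first | linear_combination -hd | ring

/-- `x² = x + 1` has a root when `5 ∣ q (q² - 1)`. -/
theorem exists_golden (h5 : 5 ∣ Fintype.card F * (Fintype.card F ^ 2 - 1)) :
    ∃ u : F, u * u = u + 1 := by
  have : Fact (Nat.Prime 5) := ⟨by norm_num⟩
  obtain ⟨A, hA⟩ := exists_prime_orderOf_dvd_card' (G := SL(2, F)) 5
    (by rw [Two.card_SL_two]; exact h5)
  set M : Matrix (Fin 2) (Fin 2) F := A.1 with hMdef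
  set t := M.trace
  have h2 : M * M = t • M - 1 := mul_self_eq_trace A
  have hpow : M * M * M * M * M = 1 := by
    have h : A * A * A * A * A = 1 := by
      rw [← pow_orderOf_eq_one A, hA]; simp [pow_succ]
    exact congrArg Subtype.val h
  have h3 : M * M * M = (t ^ 2 - 1) • M - t • 1 := by
    rw [h2, sub_mul, smul_mul_assoc, h2, one_mul]; module
  have h4 : M * M * M * M = (t ^ 3 - 2 * t) • M - (t ^ 2 - 1) • 1 := by
    rw [h3, sub_mul, smul_mul_assoc, smul_mul_assoc, h2, one_mul]; module
  have h5 : M * M * M * M * M = (t ^ 4 - 3 * t ^ 2 + 1) • M - (t ^ 3 - 2 * t) • 1 := by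
    rw [h4, sub_mul, smul_mul_assoc, smul_mul_assoc, h2, one_mul]; module
  rw [hpow] at h5
  by_cases hc : t ^ 4 - 3 * t ^ 2 + 1 = 0
  · rcases mul_eq_zero.1 (show (t * t - t - 1) * (t * t + t - 1) = 0 by linear_combination hc)
      with h | h
    · exact ⟨t, by linear_combination h⟩
    · exact ⟨-t, by linear_combination h⟩
  · exfalso
    set c := t ^ 4 - 3 * t ^ 2 + 1
    set s := c⁻¹ * (1 + (t ^ 3 - 2 * t))
    have hM : M = s • (1 : Matrix (Fin 2) (Fin 2) F) := by
      rw [mul_smul]
      conv_rhs => rw [show (1 + (t ^ 3 - 2 * t)) • (1 : Matrix (Fin 2) (Fin 2) F) = c • M by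
        rw [add_smul, one_smul]; exact eq_sub_iff_add_eq.1 h5]
      rw [inv_smul_smul₀ hc]
    have hs2 : s ^ 2 = 1 := by
      have hd : M.det = 1 := A.2
      rw [hM, Matrix.det_smul, Matrix.det_one, mul_one, Fintype.card_fin] at hd
      exact hd
    rw [hM] at hpow
    simp only [smul_mul_assoc, mul_smul_comm, mul_one, smul_smul] at hpow
    have hs5 := congrFun (congrFun hpow 0) 0
    simp at hs5
    have hs : s = 1 := by linear_combination (-(s ^ 3) - s) * hs2 + hs5
    have : A = 1 := Subtype.ext (by rw [← hMdef, hM, hs, one_smul]; rfl)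
    rw [this, orderOf_one] at hA
    norm_num at hA

/-- The subfield with four elements generated by a root of `x² = x + 1` in characteristic two. -/
def fourField (h2 : (2 : F) = 0) {u : F} (hu : u * u = u + 1) : Subfield F where
  carrier := {0, 1, u, u + 1}
  zero_mem' := by simp
  one_mem' := by simp
  add_mem' := by
    intro x y hx hy
    simp only [Set.mem_insert_iff, Set.mem_singleton_iff] at hx hy ⊢
    rcases hx with hx | hx | hx | hx <;> rcases hy with hy | hy | hy | hy <;> rw [hx, hy] <;>
      first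
      | (left; ring1)
      | (left; linear_combination h2)
      | (left; linear_combination u * h2)
      | (left; linear_combination (u + 1) * h2)
      | (right; left; ring1)
      | (right; left; linear_combination u * h2)
      | (right; right; left; ring1)
      | (right; right; left; linear_combination h2)
      | (right; right; right; ring1)
  neg_mem' := by
    intro x hx
    rwa [show -x = x by linear_combination -x * h2]
  mul_mem' := by
    intro x y hx hy
    simp only [Set.mem_insert_iff, Set.mem_singleton_iff] at hx hy ⊢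
    rcases hx with hx | hx | hx | hx <;> rcases hy with hy | hy | hy | hy <;> rw [hx, hy] <;>
      first
      | (left; ring1)
      | (right; left; ring1)
      | (right; left; linear_combination hu + u * h2)
      | (right; right; left; ring1)
      | (right; right; left; linear_combination hu + (u + 1) * h2)
      | (right; right; right; ring1)
      | (right; right; right; linear_combination hu)
  inv_mem' := by
    intro x hx
    simp only [Set.mem_insert_iff, Set.mem_singleton_iff] at hx ⊢
    rcases hx with hx | hx | hx | hx <;> rw [hx]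
    · simp
    · simp
    · exact Or.inr (Or.inr (Or.inr (inv_eq_of_mul_eq_one_right
        (by linear_combination hu + u * h2))))
    · exact Or.inr (Or.inr (Or.inl (inv_eq_of_mul_eq_one_right
        (by linear_combination hu + u * h2))))

/-- `A₅` lies in `PSL(2, q)` when `x² = x + 1` has a root. -/
theorem exists_alt_five_psl {u : F} (hu : u * u = u + 1) :
    ∃ φ : alternatingGroup (Fin 5) →* ProjectiveSpecialLinearGroup (Fin 2) F,
      Function.Injective φ := by
  classical
  by_cases h2 : (2 : F) = 0
  · let K := fourField h2 hu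
    have : Fintype K := Fintype.ofFinite K
    have hu0 : u ≠ 0 := by rintro rfl; simp at hu
    have hu1 : u ≠ 1 := by
      rintro rfl
      exact one_ne_zero (show (1 : F) = 0 by linear_combination hu + h2)
    have hcard : Fintype.card K = 4 := by
      rw [← Nat.card_eq_fintype_card]
      show Nat.card ({0, 1, u, u + 1} : Set F) = 4
      rw [Nat.card_coe_set_eq, Set.ncard_insert_of_notMem, Set.ncard_insert_of_notMem,
        Set.ncard_pair]
      · intro h; exact one_ne_zero (show (1 : F) = 0 by linear_combination -h)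
      · simp only [Set.mem_insert_iff, Set.mem_singleton_iff, not_or]
        exact ⟨hu1.symm, fun h => hu0 (by linear_combination -h)⟩
      · simp only [Set.mem_insert_iff, Set.mem_singleton_iff, not_or]
        exact ⟨zero_ne_one, hu0.symm, fun h => hu1 (by linear_combination -h - h2)⟩
    have hc := Two.card_PSL_two (F := K)
    rw [hcard] at hc
    norm_num at hc
    obtain ⟨e⟩ := Two.psl_two_equiv_alternating (F := K) (k := 5) (by norm_num) (by omega)
      (by rw [Nat.card_eq_fintype_card, hc]; rfl)
    exact ⟨(pslMap K.subtype).comp e.symm.toMonoidHom,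
      (pslMap_injective _).comp e.symm.injective⟩
  · obtain ⟨a, b, hab⟩ := exists_sq_add_sq_eq_neg_one (F := F)
    exact exists_alt_five hab h2 hu

theorem alt_five_iff {q : ℕ} (hF : Fintype.card F = q) :
    (∃ H : Subgroup (ProjectiveSpecialLinearGroup (Fin 2) F),
      Nonempty (H ≃* alternatingGroup (Fin 5))) ↔ 5 ∣ q * (q ^ 2 - 1) := by
  constructor
  · rintro ⟨H, ⟨e⟩⟩
    rw [← hF, ← Two.card_PSL_two]
    refine Dvd.dvd.mul_left (dvd_trans ?_ H.card_subgroup_dvd_card) _
    rw [Nat.card_congr e.toEquiv, nat_card_alternatingGroup, Nat.card_fin]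
    decide
  · intro h
    obtain ⟨u, hu⟩ := exists_golden (F := F) (hF.symm ▸ h)
    obtain ⟨φ, hφ⟩ := exists_alt_five_psl hu
    exact ⟨φ.range, ⟨(MonoidHom.ofInjective hφ).symm⟩⟩

theorem perm_four_iff {q : ℕ} (hF : Fintype.card F = q) :
    (∃ H : Subgroup (ProjectiveSpecialLinearGroup (Fin 2) F),
      Nonempty (H ≃* Equiv.Perm (Fin 4))) ↔ q ^ 2 % 16 = 1 := by
  obtain ⟨p, hp⟩ := CharP.exists F
  have : Fact p.Prime := ⟨CharP.char_is_prime F p⟩
  obtain ⟨f, hf, hqf⟩ := exists_card_eq_prime_pow (F := F) p
  rw [hF] at hqf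
  have hmod : q ^ 2 % 16 = 1 ↔ q % 8 = 1 ∨ q % 8 = 7 := by
    rw [pow_two, Nat.mul_mod]
    have : q % 8 = q % 16 % 8 := (Nat.mod_mod_of_dvd q (by norm_num)).symm
    rw [this]
    have hlt : q % 16 < 16 := Nat.mod_lt _ (by norm_num)
    generalize q % 16 = r at hlt ⊢
    interval_cases r <;> decide
  constructor
  · rintro ⟨H, ⟨e⟩⟩
    let g : H := e.symm (finRotate 4)
    have hg : orderOf (g : ProjectiveSpecialLinearGroup (Fin 2) F) = 4 := by
      rw [Subgroup.orderOf_coe, MulEquiv.orderOf_eq]
      exact (orderOf_eq_prime_pow (p := 2) (n := 1) (by decide) (by decide)).trans rfl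
    by_cases hp2 : p = 2
    · exfalso
      subst hp2
      have h2 : (2 : F) = 0 := by exact_mod_cast CharP.cast_eq_zero F 2
      obtain ⟨A, hA⟩ := QuotientGroup.mk_surjective (g : ProjectiveSpecialLinearGroup (Fin 2) F)
      have hbot : Subgroup.center SL(2, F) = ⊥ := by
        rw [← Subgroup.card_eq_one, card_center_SL, Fintype.card_fin, hF, hqf]
        have hpos : 1 ≤ 2 ^ f := Nat.one_le_two_pow
        obtain ⟨k, rfl⟩ : ∃ k, f = k + 1 := ⟨f - 1, by omega⟩
        rw [Nat.gcd_comm, ← Nat.coprime_iff_gcd_eq_one, Nat.coprime_two_right]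
        exact Nat.Even.sub_odd hpos ⟨2 ^ k, by ring⟩ odd_one
      have hA4 : A ^ 4 = 1 := by
        rw [← Subgroup.mem_bot, ← hbot, ← QuotientGroup.eq_one_iff, QuotientGroup.mk_pow, hA, ← hg,
          pow_orderOf_eq_one]
      have hA2 : A ^ 2 = 1 := by
        rw [pow_two]
        apply Subtype.ext
        have h4 : A.1 * A.1 * (A.1 * A.1) = 1 := by
          have := congrArg Subtype.val (show A * A * (A * A) = 1 by
            rw [← pow_two, ← pow_two, ← pow_mul]; exact hA4)
          exact this
        show A.1 * A.1 = 1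
        set M : Matrix (Fin 2) (Fin 2) F := A.1
        set t := M.trace
        have hq : M * M = t • M - 1 := mul_self_eq_trace A
        rw [hq] at h4 ⊢
        simp only [sub_mul, mul_sub, one_mul, mul_one, smul_mul_assoc, mul_smul_comm, hq] at h4
        by_cases ht : t = 0
        · rw [ht, zero_smul, zero_sub]
          ext i j
          simp only [Matrix.neg_apply]
          linear_combination -((1 : Matrix (Fin 2) (Fin 2) F) i j) * h2
        · have e : ∀ i j, t * M i j = (1 : Matrix (Fin 2) (Fin 2) F) i j := by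
            intro i j
            have h := congrFun (congrFun h4 i) j
            simp [smul_sub] at h
            refine mul_left_cancel₀ (pow_ne_zero 2 ht) ?_
            linear_combination h + t * M i j * h2
          ext i j
          simp only [Matrix.sub_apply, Matrix.smul_apply, smul_eq_mul, e]
          have hd : M.det = 1 := A.2
          by_cases hij : i = j
          · subst hij
            simp only [Matrix.one_apply_eq, sub_self]
            exfalso
            have hM : M = t⁻¹ • (1 : Matrix (Fin 2) (Fin 2) F) := by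
              ext k l
              rw [Matrix.smul_apply, smul_eq_mul, ← e, inv_mul_cancel_left₀ ht]
            have htr : t = 0 := by
              show M.trace = 0
              rw [hM, Matrix.trace_smul, Matrix.trace_one, Fintype.card_fin]
              simp [h2]
            exact ht htr
          · simp [Matrix.one_apply_ne hij]
      have h1 : (g : ProjectiveSpecialLinearGroup (Fin 2) F) ^ 2 = 1 := by
        rw [← hA, ← QuotientGroup.mk_pow, hA2]; rfl
      have := orderOf_dvd_of_pow_eq_one h1
      rw [hg] at this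
      norm_num at this
    · have hodd : q % 2 = 1 := by
        rw [hqf, Nat.pow_mod, ((Fact.out : p.Prime).eq_two_or_odd).resolve_left hp2, one_pow]; rfl
      have hd : Nat.gcd 2 (q - 1) = 2 :=
        Nat.gcd_eq_left (by omega)
      have h := orderOf_dvd_psl p (g : ProjectiveSpecialLinearGroup (Fin 2) F) (by
        rw [hg]
        intro h
        exact hp2 ((Nat.prime_dvd_prime_iff_eq Fact.out Nat.prime_two).1
          ((Fact.out : p.Prime).dvd_of_dvd_pow (show p ∣ 2 ^ 2 by norm_num; exact h)))) hF
      rw [hg, hd] at h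
      rw [hmod]
      omega
  · intro h
    have hq := hmod.1 h
    have h2 : (2 : F) ≠ 0 := by
      intro h0
      have : CharP F 2 := CharTwo.of_one_ne_zero_of_two_eq_zero one_ne_zero h0
      have hp2 : p = 2 := CharP.eq F hp this
      rw [hqf, hp2] at hq
      obtain ⟨k, rfl⟩ : ∃ k, f = k + 1 := ⟨f - 1, by omega⟩
      rw [pow_succ] at hq
      omega
    obtain ⟨a, b, hab⟩ := exists_sq_add_sq_eq_neg_one (F := F)
    obtain ⟨φ, hφ⟩ := exists_perm_four hab h2 (FiniteField.isSquare_two_iff.2 (by omega))
    exact ⟨φ.range, ⟨(MonoidHom.ofInjective hφ).symm⟩⟩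

theorem alt_four_iff (p n : ℕ) [Fact p.Prime] [CharP F p] (hF : Fintype.card F = p ^ n) :
    (∃ H : Subgroup (ProjectiveSpecialLinearGroup (Fin 2) F),
      Nonempty (H ≃* alternatingGroup (Fin 4))) ↔ ¬ (p = 2 ∧ Odd n) := by
  constructor
  · rintro ⟨H, ⟨e⟩⟩ ⟨rfl, hn⟩
    let ι : alternatingGroup (Fin 4) →* Mob F :=
      (ProjectiveSpecialLinearGroup.toPGL.comp H.subtype).comp e.symm.toMonoidHom
    have hι : Function.Injective ι :=
      (ProjectiveSpecialLinearGroup.toPGL_injective.comp Subtype.val_injective).comp e.symm.injective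
    obtain ⟨t, w, ht1, ht2, hw1, hw3, hcomm⟩ : ∃ t w : alternatingGroup (Fin 4),
        t ≠ 1 ∧ t ^ 2 = 1 ∧ w ≠ 1 ∧ w ^ 3 = 1 ∧ Commute (w * t * w⁻¹) t := by
      refine ⟨⟨Equiv.swap 0 1 * Equiv.swap 2 3, Equiv.Perm.mem_alternatingGroup.2 (by decide)⟩,
        ⟨Equiv.swap 0 1 * Equiv.swap 1 2, Equiv.Perm.mem_alternatingGroup.2 (by decide)⟩, by decide, by decide, by decide, by decide,
        (show _ * _ = _ * _ by decide)⟩
    set T := ι t
    set W := ι w
    have hT : T ^ 2 = 1 := by rw [← map_pow, ht2, map_one]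
    have hT1 : T ≠ 1 := fun h => ht1 (hι (h.trans (map_one ι).symm))
    have hW : W ^ 3 = 1 := by rw [← map_pow, hw3, map_one]
    have hW1 : W ≠ 1 := fun h => hw1 (hι (h.trans (map_one ι).symm))
    have hn0 : n ≠ 0 := by rintro rfl; simp at hn
    obtain ⟨x, hx⟩ : ∃ x : ℙ F (Fin 2 → F), T • x = x := by
      have hP : IsPGroup 2 (Subgroup.zpowers T) :=
        IsPGroup.of_card (n := 1) (by rw [Nat.card_zpowers, orderOf_eq_prime hT hT1, pow_one])
      obtain ⟨x, hx⟩ := hP.nonempty_fixed_point_of_prime_not_dvd_card (ℙ F (Fin 2 → F)) (by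
        rw [Two.card_line, hF]
        have : 2 ∣ 2 ^ n := dvd_pow_self 2 hn0
        omega)
      exact ⟨x, hx ⟨_, Subgroup.mem_zpowers _⟩⟩
    have hT' : (W * T * W⁻¹) ^ 2 = 1 := by rw [conj_pow, hT, mul_one, mul_inv_cancel]
    have hT'1 : W * T * W⁻¹ ≠ 1 := fun h => hT1 (conj_eq_one_iff.1 h)
    have hc : Commute (W * T * W⁻¹) T := by
      have := hcomm.map ι
      simpa using this
    have h1 : (W * T * W⁻¹) • x = x := by
      refine unip_fix_unique 2 ?_ hx hT hT1
      rw [← mul_smul, ← hc.eq, mul_smul, hx]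
    have h2 : W • x = x := by
      refine unip_fix_unique 2 ?_ h1 hT' hT'1
      rw [mul_smul, mul_smul, inv_smul_smul, hx]
    obtain ⟨h, a, b, hab, -⟩ := pglFix_conj_aff h2
    obtain ⟨b', hb'⟩ := aff_pow_fst a b 3
    have ha3 : a ^ 3 = 1 := by
      have : (h * W * h⁻¹) ^ 3 = 1 := by rw [conj_pow, hW, mul_one, mul_inv_cancel]
      rw [hab, hb', ← aff_one_zero, aff_eq_iff] at this
      exact this.1
    have ha1 : a ≠ 1 := by
      intro ha
      have h' : (h * W * h⁻¹) ^ 2 = 1 := by rw [hab, ha]; exact aff_pow_char 2 b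
      rw [conj_pow, conj_eq_one_iff] at h'
      apply hW1
      calc W = W ^ 3 * (W ^ 2)⁻¹ := by group
        _ = 1 := by rw [hW, h', inv_one, mul_one]
    classical
    have hdvd : 3 ∣ Fintype.card Fˣ := by
      have : Fact (Nat.Prime 3) := ⟨by norm_num⟩
      rw [← orderOf_eq_prime ha3 ha1]
      exact orderOf_dvd_card
    rw [Fintype.card_units, hF] at hdvd
    obtain ⟨k, rfl⟩ := hn
    have h4 : 2 ^ (2 * k + 1) % 3 = 2 := by
      rw [pow_succ, pow_mul, Nat.mul_mod, Nat.pow_mod]; norm_num
    generalize 2 ^ (2 * k + 1) = N at hdvd h4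
    omega
  · intro hn
    obtain ⟨φ, hφ⟩ : ∃ φ : alternatingGroup (Fin 4) →* ProjectiveSpecialLinearGroup (Fin 2) F,
        Function.Injective φ := by
      by_cases hp2 : p = 2
      · subst hp2
        have h2 : (2 : F) = 0 := by exact_mod_cast CharP.cast_eq_zero F 2
        obtain ⟨k, hk⟩ := Nat.not_odd_iff_even.1 fun h => hn ⟨rfl, h⟩
        classical
        have : Fact (Nat.Prime 3) := ⟨by norm_num⟩
        obtain ⟨a, ha⟩ := exists_prime_orderOf_dvd_card' (G := Fˣ) 3 (by
          rw [Nat.card_eq_fintype_card, Fintype.card_units, hF]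
          subst hk
          have h4 : 2 ^ (k + k) % 3 = 1 := by
            rw [← two_mul, pow_mul, Nat.pow_mod]; norm_num
          omega)
        have ha3 : (a : F) ^ 3 = 1 := by
          rw [← Units.val_pow_eq_pow_val, ← ha, pow_orderOf_eq_one, Units.val_one]
        have ha1 : (a : F) - 1 ≠ 0 := fun h => by
          rw [sub_eq_zero, Units.val_eq_one] at h
          rw [h, orderOf_one] at ha
          norm_num at ha
        have h0 : (a : F) * a + a + 1 = 0 :=
          (mul_eq_zero.1 (show ((a : F) - 1) * ((a : F) * a + a + 1) = 0 by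
            linear_combination ha3)).resolve_left ha1
        obtain ⟨φ, hφ⟩ := exists_alt_five_psl (u := (a : F))
          (by linear_combination h0 - ((a : F) + 1) * h2)
        obtain ⟨ψ, hψ⟩ := exists_alt_four_five
        exact ⟨φ.comp ψ, hφ.comp hψ⟩
      · obtain ⟨a, b, hab⟩ := exists_sq_add_sq_eq_neg_one (F := F)
        exact exists_alt_four hab (fun h0 => hp2 (CharP.eq F ‹CharP F p› (CharTwo.of_one_ne_zero_of_two_eq_zero one_ne_zero h0)))
    exact ⟨φ.range, ⟨(MonoidHom.ofInjective hφ).symm⟩⟩

end Finite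

end CfsgLib.Classical.Dickson
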