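import Cfsg.Agent.Lib.Classical.Dickson.SubgroupFacts
import Cfsg.Agent.Lib.Known.SL2ClassSizes
import Cfsg.Agent.Lib.Recog.PSLTwoOrders
import Cfsg.Agent.Lib.TwoGroups.Recognition

/-!
Dihedral subgroups of `PSL(2, q)`: inverting involutions, existence, and centralisers.
-/

set_option autoImplicit false

namespace CfsgLib.Classical.Dickson

open Matrix
open CfsgLib.Classical.Trace (trc IsScalar)
open scoped LinearAlgebra.Projectivization MatrixGroups

/-! ### A subgroup extended by an involution normalising it -/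

section Extend

variable {G : Type*} [Group G]

/-- `Z ∪ wZ`. -/
def extendInvol (Z : Subgroup G) (w : G) (hw : w * w = 1) (hn : ∀ z ∈ Z, w * z * w⁻¹ ∈ Z) :
    Subgroup G where
  carrier := {x | x ∈ Z ∨ w * x ∈ Z}
  one_mem' := Or.inl Z.one_mem
  mul_mem' := by
    have hwi : w⁻¹ = w := inv_eq_of_mul_eq_one_right hw
    rintro a b (ha | ha) (hb | hb)
    · exact Or.inl (Z.mul_mem ha hb)
    · refine Or.inr ?_
      rw [show w * (a * b) = (w * a * w⁻¹) * (w * b) by group]
      exact Z.mul_mem (hn a ha) hb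
    · refine Or.inr ?_
      rw [← mul_assoc]
      exact Z.mul_mem ha hb
    · refine Or.inl ?_
      rw [show a * b = (w * (w * a) * w⁻¹) * (w * b) by
        rw [← mul_assoc w w a, hw, hwi, one_mul]; rw [mul_assoc, ← mul_assoc w w b, hw, one_mul]]
      exact Z.mul_mem (hn _ ha) hb
  inv_mem' := by
    have hwi : w⁻¹ = w := inv_eq_of_mul_eq_one_right hw
    rintro a (ha | ha)
    · exact Or.inl (Z.inv_mem ha)
    · refine Or.inr ?_
      have h := hn _ (Z.inv_mem ha)
      rw [show w * (w * a)⁻¹ * w⁻¹ = w * a⁻¹ * (w⁻¹ * w⁻¹) by group, ← mul_inv_rev w w, hw, inv_one,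
        mul_one] at h
      exact h

variable {Z : Subgroup G} {w : G} {hw : w * w = 1} {hn : ∀ z ∈ Z, w * z * w⁻¹ ∈ Z}

theorem le_extendInvol : Z ≤ extendInvol Z w hw hn := fun _ h => Or.inl h

theorem mem_extendInvol_self : w ∈ extendInvol Z w hw hn := Or.inr (by rw [hw]; exact Z.one_mem)

theorem card_extendInvol [Finite G] (hwZ : w ∉ Z) :
    Nat.card (extendInvol Z w hw hn) = 2 * Nat.card Z := by
  set E := extendInvol Z w hw hn
  have hidx : (Z.subgroupOf E).index = 2 := by
    refine Subgroup.index_eq_two_iff.2 ⟨⟨w, mem_extendInvol_self⟩, fun b => ?_⟩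
    simp only [Subgroup.mem_subgroupOf, Subgroup.coe_mul]
    by_cases hb : (b : G) ∈ Z
    · exact Or.inr ⟨hb, fun h => hwZ (by simpa using Z.mul_mem (Z.inv_mem hb) h)⟩
    · refine Or.inl ⟨?_, hb⟩
      have hb' : w * b ∈ Z := b.2.resolve_left hb
      have := hn _ hb'
      rwa [← mul_assoc, hw, one_mul, inv_eq_of_mul_eq_one_right hw] at this
  rw [← (Z.subgroupOf E).index_mul_card, hidx,
    Nat.card_congr (Subgroup.subgroupOfEquivOfLe le_extendInvol).toEquiv]

theorem nonempty_extendInvol_dihedral [Finite G] {g : G} {n : ℕ} (hn0 : n ≠ 0) (hg : orderOf g = n)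
    (hn' : ∀ z ∈ Subgroup.zpowers g, w * z * w⁻¹ ∈ Subgroup.zpowers g)
    (hwg : w ∉ Subgroup.zpowers g) (hinv : w * g * w⁻¹ = g⁻¹) :
    Nonempty (extendInvol (Subgroup.zpowers g) w hw hn' ≃* DihedralGroup n) := by
  have : NeZero n := ⟨hn0⟩
  refine CfsgLib.TwoGroups.nonempty_mulEquiv_dihedralGroup
    (a := ⟨g, le_extendInvol (Subgroup.mem_zpowers g)⟩) (b := ⟨w, mem_extendInvol_self⟩)
    (by rw [Subgroup.orderOf_mk, hg]) (Subtype.ext hw) ?_ (Subtype.ext hinv)
    (by rw [card_extendInvol hwg, Nat.card_zpowers, hg])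
  rintro ⟨i, hi⟩
  exact hwg ⟨i, by simpa using congrArg Subtype.val hi⟩

theorem conj_mem_zpowers {g : G} (hinv : w * g * w⁻¹ = g⁻¹) :
    ∀ z ∈ Subgroup.zpowers g, w * z * w⁻¹ ∈ Subgroup.zpowers g := by
  rintro _ ⟨i, rfl⟩
  show w * g ^ i * w⁻¹ ∈ Subgroup.zpowers g
  rw [← conj_zpow, hinv]
  exact zpow_mem (inv_mem (Subgroup.mem_zpowers g)) i

end Extend

/-! ### Inverting involutions -/

section Inverter

variable {F : Type*} [Field F]

theorem exists_anticommuting [Finite F] {A : SL(2, F)} (h4 : trc A ^ 2 ≠ 4) :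
    ∃ B : SL(2, F), trc B = 0 ∧ trc (A * B) = 0 := by
  have : Fintype F := Fintype.ofFinite F
  have hA := Trace.det_eq A
  set a := A.1 0 0
  set b := A.1 0 1
  set c := A.1 1 0
  set e := A.1 1 1
  have htr : trc A = a + e := rfl
  suffices h : ∃ x y z : F, (a - e) * x + b * z + c * y = 0 ∧ -(x * x) - y * z = 1 by
    obtain ⟨x, y, z, h1, h2⟩ := h
    let B : SL(2, F) := ⟨!![x, y; z, -x], by rw [Matrix.det_fin_two_of]; linear_combination h2⟩
    have e00 : B.1 0 0 = x := rfl
    have e01 : B.1 0 1 = y := rfl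
    have e10 : B.1 1 0 = z := rfl
    have e11 : B.1 1 1 = -x := rfl
    refine ⟨B, by rw [trc, e00, e11, add_neg_cancel], ?_⟩
    rw [trc, coe_mul']
    simp only [Matrix.mul_apply, Fin.sum_univ_two, e00, e01, e10, e11]
    linear_combination h1
  by_cases hb : b = 0
  · have hae : a - e ≠ 0 := by
      intro h0
      refine h4 ?_
      rw [htr]
      rw [hb] at hA
      linear_combination (4 : F) * hA + (a - e) * h0
    refine ⟨-c / (a - e), 1, -1 - (-c / (a - e)) * (-c / (a - e)), ?_, by ring⟩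
    rw [hb, zero_mul, add_zero, mul_div_cancel₀ _ hae]
    ring
  · by_cases h2 : (2 : F) = 0
    · refine ⟨1, 0, -((a - e) / b), ?_, by linear_combination -h2⟩
      field_simp
      ring
    · set k := ((a + e) ^ 2 - 4) / (4 * b ^ 2)
      have h40 : (4 : F) ≠ 0 := by
        rw [show (4 : F) = 2 * 2 by norm_num]; exact mul_ne_zero h2 h2
      have hk : k ≠ 0 :=
        div_ne_zero (sub_ne_zero.2 (htr ▸ h4)) (mul_ne_zero h40 (pow_ne_zero _ hb))
      have hodd : Fintype.card F % 2 = 1 :=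
        FiniteField.odd_card_of_char_ne_two fun h => h2 (by
          have : CharP F 2 := ringChar.eq_iff.1 h
          exact_mod_cast CharP.cast_eq_zero F 2)
      obtain ⟨u, y, huy⟩ := FiniteField.exists_root_sum_quadratic
        (f := Polynomial.X ^ 2) (g := Polynomial.C (-k) * Polynomial.X ^ 2 + Polynomial.C 0 *
          Polynomial.X + Polynomial.C 1) (Polynomial.degree_X_pow 2)
        (Polynomial.degree_quadratic (neg_ne_zero.2 hk)) hodd
      simp at huy
      refine ⟨u + (a - e) * y / (2 * b), y, -((a - e) * (u + (a - e) * y / (2 * b)) + c * y) / b,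
        ?_, ?_⟩
      · field_simp
        ring
      · have hkd : k * (4 * b ^ 2) = (a + e) ^ 2 - 4 :=
          div_mul_cancel₀ _ (mul_ne_zero h40 (pow_ne_zero _ hb))
        field_simp
        linear_combination (-4 * b ^ 2) * huy - y ^ 2 * hkd - 4 * y ^ 2 * hA

theorem exists_inverter [Finite F] {A : SL(2, F)} (h4 : trc A ^ 2 ≠ 4) :
    ∃ w : ProjectiveSpecialLinearGroup (Fin 2) F, w * w = 1 ∧
      w * (A : ProjectiveSpecialLinearGroup (Fin 2) F) * w⁻¹ = (A : ProjectiveSpecialLinearGroup (Fin 2) F)⁻¹ ∧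
      w ∉ Subgroup.zpowers (A : ProjectiveSpecialLinearGroup (Fin 2) F) := by
  obtain ⟨B, hB, hAB⟩ := exists_anticommuting h4
  set g : ProjectiveSpecialLinearGroup (Fin 2) F := (A : ProjectiveSpecialLinearGroup (Fin 2) F) with hg
  set w : ProjectiveSpecialLinearGroup (Fin 2) F := (B : ProjectiveSpecialLinearGroup (Fin 2) F) with hwd
  have hw : w * w = 1 := by rw [← pow_two]; exact Trace.mk_sq_eq_one hB
  have hgw : (g * w) * (g * w) = 1 := by
    rw [← pow_two, hg, hwd, ← QuotientGroup.mk_mul]; exact Trace.mk_sq_eq_one hAB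
  have hinv : w * g * w⁻¹ = g⁻¹ := by
    rw [inv_eq_of_mul_eq_one_right hw]
    refine (inv_eq_of_mul_eq_one_right ?_).symm
    rw [← hgw]; group
  refine ⟨w, hw, hinv, fun hmem => ?_⟩
  obtain ⟨i, hi⟩ := hmem
  have hi' : g ^ i = w := hi
  have hcomm : w * g * w⁻¹ = g := by
    rw [← hi', ← _root_.zpow_neg, ← _root_.zpow_one g, ← _root_.zpow_mul, ← _root_.zpow_mul, ← _root_.zpow_add, ← _root_.zpow_add]
    congr 1; ring
  rw [hinv] at hcomm
  have hgg : g * g = 1 := by
    nth_rewrite 1 [← hcomm]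
    exact inv_mul_cancel g
  obtain ⟨j, rfl | rfl⟩ := Int.even_or_odd' i
  · -- `w` is trivial, so `B` is scalar of trace zero
    have hw1 : w = 1 := by rw [← hi', _root_.zpow_mul, _root_.zpow_two, hgg, _root_.one_zpow]
    obtain ⟨b01, b10, b00⟩ := Trace.mk_eq_one_iff.1 (hwd ▸ hw1)
    have hd := Trace.det_eq B
    rw [b01, b10, ← b00] at hd
    have h20 : (2 : F) = 0 := by
      have : B.1 0 0 ≠ 0 := fun h0 => by simp [h0] at hd
      refine (mul_eq_zero.1 (show (2 : F) * B.1 0 0 = 0 by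
        rw [trc, ← b00] at hB; linear_combination hB)).resolve_right this
    refine h4 ?_
    have hab : trc (A * B) = B.1 0 0 * trc A := by
      rw [trc, trc, coe_mul']
      simp [Matrix.mul_apply, Fin.sum_univ_two, b01, b10, ← b00]
      ring
    rw [hab] at hAB
    have htA : trc A = 0 := (mul_eq_zero.1 hAB).resolve_left fun h0 => by simp [h0] at hd
    rw [htA, show (4 : F) = 2 * 2 by norm_num, h20]; simp
  · have hwg : w = g := by
      rw [← hi', _root_.zpow_add, _root_.zpow_mul, _root_.zpow_two, hgg, _root_.one_zpow, one_mul, _root_.zpow_one]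
    have hz : (B⁻¹ * A : SL(2, F)) ∈ Subgroup.center SL(2, F) := by
      rw [← QuotientGroup.eq_one_iff, QuotientGroup.mk_mul, QuotientGroup.mk_inv, ← hwd, ← hg, hwg,
        inv_mul_cancel]
    rw [← not_not (a := _ ∈ _), ← Trace.not_isScalar_iff_not_mem_center, not_not] at hz
    obtain ⟨z01, z10, z00⟩ := hz
    have hA' : A = B * (B⁻¹ * A) := by rw [mul_inv_cancel_left]
    generalize B⁻¹ * A = z at z01 z10 z00 hA'
    have hdz := Trace.det_eq z
    rw [z01, z10, ← z00] at hdz
    have hz0 : z.1 0 0 ≠ 0 := fun h0 => by simp [h0] at hdz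
    have htA : trc A = z.1 0 0 * trc B := by
      rw [hA', trc, trc, coe_mul']
      simp [Matrix.mul_apply, Fin.sum_univ_two, z01, z10, ← z00]
      ring
    rw [hB, mul_zero] at htA
    have hab : trc (A * B) = z.1 0 0 * (trc B * trc B - 2) := by
      rw [hA', trc, trc, coe_mul', coe_mul']
      simp [Matrix.mul_apply, Fin.sum_univ_two, z01, z10, ← z00]
      linear_combination (-2 * z.1 0 0) * Trace.det_eq B
    rw [hab, hB] at hAB
    refine h4 ?_
    have h20 : (2 : F) = 0 := (mul_eq_zero.1 (show z.1 0 0 * 2 = 0 by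
      linear_combination -hAB)).resolve_left hz0
    rw [htA, show (4 : F) = 2 * 2 by norm_num, h20]; simp

theorem trc_sq_ne_four (p : ℕ) [Fact p.Prime] [CharP F p] {A : SL(2, F)}
    (h1 : (A : ProjectiveSpecialLinearGroup (Fin 2) F) ≠ 1)
    (hp : ¬ p ∣ orderOf (A : ProjectiveSpecialLinearGroup (Fin 2) F)) : trc A ^ 2 ≠ 4 := by
  intro h
  have key : (A : ProjectiveSpecialLinearGroup (Fin 2) F) ^ p = 1 := by
    by_cases h2 : (2 : F) = 0
    · have h0 : trc A = 0 := sq_eq_zero_iff.1 (by rw [h, show (4 : F) = 2 * 2 by norm_num, h2, zero_mul])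
      have hp2 : p = 2 := CharP.eq F ‹_› (CharTwo.of_one_ne_zero_of_two_eq_zero one_ne_zero h2)
      rw [hp2]; exact Trace.mk_sq_eq_one h0
    · refine Trace.mk_pow_char_eq_one p (e := trc A / 2) ?_ (mul_div_cancel₀ _ h2).symm
      rw [div_pow, h, show (4 : F) = 2 ^ 2 by norm_num, div_self (pow_ne_zero _ h2)]
  refine hp ?_
  rw [orderOf_eq_prime key h1]

end Inverter

/-! ### Existence -/

section Exists

variable {F : Type*} [Field F] [Fintype F] (p : ℕ) [Fact p.Prime] [CharP F p]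

theorem not_dvd_of_dvd_torus {q m : ℕ} (hF : Fintype.card F = q)
    (hm : m ∣ (q + 1) / Nat.gcd 2 (q - 1) ∨ m ∣ (q - 1) / Nat.gcd 2 (q - 1)) : ¬ p ∣ m := by
  intro hp
  obtain ⟨f, hf, hqf⟩ := exists_card_eq_prime_pow (F := F) p
  have hpq : p ∣ q := hF ▸ hqf ▸ dvd_pow_self p (by omega)
  have hp2 := (Fact.out : p.Prime).two_le
  have hq : 1 ≤ q := hF ▸ Fintype.card_pos
  have hdd : Nat.gcd 2 (q - 1) ∣ q + 1 := by
    have h := dvd_add (Nat.gcd_dvd_right 2 (q - 1)) (Nat.gcd_dvd_left 2 (q - 1))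
    rwa [show q - 1 + 2 = q + 1 by omega] at h
  rcases hm with h | h
  · have h1 : p ∣ q + 1 := (hp.trans h).trans (Nat.div_dvd_of_dvd hdd)
    exact (Fact.out : p.Prime).not_dvd_one ((Nat.dvd_add_right hpq).1 h1)
  · have h1 : p ∣ q - 1 := (hp.trans h).trans (Nat.div_dvd_of_dvd (Nat.gcd_dvd_right _ _))
    have := Nat.dvd_sub hpq h1
    rw [show q - (q - 1) = 1 by omega] at this
    exact (Fact.out : p.Prime).not_dvd_one this

include p in
theorem exists_orderOf {q m : ℕ} (hF : Fintype.card F = q) (hq : 3 ≤ q)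
    (hm : m ∣ (q + 1) / Nat.gcd 2 (q - 1) ∨ m ∣ (q - 1) / Nat.gcd 2 (q - 1)) :
    ∃ g : ProjectiveSpecialLinearGroup (Fin 2) F, orderOf g = m := by
  by_cases h4 : 4 ≤ q
  · have h := CfsgLib.Recog.PSLTwoOrders.range_orderOf (F := F) p (hF ▸ h4)
    have hmem : m ∈ Set.range (orderOf : ProjectiveSpecialLinearGroup (Fin 2) F → ℕ) := by
      rw [h, hF]
      exact Or.inr hm.symm
    exact hmem
  · have hq3 : q = 3 := by omega
    subst hq3
    have hm2 : m ∣ 2 := by
      rcases hm with h | h <;> norm_num at h ⊢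
      · exact h
      · rw [h]; norm_num
    rcases (Nat.dvd_prime Nat.prime_two).1 hm2 with rfl | rfl
    · exact ⟨1, orderOf_one⟩
    · have : Fact (Nat.Prime 2) := ⟨Nat.prime_two⟩
      have hc := gcd_mul_card_psl (F := F) hF
      norm_num at hc
      exact exists_prime_orderOf_dvd_card' 2 (by omega)

include p in
theorem exists_dihedral {q m : ℕ} (hF : Fintype.card F = q) (hq : 3 ≤ q) (hm2 : 2 ≤ m)
    (hm : m ∣ (q + 1) / Nat.gcd 2 (q - 1) ∨ m ∣ (q - 1) / Nat.gcd 2 (q - 1)) :
    ∃ D : Subgroup (ProjectiveSpecialLinearGroup (Fin 2) F),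
      Nat.card D = 2 * m ∧ Nonempty (D ≃* DihedralGroup m) ∧
      ∃ g w, g ∈ D ∧ w ∈ D ∧ orderOf g = m ∧ w * w = 1 ∧ w * g * w⁻¹ = g⁻¹ ∧
        w ∉ Subgroup.zpowers g := by
  obtain ⟨g, hg⟩ := exists_orderOf p hF hq hm
  obtain ⟨A, rfl⟩ := QuotientGroup.mk_surjective g
  have h1 : (A : ProjectiveSpecialLinearGroup (Fin 2) F) ≠ 1 := fun e => by
    rw [e, orderOf_one] at hg; omega
  obtain ⟨w, hw, hinv, hwg⟩ :=
    exists_inverter (trc_sq_ne_four p h1 (hg ▸ not_dvd_of_dvd_torus p hF hm))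
  refine ⟨extendInvol (Subgroup.zpowers (A : ProjectiveSpecialLinearGroup (Fin 2) F)) w hw
    (conj_mem_zpowers hinv), ?_, nonempty_extendInvol_dihedral (by omega) hg _ hwg hinv,
    _, w, le_extendInvol (Subgroup.mem_zpowers _), mem_extendInvol_self, hg, hw, hinv, hwg⟩
  rw [card_extendInvol hwg, Nat.card_zpowers, hg]

end Exists

/-! ### Centralisers -/

section Centralizer

open CfsgLib.PLocal.SLTwo CfsgLib.SL2Char CfsgLib.Known.SL2ClassSizes

variable {F : Type*} [Field F] [Fintype F]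

theorem card_centralizer_psl {q : ℕ} (hF : Fintype.card F = q) {A : SL(2, F)}
    (h0 : trc A ≠ 0) (h4 : trc A ^ 2 ≠ 4) :
    Nat.gcd 2 (q - 1) * Nat.card (Subgroup.centralizer
      ({(A : ProjectiveSpecialLinearGroup (Fin 2) F)} :
        Set (ProjectiveSpecialLinearGroup (Fin 2) F))) = q - 1 ∨
    Nat.gcd 2 (q - 1) * Nat.card (Subgroup.centralizer
      ({(A : ProjectiveSpecialLinearGroup (Fin 2) F)} :
        Set (ProjectiveSpecialLinearGroup (Fin 2) F))) = q + 1 := by
  classical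
  set C := Subgroup.centralizer ({(A : ProjectiveSpecialLinearGroup (Fin 2) F)} :
        Set (ProjectiveSpecialLinearGroup (Fin 2) F))
  have hpre : Nat.card (pre A) = Nat.gcd 2 (q - 1) * Nat.card C := by
    have h1 := (pre A).card_mul_index
    have h2 := C.card_mul_index
    have hidx : (pre A).index = C.index :=
      Subgroup.index_comap_of_surjective _ (QuotientGroup.mk'_surjective _)
    have hsl := card_SL_eq_gcd_mul_card_PSL (ι := Fin 2) (F := F)
    rw [Fintype.card_fin, hF, ← h1, ← h2, hidx, ← mul_assoc] at hsl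
    refine Nat.eq_of_mul_eq_mul_right ?_ hsl
    exact Nat.pos_of_ne_zero fun h => Subgroup.index_ne_zero_of_finite h
  rw [← hpre]
  have htr : tr A ≠ 0 := h0
  have hC : pre A = Subgroup.centralizer ({A} : Set (S2 F)) := by
    by_cases h2 : (2 : F) = 0
    · refine le_antisymm (fun y hy => ?_) (centralizer_le_pre A)
      have : CharP F 2 := CharTwo.of_one_ne_zero_of_two_eq_zero one_ne_zero h2
      have hneg : -A = A := ext2 (by simp [CharTwo.neg_eq]) (by simp [CharTwo.neg_eq])
        (by simp [CharTwo.neg_eq]) (by simp [CharTwo.neg_eq])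
      rcases mem_pre.1 hy with h | h
      · exact Subgroup.mem_centralizer_singleton_iff.2 (mul_inv_eq_iff_eq_mul.1 h)
      · rw [hneg] at h
        exact Subgroup.mem_centralizer_singleton_iff.2 (mul_inv_eq_iff_eq_mul.1 h)
    · exact pre_eq h2 htr
  rw [hC]
  rcases cases_conj A with h | ⟨h, b, hb, hc⟩ | ⟨h, a, ha, hc⟩ | he
  · exfalso
    apply h4
    rcases h with rfl | rfl <;> simp [trc] <;> norm_num
  · exfalso
    apply h4
    have e : trc A = trc (h * A * h⁻¹) := (Trace.trc_conj h A).symm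
    rw [e]
    rcases hc with hc | hc <;> rw [hc] <;> simp [trc] <;> norm_num
  · left
    have e : Nat.card (Subgroup.centralizer ({h * A * h⁻¹} : Set (S2 F))) =
        Nat.card (Subgroup.centralizer ({A} : Set (S2 F))) := by
      rw [← map_conj_centralizer h A]
      exact (Nat.card_congr ((Subgroup.centralizer ({A} : Set (S2 F))).equivMapOfInjective _
        (MulAut.conj h).injective).toEquiv).symm
    rw [← e, hc, card_diagS ha, hF]
  · right
    rw [card_centralizer_SL he, hF]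

end Centralizer

end CfsgLib.Classical.Dickson
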