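import Cfsg.Agent.Lib.Classical.Dickson.Dihedral

/-!
Maximal subgroups of `PSL(2, q)`: platonic, subfield and dihedral ones.
-/

set_option autoImplicit false

namespace CfsgLib.Classical.Dickson

open Matrix
open scoped LinearAlgebra.Projectivization MatrixGroups commutatorElement

section Cases

variable {F : Type*} [Field F] [Fintype F] (p : ℕ) [Fact p.Prime] [CharP F p]

include p in
/-- The overgroups of a subgroup with non-commuting squares and without fixed points. -/
theorem cases_above {H M : Subgroup (ProjectiveSpecialLinearGroup (Fin 2) F)}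
    (hsq : ∃ x ∈ H, ∃ y ∈ H, ¬ Commute (x ^ 2) (y ^ 2))
    (hfix : ∀ x : ℙ F (Fin 2 → F), ∃ h ∈ H, h • x ≠ x) (hle : H ≤ M) :
    Nonempty (M ≃* alternatingGroup (Fin 4)) ∨ Nonempty (M ≃* Equiv.Perm (Fin 4)) ∨
      Nonempty (M ≃* alternatingGroup (Fin 5)) ∨ SubfieldConj p M := by
  obtain ⟨x, hx, y, hy, hxy⟩ := hsq
  have key : Commute ((⟨x, hle hx⟩ : M) ^ 2) ((⟨y, hle hy⟩ : M) ^ 2) → False := fun h =>
    hxy (h.map M.subtype)
  rcases subgroup_cases_conj p rfl M with
    ⟨hC, -, -⟩ | ⟨-, z, hz⟩ | ⟨n, -, -, -, ⟨ψ⟩⟩ | h | h | h | h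
  · exact (key (squares_commute_of_cyclic _ _)).elim
  · obtain ⟨h, hh, hne⟩ := hfix z
    exact absurd (hz h (hle hh)) hne
  · exact (key (squares_commute_of_dihedral ψ _ _)).elim
  · exact Or.inl h
  · exact Or.inr (Or.inl h)
  · exact Or.inr (Or.inr (Or.inl h))
  · exact Or.inr (Or.inr (Or.inr h))

theorem prime_pow_ne_six {p : ℕ} (hp : p.Prime) (f : ℕ) : p ^ f ≠ 6 := fun h => by
  have h2 : p = 2 := ((Nat.prime_dvd_prime_iff_eq Nat.prime_two hp).1
    (Nat.prime_two.dvd_of_dvd_pow (h ▸ (by norm_num : 2 ∣ 6)))).symm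
  have h3 : p = 3 := ((Nat.prime_dvd_prime_iff_eq Nat.prime_three hp).1
    (Nat.prime_three.dvd_of_dvd_pow (h ▸ (by norm_num : 3 ∣ 6)))).symm
  omega

/-- Facts about an embedded group with a commutator of order prime to `p` and non-commuting
squares. -/
theorem facts_of_equiv {Γ : Type*} [Group Γ] {H : Subgroup (ProjectiveSpecialLinearGroup (Fin 2) F)}
    (φ : H ≃* Γ) {n : ℕ} (hn : ¬ p ∣ n) (hc : ∃ a b : Γ, ⁅a, b⁆ ≠ 1 ∧ ⁅a, b⁆ ^ n = 1)
    (hs : ∃ a b : Γ, a ^ 2 * b ^ 2 ≠ b ^ 2 * a ^ 2) :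
    (∃ x ∈ H, ∃ y ∈ H, ¬ Commute (x ^ 2) (y ^ 2)) ∧
      ∀ x : ℙ F (Fin 2 → F), ∃ h ∈ H, h • x ≠ x := by
  let j : Γ →* ProjectiveSpecialLinearGroup (Fin 2) F := H.subtype.comp φ.symm.toMonoidHom
  have hj : Function.Injective j := H.subtype_injective.comp φ.symm.injective
  have hjH : ∀ a, j a ∈ H := fun a => (φ.symm a).2
  constructor
  · obtain ⟨a, b, hab⟩ := hs
    refine ⟨j a, hjH a, j b, hjH b, fun h => hab (hj ?_)⟩
    rw [map_mul, map_mul, map_pow, map_pow]
    exact h
  · intro x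
    obtain ⟨a, b, h1, h2⟩ := hc
    by_contra! h
    refine not_fix_of_commutator p hn ?_ ?_ (h (j a) (hjH a)) (h (j b) (hjH b))
    · rw [← map_commutatorElement]
      exact fun e => h1 (hj (e.trans (map_one j).symm))
    · rw [← map_commutatorElement, ← map_pow, h2, map_one]

theorem card_psl_mul_two {q : ℕ} (hF : Fintype.card F = q) :
    q * (q ^ 2 - 1) ≤ 2 * Nat.card (ProjectiveSpecialLinearGroup (Fin 2) F) := by
  rw [← gcd_mul_card_psl (F := F) hF]
  exact Nat.mul_le_mul_right _ (Nat.le_of_dvd two_pos (Nat.gcd_dvd_left 2 _))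

theorem card_pglImage_dvd {K : Subfield F} :
    Nat.card (pglImage K.subtype) ∣ Nat.card K * (Nat.card K ^ 2 - 1) := by
  classical
  have : Fintype K := Fintype.ofFinite K
  have hc : Nat.card (ProjGenLinGroup (Fin 2) K) = Nat.card K * (Nat.card K ^ 2 - 1) := by
    rw [card_PGL_eq_card_SL, Two.card_SL_two, Nat.card_eq_fintype_card]
  rw [← hc]
  let φ : pglImage K.subtype →* (ProjGenLinGroup.map (n := Fin 2) K.subtype).range :=
    (ProjectiveSpecialLinearGroup.toPGL.comp (pglImage K.subtype).subtype).codRestrict _ fun x => x.2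
  have hφ : Function.Injective φ := fun x y h =>
    Subtype.ext (ProjectiveSpecialLinearGroup.toPGL_injective (congrArg Subtype.val h))
  exact Subgroup.card_dvd_of_injective
    ((MonoidHom.ofInjective (pglMap_injective K.subtype)).symm.toMonoidHom.comp φ)
    ((MonoidHom.ofInjective (pglMap_injective K.subtype)).symm.injective.comp hφ)

theorem card_pslImage_mul {K : Subfield F} {k : ℕ} (hk : Nat.card K = k) :
    Nat.gcd 2 (k - 1) * Nat.card (pslImage K.subtype) = k * (k ^ 2 - 1) := by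
  have : Fintype K := Fintype.ofFinite K
  rw [card_pslImage, gcd_mul_card_psl (by rw [← hk, Nat.card_eq_fintype_card])]

/-- A subfield subgroup for a subfield of full order is everything. -/
theorem eq_top_of_subfield {M : Subgroup (ProjectiveSpecialLinearGroup (Fin 2) F)} {K : Subfield F}
    {g : GL (Fin 2) F} (hK : Nat.card K = Fintype.card F)
    (h : M.map (pslConj g).toMonoidHom = pglImage K.subtype ∨
      (p ≠ 2 ∧ M.map (pslConj g).toMonoidHom = pslImage K.subtype)) : M = ⊤ := by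
  refine Subgroup.eq_top_of_le_card M ?_
  rw [← card_map_pslConj g M]
  have e : Nat.card (ProjectiveSpecialLinearGroup (Fin 2) F) = Nat.card (pslImage K.subtype) := by
    have h1 := card_pslImage_mul hK
    rw [← gcd_mul_card_psl (F := F) rfl] at h1
    exact (Nat.eq_of_mul_eq_mul_left (Nat.gcd_pos_of_pos_left _ two_pos) h1).symm
  rcases h with h | ⟨-, h⟩ <;> rw [h, e]
  exact Subgroup.card_le_of_le (pslImage_le_pglImage _)

theorem subfield_card_cases {k r : ℕ} (hr : r.Prime) (hk2 : 1 < k)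
    (hq : k ^ r = Fintype.card F) {L : Subfield F} {K₀ : Subfield F} (hK : Nat.card K₀ = k)
    (hle : K₀ ≤ L) : Nat.card L = k ∨ Nat.card L = Fintype.card F := by
  obtain ⟨i, hi, hiL⟩ := exists_degree hle
  obtain ⟨j, hj, hjF⟩ := exists_degree (le_top : L ≤ ⊤)
  have htop : Nat.card (⊤ : Subfield F) = Fintype.card F := by
    rw [← Nat.card_eq_fintype_card]
    exact Nat.card_congr Subfield.topEquiv.toEquiv
  rw [htop] at hjF
  rw [hK] at hiL
  have hij : i * j = r := by
    refine Nat.pow_right_injective hk2 ?_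
    show k ^ (i * j) = k ^ r
    rw [pow_mul, hiL, hjF, hq]
  rcases (Nat.dvd_prime hr).1 (Dvd.intro j hij) with h | h
  · left; rw [← hiL, h, pow_one]
  · right; rw [← hiL, h, hq]

theorem natCard_alt_four : Nat.card (alternatingGroup (Fin 4)) = 12 := by
  rw [nat_card_alternatingGroup, Nat.card_fin]; decide

theorem natCard_alt_five : Nat.card (alternatingGroup (Fin 5)) = 60 := by
  rw [nat_card_alternatingGroup, Nat.card_fin]; decide

theorem natCard_perm_four : Nat.card (Equiv.Perm (Fin 4)) = 24 := by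
  rw [Nat.card_perm, Nat.card_fin]; decide

theorem card_of_equiv {M : Subgroup (ProjectiveSpecialLinearGroup (Fin 2) F)} {Γ : Type*} [Group Γ]
    (ψ : M ≃* Γ) {N : ℕ} (h : Nat.card Γ = N) : Nat.card M = N :=
  (Nat.card_congr ψ.toEquiv).trans h

theorem card_lt_of_lt {H M : Subgroup (ProjectiveSpecialLinearGroup (Fin 2) F)} (h : H < M) :
    Nat.card H < Nat.card M ∧ Nat.card H ∣ Nat.card M :=
  ⟨lt_of_not_ge fun hle => h.ne (Subgroup.eq_of_le_of_card_ge h.le hle),
    Subgroup.card_dvd_of_le h.le⟩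

theorem ne_top_of_card_lt {H : Subgroup (ProjectiveSpecialLinearGroup (Fin 2) F)}
    (h : Nat.card H < Nat.card (ProjectiveSpecialLinearGroup (Fin 2) F)) : H ≠ ⊤ := fun e => by
  rw [e, Subgroup.card_top] at h; exact lt_irrefl _ h

end Cases

/-! ### Platonic maximal subgroups -/

section Platonic

variable {F : Type*} [Field F] [Fintype F] (p : ℕ) [Fact p.Prime] [CharP F p]

theorem card_subfield_prime {K : Subfield F} (hF : Fintype.card F = p) :
    Nat.card K = Fintype.card F := by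
  have hp := (Fact.out : p.Prime)
  obtain ⟨j, hj, hjF⟩ := exists_degree (le_top : K ≤ ⊤)
  rw [show Nat.card (⊤ : Subfield F) = Fintype.card F from
    (Nat.card_congr Subfield.topEquiv.toEquiv).trans Nat.card_eq_fintype_card] at hjF
  have h1 : Nat.card K ∣ p := by rw [← hF, ← hjF]; exact dvd_pow_self _ (by omega)
  have h2 : 1 < Nat.card K := Finite.one_lt_card
  rw [hF]
  exact ((Nat.dvd_prime hp).1 h1).resolve_left (by omega)

theorem alt_four_maximal (hF : Fintype.card F = p) (h5 : 5 ≤ p) (h8 : p % 8 = 3 ∨ p % 8 = 5)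
    (h10 : p % 10 ≠ 1 ∧ p % 10 ≠ 9) :
    ∃ H : Subgroup (ProjectiveSpecialLinearGroup (Fin 2) F),
      IsCoatom H ∧ Nonempty (H ≃* alternatingGroup (Fin 4)) := by
  have hp := (Fact.out : p.Prime)
  obtain ⟨H, ⟨φ⟩⟩ := (alt_four_iff p 1 (F := F) (by rw [pow_one]; exact hF)).2 (by omega)
  have hH := card_of_equiv φ natCard_alt_four
  have hG := card_psl_mul_two (F := F) hF
  have h5p : 5 * 24 ≤ p * (p ^ 2 - 1) :=
    Nat.mul_le_mul h5 (by have := Nat.pow_le_pow_left h5 2; omega)
  obtain ⟨hsq, hfix⟩ := facts_of_equiv p φ (n := 2)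
    (fun h => by have := Nat.le_of_dvd two_pos h; omega) (by decide +kernel) (by decide +kernel)
  refine ⟨H, ⟨ne_top_of_card_lt (by rw [hH]; omega), fun M hM => ?_⟩, ⟨φ⟩⟩
  obtain ⟨hlt, hdvd⟩ := card_lt_of_lt hM
  rw [hH] at hlt hdvd
  rcases cases_above p hsq hfix hM.le with ⟨⟨ψ⟩⟩ | h | h | ⟨K, g, -, h⟩
  · rw [card_of_equiv ψ natCard_alt_four] at hlt; omega
  · exfalso
    have := (perm_four_iff hF).1 ⟨M, h⟩
    rw [pow_two, Nat.mul_mod] at this
    have e : p % 8 = p % 16 % 8 := (Nat.mod_mod_of_dvd p (by norm_num)).symm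
    have hlt16 : p % 16 < 16 := Nat.mod_lt _ (by norm_num)
    generalize p % 16 = r at this e hlt16
    interval_cases r <;> omega
  · obtain ⟨ψ⟩ := h
    have hd := (alt_five_iff hF).1 ⟨M, ⟨ψ⟩⟩
    rcases (Nat.Prime.dvd_mul (by norm_num)).1 hd with h' | h'
    · have hp5 : p = 5 := ((Nat.prime_dvd_prime_iff_eq (by norm_num) hp).1 h').symm
      refine Subgroup.eq_top_of_le_card M ?_
      rw [card_of_equiv ψ natCard_alt_five]
      have := gcd_mul_card_psl (F := F) hF
      subst hp5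
      norm_num at this
      omega
    · exfalso
      have h1 : p ^ 2 % 5 = 1 := by
        have := Nat.one_le_pow 2 p hp.pos
        omega
      rw [pow_two, Nat.mul_mod] at h1
      have hlt5 : p % 5 < 5 := Nat.mod_lt _ (by norm_num)
      have h55 : p % 5 = 1 ∨ p % 5 = 4 := by
        generalize p % 5 = r at h1 hlt5
        interval_cases r <;> omega
      omega
  · exact eq_top_of_subfield p (card_subfield_prime p hF) h

theorem perm_four_maximal (hF : Fintype.card F = p) (h8 : p % 8 = 1 ∨ p % 8 = 7) :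
    ∃ H : Subgroup (ProjectiveSpecialLinearGroup (Fin 2) F),
      IsCoatom H ∧ Nonempty (H ≃* Equiv.Perm (Fin 4)) := by
  have hp := (Fact.out : p.Prime)
  have hmod : p ^ 2 % 16 = 1 := by
    rw [pow_two, Nat.mul_mod]
    have e : p % 8 = p % 16 % 8 := (Nat.mod_mod_of_dvd p (by norm_num)).symm
    have hlt16 : p % 16 < 16 := Nat.mod_lt _ (by norm_num)
    generalize p % 16 = r at e hlt16 ⊢
    interval_cases r <;> omega
  obtain ⟨H, ⟨φ⟩⟩ := (perm_four_iff hF).2 hmod
  have hH := card_of_equiv φ natCard_perm_four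
  have hG := card_psl_mul_two (F := F) hF
  have h7 : 7 ≤ p := by have := hp.two_le; omega
  have h7p : 7 * 48 ≤ p * (p ^ 2 - 1) :=
    Nat.mul_le_mul h7 (by have := Nat.pow_le_pow_left h7 2; omega)
  obtain ⟨hsq, hfix⟩ := facts_of_equiv p φ (n := 2)
    (fun h => by have := Nat.le_of_dvd two_pos h; omega) (by decide +kernel) (by decide +kernel)
  refine ⟨H, ⟨ne_top_of_card_lt (by rw [hH]; omega), fun M hM => ?_⟩, ⟨φ⟩⟩
  obtain ⟨hlt, hdvd⟩ := card_lt_of_lt hM
  rw [hH] at hlt hdvd
  rcases cases_above p hsq hfix hM.le with ⟨⟨ψ⟩⟩ | ⟨⟨ψ⟩⟩ | ⟨⟨ψ⟩⟩ | ⟨K, g, -, h⟩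
  · rw [card_of_equiv ψ natCard_alt_four] at hlt; omega
  · rw [card_of_equiv ψ natCard_perm_four] at hlt; omega
  · rw [card_of_equiv ψ natCard_alt_five] at hdvd
    exact absurd hdvd (by decide)
  · exact eq_top_of_subfield p (card_subfield_prime p hF) h

theorem alt_five_maximal (h : (Fintype.card F = p ∧ (p % 10 = 1 ∨ p % 10 = 9)) ∨
    (Fintype.card F = p ^ 2 ∧ (p % 10 = 3 ∨ p % 10 = 7))) :
    ∃ H : Subgroup (ProjectiveSpecialLinearGroup (Fin 2) F),
      IsCoatom H ∧ Nonempty (H ≃* alternatingGroup (Fin 5)) := by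
  have hp := (Fact.out : p.Prime)
  have hp3 : 3 ≤ p := by have := hp.two_le; omega
  have h5 : 5 ∣ Fintype.card F * (Fintype.card F ^ 2 - 1) := by
    refine Dvd.dvd.mul_left ?_ _
    have key : Fintype.card F ^ 2 % 5 = 1 := by
      rcases h with ⟨hF, hm⟩ | ⟨hF, hm⟩
      · rw [hF, Nat.pow_mod]
        have : p % 5 = 1 ∨ p % 5 = 4 := by omega
        rcases this with e | e <;> rw [e]
      · rw [hF, ← pow_mul, Nat.pow_mod]
        have : p % 5 = 3 ∨ p % 5 = 2 := by omega
        rcases this with e | e <;> rw [e]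
    omega
  obtain ⟨H, ⟨φ⟩⟩ := (alt_five_iff rfl).2 h5
  have hH := card_of_equiv φ natCard_alt_five
  have hG := card_psl_mul_two (F := F) rfl
  have h9 : 9 ≤ Fintype.card F := by
    rcases h with ⟨hF, hm⟩ | ⟨hF, hm⟩
    · have : p ≠ 1 := hp.ne_one
      omega
    · have := Nat.pow_le_pow_left hp3 2; omega
  have h9q : 9 * 80 ≤ Fintype.card F * (Fintype.card F ^ 2 - 1) :=
    Nat.mul_le_mul h9 (by have := Nat.pow_le_pow_left h9 2; omega)
  obtain ⟨hsq, hfix⟩ := facts_of_equiv p φ (n := 2)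
    (fun h => by have := Nat.le_of_dvd two_pos h; omega) (by decide +kernel) (by decide +kernel)
  refine ⟨H, ⟨ne_top_of_card_lt (by rw [hH]; omega), fun M hM => ?_⟩, ⟨φ⟩⟩
  obtain ⟨hlt, hdvd⟩ := card_lt_of_lt hM
  rw [hH] at hlt hdvd
  rcases cases_above p hsq hfix hM.le with ⟨⟨ψ⟩⟩ | ⟨⟨ψ⟩⟩ | ⟨⟨ψ⟩⟩ | ⟨K, g, -, hc⟩
  · rw [card_of_equiv ψ natCard_alt_four] at hlt; omega
  · rw [card_of_equiv ψ natCard_perm_four] at hlt; omega
  · rw [card_of_equiv ψ natCard_alt_five] at hlt; omega
  · obtain ⟨j, hj, hjF⟩ := exists_degree (le_top : K ≤ ⊤)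
    rw [show Nat.card (⊤ : Subfield F) = Fintype.card F from
      (Nat.card_congr Subfield.topEquiv.toEquiv).trans Nat.card_eq_fintype_card] at hjF
    rcases h with ⟨hF, -⟩ | ⟨hF, hm⟩
    · exact eq_top_of_subfield p (card_subfield_prime p hF) hc
    · have hKp : Nat.card K = p ∨ Nat.card K = p ^ 2 := by
        have h1 : Nat.card K ∣ p ^ 2 := by rw [← hF, ← hjF]; exact dvd_pow_self _ (by omega)
        obtain ⟨i, hi, hiK⟩ := (Nat.dvd_prime_pow hp).1 h1
        have h2 : 1 < Nat.card K := Finite.one_lt_card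
        interval_cases i
        · rw [hiK] at h2; norm_num at h2
        · left; rw [hiK, pow_one]
        · right; exact hiK
      rcases hKp with hKp | hKp
      · exfalso
        have h60 : 60 ∣ Nat.card K * (Nat.card K ^ 2 - 1) := by
          refine dvd_trans (dvd_trans hdvd ?_) card_pglImage_dvd
          rw [← card_map_pslConj g M]
          rcases hc with e | ⟨-, e⟩ <;> rw [e]
          exact Subgroup.card_dvd_of_le (pslImage_le_pglImage _)
        rw [hKp] at h60
        have h5' : 5 ∣ p * (p ^ 2 - 1) := dvd_trans (by norm_num) h60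
        rcases (Nat.Prime.dvd_mul (by norm_num)).1 h5' with h' | h'
        · omega
        · have key : p ^ 2 % 5 = 4 := by
            rw [Nat.pow_mod]
            have : p % 5 = 3 ∨ p % 5 = 2 := by omega
            rcases this with e | e <;> rw [e]
          omega
      · exact eq_top_of_subfield p (hKp.trans hF.symm) hc

end Platonic

/-! ### Subfield maximal subgroups -/

section Subfields

variable {F : Type*} [Field F] [Fintype F] (p : ℕ) [Fact p.Prime] [CharP F p]

include p in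
theorem pglImage_maximal {K : Subfield F} {k r : ℕ} (hk : Nat.card K = k) (hk3 : 3 ≤ k)
    (hr : r.Prime) (hq : k ^ r = Fintype.card F) : IsCoatom (pglImage K.subtype) := by
  classical
  have : Fintype K := Fintype.ofFinite K
  have hk' : Fintype.card K = k := by rw [← hk, Nat.card_eq_fintype_card]
  have hr2 := hr.two_le
  have hK2 : (2 : K) ≠ 0 ∨ 4 ≤ Fintype.card K := by
    by_cases h2 : (2 : K) = 0
    · right
      have : CharP K 2 := CharTwo.of_one_ne_zero_of_two_eq_zero one_ne_zero h2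
      obtain ⟨a, ha, hka⟩ := exists_card_eq_prime_pow (F := K) 2
      rw [hk'] at hka ⊢
      have : 2 ∣ k := hka ▸ dvd_pow_self 2 (by omega)
      omega
    · exact Or.inl h2
  obtain ⟨x, hx, y, hy, hxy⟩ := pslImage_squares_noncommute K.subtype hK2
  have hle0 := pslImage_le_pglImage K.subtype
  have hsq : ∃ x ∈ pglImage K.subtype, ∃ y ∈ pglImage K.subtype, ¬ Commute (x ^ 2) (y ^ 2) :=
    ⟨x, hle0 hx, y, hle0 hy, hxy⟩
  have hfix : ∀ z : ℙ F (Fin 2 → F), ∃ h ∈ pglImage K.subtype, h • z ≠ z := fun z => by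
    obtain ⟨h, hh, hne⟩ := pslImage_no_fixed K.subtype z
    exact ⟨h, hle0 hh, hne⟩
  have hdvd : Nat.card (pglImage K.subtype) ≤ k * (k ^ 2 - 1) := by
    refine Nat.le_of_dvd (Nat.mul_pos (by omega) ?_) (hk ▸ card_pglImage_dvd)
    have := Nat.pow_le_pow_left hk3 2
    omega
  have hlow : k * (k ^ 2 - 1) ≤ 2 * Nat.card (pglImage K.subtype) := by
    rw [← card_pslImage_mul hk]
    exact Nat.mul_le_mul (Nat.le_of_dvd two_pos (Nat.gcd_dvd_left 2 _))
      (Subgroup.card_le_of_le hle0)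
  refine ⟨ne_top_of_card_lt (lt_of_le_of_lt hdvd ?_), fun M hM => ?_⟩
  · have hG := card_psl_mul_two (F := F) rfl
    have hq2 : k * k ≤ Fintype.card F := by
      rw [← hq, ← pow_two]; exact Nat.pow_le_pow_right (by omega) hr2
    have h1 : k ^ 2 - 1 ≤ Fintype.card F ^ 2 - 1 :=
      Nat.sub_le_sub_right (Nat.pow_le_pow_left (le_trans (Nat.le_mul_self k) hq2) 2) 1
    have h2 : 3 * (k * (k ^ 2 - 1)) ≤ Fintype.card F * (Fintype.card F ^ 2 - 1) := by
      rw [← mul_assoc]
      exact Nat.mul_le_mul (le_trans (Nat.mul_le_mul_right k hk3) hq2) h1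
    have h3 : 0 < k * (k ^ 2 - 1) := Nat.mul_pos (by omega) (by
      have := Nat.pow_le_pow_left hk3 2; omega)
    omega
  obtain ⟨hlt, hdvd'⟩ := card_lt_of_lt hM
  have hsmall : ∀ N, Nat.card M = N → N ≤ 60 → k = 3 := fun N hN hN60 => by
    by_contra hne
    rw [hN] at hlt
    rcases Nat.lt_or_ge k 6 with h6 | h6
    · have hk45 : k = 4 ∨ k = 5 := by omega
      rcases hk45 with rfl | rfl
      · have h1 := Subgroup.card_le_of_le hle0
        have h2 := card_pslImage_mul hk
        rw [show Nat.gcd 2 (4 - 1) = 1 by decide, one_mul, show 4 * (4 ^ 2 - 1) = 60 by decide] at h2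
        omega
      · rw [show 5 * (5 ^ 2 - 1) = 120 by decide] at hlow
        omega
    · have : 6 * 35 ≤ k * (k ^ 2 - 1) :=
        Nat.mul_le_mul h6 (by have := Nat.pow_le_pow_left h6 2; omega)
      omega
  have hr24 : k = 3 → r = 2 → Nat.card (pglImage K.subtype) = 24 := by
    intro h3 h2
    obtain ⟨φ⟩ := nonempty_pglImage_equiv K.subtype fun a ha =>
      isSquare_map_of_even K.subtype rfl (by rw [← hq, h3]; exact Odd.pow (by decide))
        (by rw [hk', hq]) (by rw [h2]; exact even_two) ha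
    rw [Nat.card_congr φ.toEquiv, card_PGL_eq_card_SL, Two.card_SL_two, hk', h3]
    norm_num
  have hrodd : k = 3 → r ≠ 2 → Fintype.card F % 8 = 3 ∧ Fintype.card F ^ 2 % 5 = 4 := by
    intro h3 h2
    obtain ⟨t, rfl⟩ := hr.odd_of_ne_two h2
    rw [← hq, h3, ← pow_mul, show (2 * t + 1) * 2 = 4 * t + 2 by ring, pow_succ, pow_mul,
      pow_add, pow_mul, Nat.mul_mod, Nat.pow_mod, Nat.mul_mod (((3 : ℕ) ^ 4) ^ t), Nat.pow_mod ((3 : ℕ) ^ 4)]
    norm_num
  rcases cases_above p hsq hfix hM.le with ⟨⟨ψ⟩⟩ | h | h | ⟨L, g, -, hc⟩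
  · exfalso
    have hM' := card_of_equiv ψ natCard_alt_four
    have h3 := hsmall _ hM' (by norm_num)
    rw [hM'] at hlt
    have h2 := card_pslImage_mul hk
    rw [h3, show Nat.gcd 2 (3 - 1) = 2 by decide, show 3 * (3 ^ 2 - 1) = 24 by decide] at h2
    have := Subgroup.card_le_of_le hle0
    omega
  · exfalso
    obtain ⟨ψ⟩ := h
    have hM' := card_of_equiv ψ natCard_perm_four
    have h3 := hsmall _ hM' (by norm_num)
    rw [hM'] at hlt
    by_cases h2 : r = 2
    · rw [hr24 h3 h2] at hlt; omega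
    · have := (perm_four_iff rfl).1 ⟨M, ⟨ψ⟩⟩
      have h8 := (hrodd h3 h2).1
      rw [pow_two, Nat.mul_mod] at this
      have e : Fintype.card F % 8 = Fintype.card F % 16 % 8 :=
        (Nat.mod_mod_of_dvd _ (by norm_num)).symm
      have hlt16 : Fintype.card F % 16 < 16 := Nat.mod_lt _ (by norm_num)
      generalize Fintype.card F % 16 = s at this e hlt16
      interval_cases s <;> omega
  · exfalso
    obtain ⟨ψ⟩ := h
    have hM' := card_of_equiv ψ natCard_alt_five
    have h3 := hsmall _ hM' le_rfl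
    rw [hM'] at hdvd'
    by_cases h2 : r = 2
    · rw [hr24 h3 h2] at hdvd'
      exact absurd hdvd' (by decide)
    · have h5 := (alt_five_iff rfl).1 ⟨M, ⟨ψ⟩⟩
      have h4 := (hrodd h3 h2).2
      rcases (Nat.Prime.dvd_mul (by norm_num)).1 h5 with h' | h'
      · have := Nat.dvd_trans h' (dvd_pow_self _ (two_ne_zero))
        omega
      · omega
  · have hKL : K ≤ L := by
      refine subfield_le_of_images g ?_
      refine le_trans (Subgroup.map_mono (hle0.trans hM.le)) ?_
      rcases hc with e | ⟨-, e⟩ <;> rw [e]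
      exact pslImage_le_pglImage _
    rcases subfield_card_cases hr (by omega) hq hk hKL with hL | hL
    · exfalso
      obtain rfl : K = L := SetLike.coe_injective
        (Set.eq_of_subset_of_ncard_le hKL (by rw [← Nat.card_coe_set_eq, ← Nat.card_coe_set_eq]
                                              exact le_of_eq (hL.trans hk.symm)))
      have : Nat.card M ≤ Nat.card (pglImage K.subtype) := by
        rw [← card_map_pslConj g M]
        rcases hc with e | ⟨-, e⟩ <;> rw [e]
        exact Subgroup.card_le_of_le hle0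
      omega
    · exact eq_top_of_subfield p hL hc

end Subfields

/-! ### Dihedral maximal subgroups -/

section DihedralMax

variable {F : Type*} [Field F] [Fintype F] (p : ℕ) [Fact p.Prime] [CharP F p]

theorem isCoatom_of_index_prime {G : Type*} [Group G] [Finite G] {H : Subgroup G}
    (h : H.index.Prime) : IsCoatom H := by
  refine ⟨fun e => by rw [e, Subgroup.index_top] at h; exact Nat.not_prime_one h, fun M hM => ?_⟩
  have hd := Subgroup.index_dvd_of_le hM.le
  rcases (Nat.dvd_prime h).1 hd with e | e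
  · exact Subgroup.index_eq_one.1 e
  · exfalso
    refine hM.ne (Subgroup.eq_of_le_of_card_ge hM.le (le_of_eq ?_))
    have h1 := H.card_mul_index
    have h2 := M.card_mul_index
    rw [e] at h2
    exact Nat.eq_of_mul_eq_mul_right h.pos (h2.trans h1.symm)

theorem orderOf_dvd_of_dihedral {G : Type*} [Group G] {n : ℕ} [NeZero n] (ψ : G ≃* DihedralGroup n)
    (g : G) : orderOf g ∣ n ∨ orderOf g = 2 := by
  rw [← ψ.orderOf_eq]
  rcases ψ g with i | i
  · exact Or.inl (by rw [DihedralGroup.orderOf_r]; exact Nat.div_dvd_of_dvd (Nat.gcd_dvd_left _ _))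
  · exact Or.inr (DihedralGroup.orderOf_sr i)

include p in
theorem dihedral_maximal {q m : ℕ} (hF : Fintype.card F = q)
    (hm : (m = (q + 1) / Nat.gcd 2 (q - 1) ∧ q ≠ 2 ∧ q ≠ 7 ∧ q ≠ 9) ∨
      (m = (q - 1) / Nat.gcd 2 (q - 1) ∧ q ≠ 2 ∧ q ≠ 3 ∧ q ≠ 5 ∧ q ≠ 7 ∧ q ≠ 9 ∧ q ≠ 11)) :
    ∃ H : Subgroup (ProjectiveSpecialLinearGroup (Fin 2) F),
      IsCoatom H ∧ Nonempty (H ≃* DihedralGroup m) := by
  classical
  have hp := (Fact.out : p.Prime)
  obtain ⟨f, hf, hqf⟩ := exists_card_eq_prime_pow (F := F) p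
  rw [hF] at hqf
  have hq2 : 2 ≤ q := hF ▸ Fintype.one_lt_card
  have hq3 : 3 ≤ q := by omega
  set d := Nat.gcd 2 (q - 1) with hd
  have hd12 : (d = 1 ∧ q % 2 = 0) ∨ (d = 2 ∧ q % 2 = 1) := by
    rcases Nat.mod_two_eq_zero_or_one q with h | h
    · refine Or.inl ⟨?_, h⟩
      rw [hd]
      exact Nat.coprime_two_left.2 (Nat.odd_iff.2 (by omega))
    · exact Or.inr ⟨Nat.gcd_eq_left (Nat.dvd_of_mod_eq_zero (by omega)), h⟩
  have hdm : d * m = q + 1 ∨ d * m = q - 1 := by
    rcases hd12 with ⟨h1, h2⟩ | ⟨h1, h2⟩ <;> rcases hm with ⟨rfl, -⟩ | ⟨rfl, -⟩ <;> rw [h1] <;> omega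
  have hm2 : 2 ≤ m := by
    rcases hd12 with ⟨h1, h2⟩ | ⟨h1, h2⟩ <;> rw [h1] at hdm hm <;> omega
  have hside : m ∣ (q + 1) / d ∨ m ∣ (q - 1) / d := by
    rcases hm with ⟨e, -⟩ | ⟨e, -⟩
    · exact Or.inl (e ▸ dvd_rfl)
    · exact Or.inr (e ▸ dvd_rfl)
  obtain ⟨D, hDcard, hDiso, g, w, hgD, hwD, hg, hw, hinv, hwg⟩ := exists_dihedral p hF hq3 hm2 hside
  obtain ⟨ψD⟩ := hDiso
  refine ⟨D, ?_, ⟨ψD⟩⟩
  have hG := gcd_mul_card_psl (F := F) hF
  rw [← hd] at hG
  by_cases hq3' : q = 3
  · subst hq3'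
    refine isCoatom_of_index_prime ?_
    have hd2 : d = 2 := by omega
    rw [hd2] at hG hdm
    have h := D.card_mul_index
    rw [hDcard] at h
    have hm' : m = 2 := by omega
    rw [hm'] at h
    rw [show 3 * (3 ^ 2 - 1) = 24 by decide] at hG
    rw [show D.index = 3 by omega]
    norm_num
  have hm3 : 3 ≤ m := by
    rcases hd12 with ⟨h1, h2⟩ | ⟨h1, h2⟩ <;> rw [h1] at hdm hm <;> omega
  refine ⟨ne_top_of_card_lt ?_, fun M hM => ?_⟩
  · rw [hDcard]
    have h4 : (q + 1) * 3 ≤ q ^ 2 - 1 := by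
      rw [show q ^ 2 - 1 = (q + 1) * (q - 1) by rw [← Nat.sq_sub_sq, one_pow]]
      exact Nat.mul_le_mul_left _ (by omega)
    have h5 : 4 * (q ^ 2 - 1) ≤ q * (q ^ 2 - 1) := Nat.mul_le_mul_right _ (by omega)
    rcases hd12 with ⟨h1, -⟩ | ⟨h1, -⟩ <;> rw [h1] at hG hdm <;> omega
  obtain ⟨hlt, hdvd⟩ := card_lt_of_lt hM
  rw [hDcard] at hlt hdvd
  let g' : M := ⟨g, hM.le hgD⟩
  let w' : M := ⟨w, hM.le hwD⟩
  have hg' : orderOf g' = m := by rw [Subgroup.orderOf_mk, hg]
  have hinv' : w' * g' * w'⁻¹ = g'⁻¹ := Subtype.ext hinv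
  have hgg : g * g ≠ 1 := fun h => by
    have := orderOf_dvd_of_pow_eq_one ((pow_two g).trans h)
    rw [hg] at this
    have := Nat.le_of_dvd two_pos this
    omega
  have hpm : ¬ p ∣ m := not_dvd_of_dvd_torus p hF hside
  rcases subgroup_cases_conj p hF M with
    ⟨hC, -, -⟩ | ⟨-, z, hz⟩ | ⟨n, hn2, -, hn, ⟨ψ⟩⟩ | ⟨⟨ψ⟩⟩ | ⟨⟨ψ⟩⟩ | ⟨⟨ψ⟩⟩ | ⟨K, h, hK3, hc⟩
  · exfalso
    obtain ⟨u, hu⟩ := hC.exists_generator
    obtain ⟨i, hi⟩ := Subgroup.mem_zpowers_iff.1 (hu g')
    obtain ⟨j, hj⟩ := Subgroup.mem_zpowers_iff.1 (hu w')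
    have hc : w' * g' * w'⁻¹ = g' := by
      rw [mul_inv_eq_iff_eq_mul, ← hi, ← hj, ← _root_.zpow_add, ← _root_.zpow_add, add_comm]
    rw [hinv'] at hc
    refine hgg ?_
    have h' : g⁻¹ = g := congrArg Subtype.val hc
    nth_rewrite 2 [← h']
    exact mul_inv_cancel g
  · exfalso
    refine not_fix_of_commutator p (n := m) hpm (g := w) (h := g) ?_ ?_ (hz w (hM.le hwD)) (hz g (hM.le hgD))
    · rw [commutatorElement_def, hinv, ← _root_.mul_inv_rev, Ne, inv_eq_one]
      exact hgg
    · rw [commutatorElement_def, hinv, ← _root_.mul_inv_rev, inv_pow, ← pow_two, ← pow_mul, mul_comm, pow_mul,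
        ← hg, pow_orderOf_eq_one, one_pow, inv_one]
  · exfalso
    have : NeZero n := ⟨by omega⟩
    have hMn : Nat.card M = 2 * n := card_of_equiv ψ DihedralGroup.nat_card
    have hmn : m ∣ n := by
      rcases orderOf_dvd_of_dihedral ψ g' with h | h <;> rw [hg'] at h
      · exact h
      · omega
    have hnn : n ∣ m := by
      have hle := Nat.le_of_dvd (by omega) hmn
      rcases hd12 with ⟨h1, h2⟩ | ⟨h1, h2⟩
      · rw [← hd] at hn
        rw [h1, Nat.div_one, Nat.div_one] at hn hm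
        rcases hm with ⟨rfl, -⟩ | ⟨rfl, -⟩ <;> rcases hn with hn | hn
        · exact hn
        · have := Nat.le_of_dvd (by omega) hn; omega
        · have := Nat.dvd_sub (hmn.trans hn) (dvd_refl (q - 1))
          rw [show q + 1 - (q - 1) = 2 by omega] at this
          have := Nat.le_of_dvd two_pos this
          omega
        · exact hn
      · rw [← hd] at hn
        rw [h1] at hn hm
        rcases hm with ⟨rfl, -⟩ | ⟨rfl, -⟩ <;> rcases hn with hn | hn
        · exact hn
        · have := Nat.le_of_dvd (by omega) hn; omega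
        · have := Nat.dvd_sub (hmn.trans hn) (dvd_refl ((q - 1) / 2))
          rw [show (q + 1) / 2 - (q - 1) / 2 = 1 by omega] at this
          have := Nat.le_of_dvd one_pos this
          omega
        · exact hn
    have := Nat.dvd_antisymm hnn hmn
    omega
  · exfalso
    have hA : ∀ a : alternatingGroup (Fin 4), orderOf a ∣ 2 ∨ orderOf a ∣ 3 := fun a => by
      rcases (by decide +kernel : ∀ a : alternatingGroup (Fin 4), a ^ 2 = 1 ∨ a ^ 3 = 1) a with h | h
      · exact Or.inl (orderOf_dvd_of_pow_eq_one h)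
      · exact Or.inr (orderOf_dvd_of_pow_eq_one h)
    have hord : orderOf (ψ g') = m := by rw [ψ.orderOf_eq, hg']
    have hnone : ∀ a b : alternatingGroup (Fin 4), a ^ 3 = 1 → b * a * b⁻¹ = a⁻¹ → a = 1 := by
      decide +kernel
    rcases hA (ψ g') with h | h <;> rw [hord] at h <;> have hmle := Nat.le_of_dvd (by norm_num) h
    · omega
    · have hm' : m = 3 := by omega
      have h1 := hnone (ψ g') (ψ w') (by rw [← hm', ← hord, pow_orderOf_eq_one])
        (by rw [← map_inv, ← map_mul, ← map_mul, hinv', map_inv])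
      rw [h1, orderOf_one] at hord
      omega
  · exfalso
    have hord : orderOf (ψ g') = m := by rw [ψ.orderOf_eq, hg']
    have hm4 : m ≤ 4 := by
      rcases (by decide +kernel : ∀ a : Equiv.Perm (Fin 4), a ^ 3 = 1 ∨ a ^ 4 = 1) (ψ g') with h | h <;>
        have h' := orderOf_dvd_of_pow_eq_one h <;> rw [hord] at h' <;>
        have := Nat.le_of_dvd (by norm_num) h' <;> omega
    have hq45 : q = 4 ∨ q = 5 ∨ q = 6 := by
      rcases hd12 with ⟨h1, h2⟩ | ⟨h1, h2⟩ <;> rw [h1] at hm <;> omega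
    have hd60 := M.card_subgroup_dvd_card
    rw [card_of_equiv ψ natCard_perm_four] at hd60
    rcases hq45 with rfl | rfl | rfl
    · rw [show d = 1 by rw [hd]; decide, one_mul, show 4 * (4 ^ 2 - 1) = 60 by decide] at hG
      omega
    · rw [show d = 2 by rw [hd]; decide, show 5 * (5 ^ 2 - 1) = 120 by decide] at hG
      omega
    · exact absurd hqf.symm (prime_pow_ne_six hp f)
  · have hord : orderOf (ψ g') = m := by rw [ψ.orderOf_eq, hg']
    have hm5 : m ≤ 5 := by
      rcases (by decide +kernel : ∀ a : alternatingGroup (Fin 5), a ^ 2 = 1 ∨ a ^ 3 = 1 ∨ a ^ 5 = 1)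
        (ψ g') with h | h | h <;>
        have h' := orderOf_dvd_of_pow_eq_one h <;> rw [hord] at h' <;>
        have := Nat.le_of_dvd (by norm_num) h' <;> omega
    have hq45 : q = 4 ∨ q = 5 ∨ q = 6 := by
      rcases hd12 with ⟨h1, h2⟩ | ⟨h1, h2⟩ <;> rw [h1] at hm <;> omega
    refine Subgroup.eq_top_of_le_card M ?_
    rw [card_of_equiv ψ natCard_alt_five]
    rcases hq45 with rfl | rfl | rfl
    · rw [show d = 1 by rw [hd]; decide, one_mul, show 4 * (4 ^ 2 - 1) = 60 by decide] at hG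
      omega
    · rw [show d = 2 by rw [hd]; decide, show 5 * (5 ^ 2 - 1) = 120 by decide] at hG
      omega
    · exact absurd hqf.symm (prime_pow_ne_six hp f)
  · obtain ⟨j, hj, hjF⟩ := exists_degree (le_top : K ≤ ⊤)
    rw [show Nat.card (⊤ : Subfield F) = Fintype.card F from
      (Nat.card_congr Subfield.topEquiv.toEquiv).trans Nat.card_eq_fintype_card] at hjF
    rcases Nat.lt_or_ge j 2 with hj2 | hj2
    · exact eq_top_of_subfield p (by rw [← hjF, show j = 1 by omega, pow_one]) hc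
    exfalso
    have : Fintype K := Fintype.ofFinite K
    set k := Nat.card K with hkdef
    have hk' : Fintype.card K = k := by rw [hkdef, Nat.card_eq_fintype_card]
    have hgK : pslConj h g ∈ pglImage K.subtype := by
      have h1 : pslConj h g ∈ M.map (pslConj h).toMonoidHom := ⟨g, hM.le hgD, rfl⟩
      rcases hc with e | ⟨-, e⟩ <;> rw [e] at h1
      · exact h1
      · exact pslImage_le_pglImage _ h1
    have : CharP K p := (RingHom.charP_iff_charP K.subtype p).2 inferInstance
    have hord := orderOf_dvd_pglImage K.subtype p hk' hgK (by rw [(pslConj h).orderOf_eq, hg]; exact hpm)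
    rw [(pslConj h).orderOf_eq, hg] at hord
    have hkq : k * k ≤ q := by
      rw [← hF, ← hjF, ← pow_two]; exact Nat.pow_le_pow_right (by omega) hj2
    have hk4 : 3 * k ≤ k * k := Nat.mul_le_mul_right k hK3
    rcases hd12 with ⟨h1, h2⟩ | ⟨h1, h2⟩
    · -- even `q`
      have hkd : Nat.gcd 2 (k - 1) = 1 := by
        have hk0 : 2 ∣ k := by
          have : 2 ∣ k ^ j := hjF.trans hF ▸ Nat.dvd_of_mod_eq_zero h2
          exact Nat.prime_two.dvd_of_dvd_pow this
        exact Nat.coprime_two_left.2 (Nat.odd_iff.2 (by omega))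
      rw [hkd, Nat.div_one, Nat.div_one] at hord
      have hmodd : Nat.Coprime m 2 := Nat.coprime_two_right.2 (Nat.odd_iff.2 (by
        rcases hdm with e | e <;> rw [h1] at e <;> omega))
      have hle : m ≤ k + 1 := by
        rcases hord with e | e <;> have := Nat.le_of_dvd (by omega) (hmodd.dvd_of_dvd_mul_left e) <;>
          omega
      rw [h1] at hdm
      omega
    · have hk1 : k % 2 = 1 := by
        by_contra hk0
        have : 2 ∣ k ^ j := dvd_trans (Nat.dvd_of_mod_eq_zero (by omega)) (dvd_pow_self k (by omega))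
        rw [hjF, hF] at this
        omega
      rw [Nat.gcd_eq_left (Nat.dvd_of_mod_eq_zero (by omega) : 2 ∣ k - 1)] at hord
      have hle : m ≤ k + 1 := by
        rcases hord with e | e <;> have := Nat.le_of_dvd (by omega) e <;> omega
      rw [h1] at hdm
      have hk3 : k = 3 := by
        by_contra hne
        have : 5 * k ≤ k * k := Nat.mul_le_mul_right k (by omega)
        omega
      rw [hk3] at hjF hle
      have hq9 : q = 9 := by
        have : j = 2 := by
          by_contra hne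
          have : 3 ^ 3 ≤ 3 ^ j := Nat.pow_le_pow_right (by norm_num) (by omega)
          rw [hjF, hF] at this
          omega
        rw [← hF, ← hjF, this]; norm_num
      omega

end DihedralMax

end CfsgLib.Classical.Dickson
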