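import Cfsg.Agent.Lib.Classical.Dickson.PSL

/-!
Point stabilisers of `PSL(2, q)` normalise Sylow subgroups of the characteristic.
-/

set_option autoImplicit false

namespace CfsgLib.Classical.Dickson

open Matrix
open scoped LinearAlgebra.Projectivization MatrixGroups Pointwise

variable {F : Type*} [Field F] [Fintype F] (p : ℕ) [Fact p.Prime] [CharP F p]

theorem exists_sylow_stab_le_normalizer (x : ℙ F (Fin 2 → F)) :
    ∃ P : Sylow p (ProjectiveSpecialLinearGroup (Fin 2) F),
      (P : Subgroup (ProjectiveSpecialLinearGroup (Fin 2) F)) =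
        (Two.rootGroup x).map (QuotientGroup.mk' (Subgroup.center SL(2, F))) ∧
      MulAction.stabilizer (ProjectiveSpecialLinearGroup (Fin 2) F) x ≤
        Subgroup.normalizer
          ((P : Subgroup (ProjectiveSpecialLinearGroup (Fin 2) F)) :
            Set (ProjectiveSpecialLinearGroup (Fin 2) F)) := by
  obtain ⟨Q, hQ⟩ := (Two.rootGroup_isPGroup p x).exists_le_sylow
  have hQ' : (Q : Subgroup SL(2, F)) = Two.rootGroup x := (Subgroup.eq_of_le_of_card_ge hQ (by
    rw [Two.card_rootGroup, Nat.card_eq_fintype_card (α := F)]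
    exact (Two.card_sylow_SL_two p Q).le)).symm
  let P := Q.mapSurjective (QuotientGroup.mk'_surjective (Subgroup.center SL(2, F)))
  have hP : (P : Subgroup (ProjectiveSpecialLinearGroup (Fin 2) F)) =
      (Two.rootGroup x).map (QuotientGroup.mk' (Subgroup.center SL(2, F))) := by
    rw [← hQ']; rfl
  refine ⟨P, hP, fun g hg => ?_⟩
  induction g using QuotientGroup.induction_on with | _ A =>
  have hA : A • x = x := hg
  rw [hP]
  rw [Subgroup.mem_normalizer_iff]
  intro n
  have hconj : ∀ B : SL(2, F), B ∈ Two.rootGroup x ↔ A * B * A⁻¹ ∈ Two.rootGroup x := fun B => by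
    conv_rhs => rw [← hA, Two.rootGroup_smul]
    rw [Subgroup.mem_pointwise_smul_iff_inv_smul_mem, ← map_inv]
    rw [show MulAut.conj A⁻¹ • (A * B * A⁻¹) = A⁻¹ * (A * B * A⁻¹) * A⁻¹⁻¹ from rfl]
    rw [show A⁻¹ * (A * B * A⁻¹) * A⁻¹⁻¹ = B by group]
  constructor
  · rintro ⟨B, hB, rfl⟩
    exact ⟨A * B * A⁻¹, (hconj B).1 hB, rfl⟩
  · rintro ⟨B, hB, hBn⟩
    refine ⟨A⁻¹ * B * A, (hconj _).2 (by simpa [mul_assoc] using hB), ?_⟩
    have hn : n = (QuotientGroup.mk A)⁻¹ * QuotientGroup.mk' (Subgroup.center SL(2, F)) B *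
        QuotientGroup.mk A := by rw [hBn]; group
    rw [hn]; rfl

end CfsgLib.Classical.Dickson
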