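import Cfsg.Agent.Lib.Classical.Dickson.ClassifyPlatonic

/-!
The types of maximal subgroups of `PSL(2, q)`.
-/

set_option autoImplicit false

namespace CfsgLib.Classical.Dickson

open Matrix
open scoped LinearAlgebra.Projectivization MatrixGroups commutatorElement

variable {F : Type*} [Field F] [Fintype F] (p : ℕ) [Fact p.Prime] [CharP F p]

include p in
/-- A group with a normal abelian subgroup of exponent `p` fixes a point. -/
theorem exists_fix_of_char {M : Subgroup (ProjectiveSpecialLinearGroup (Fin 2) F)} {u : M}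
    (hu : orderOf u = p) (hcomm : ∀ v : M, Commute (v * u * v⁻¹) u) :
    ∃ x : ℙ F (Fin 2 → F), ∀ g ∈ M, g • x = x := by
  let j : M →* Mob F := ProjectiveSpecialLinearGroup.toPGL.comp M.subtype
  have hj : Function.Injective j :=
    (ProjectiveSpecialLinearGroup.toPGL_injective).comp M.subtype_injective
  obtain ⟨x₀, hx₀⟩ : ∃ x₀ : ℙ F (Fin 2 → F), (u : ProjectiveSpecialLinearGroup (Fin 2) F) • x₀ = x₀ := by
    have hP : IsPGroup p (Subgroup.zpowers (u : ProjectiveSpecialLinearGroup (Fin 2) F)) :=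
      IsPGroup.of_card (n := 1) (by rw [Nat.card_zpowers, Subgroup.orderOf_coe, hu, pow_one])
    obtain ⟨x₀, hx₀⟩ := hP.nonempty_fixed_point_of_prime_not_dvd_card (ℙ F (Fin 2 → F)) (by
      obtain ⟨f, hf, hqf⟩ := exists_char_pow (F := F) p
      rw [Two.card_line, hqf]
      intro h
      exact (Fact.out : p.Prime).not_dvd_one
        ((Nat.dvd_add_right (dvd_pow_self p (by omega))).1 h))
    exact ⟨x₀, hx₀ ⟨_, Subgroup.mem_zpowers _⟩⟩
  have hu0 : j u • x₀ = x₀ := by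
    show ProjectiveSpecialLinearGroup.toPGL (u : ProjectiveSpecialLinearGroup (Fin 2) F) • x₀ = x₀
    rw [psl_smul]; exact hx₀
  have hup : j u ^ p = 1 := by rw [← map_pow, ← hu, pow_orderOf_eq_one, map_one]
  have hu1 : j u ≠ 1 := fun h => by
    rw [← map_one j] at h
    rw [hj h, orderOf_one] at hu
    exact (Fact.out : p.Prime).one_lt.ne hu
  refine ⟨x₀, fun g hg => ?_⟩
  have hg' : j ⟨g, hg⟩ • x₀ = x₀ := by
    set v : M := ⟨g, hg⟩
    have hc : Commute (j (v * u * v⁻¹)) (j u) := (hcomm v).map j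
    have hv1 : j (v * u * v⁻¹) • (j v • x₀) = j v • x₀ := by
      rw [map_mul, map_mul, map_inv, mul_smul, mul_smul, inv_smul_smul, hu0]
    have hv2 : j (v * u * v⁻¹) • (j u • (j v • x₀)) = j u • (j v • x₀) := by
      rw [← mul_smul, hc.eq, mul_smul, hv1]
    have h1 : j u • (j v • x₀) = j v • x₀ :=
      unip_fix_unique p hv2 hv1 (by rw [map_mul, map_mul, map_inv, conj_pow, hup, mul_one, mul_inv_cancel])
        (fun h => hu1 (by rw [map_mul, map_mul, map_inv] at h; exact conj_eq_one_iff.1 h))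
    exact unip_fix_unique p h1 hu0 hup hu1
  rw [← psl_smul]
  exact hg'

theorem exists_small_field {K : Type*} [Field K] [Finite K] :
    ∃ (F₀ : Type) (_ : Field F₀) (_ : Fintype F₀), Fintype.card F₀ = Nat.card K ∧
      Nonempty (F₀ ≃+* K) := by
  have : Fintype K := Fintype.ofFinite K
  obtain ⟨p, hp⟩ := CharP.exists K
  have : Fact p.Prime := ⟨CharP.char_is_prime K p⟩
  obtain ⟨f, hf, hq⟩ := exists_char_pow (F := K) p
  have : Fintype (GaloisField p f) := Fintype.ofFinite _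
  have hc : Fintype.card (GaloisField p f) = Fintype.card K := by
    rw [← Nat.card_eq_fintype_card, GaloisField.card p f (by omega), hq]
  exact ⟨GaloisField p f, inferInstance, inferInstance, by rw [hc, Nat.card_eq_fintype_card],
    ⟨FiniteField.ringEquivOfCardEq hc⟩⟩

theorem even_cases (heven : Even (Fintype.card F)) (h4 : 4 ≤ Fintype.card F)
    (M : Subgroup (ProjectiveSpecialLinearGroup (Fin 2) F)) (hM : IsCoatom M) :
    Nat.card M = Fintype.card F * (Fintype.card F - 1) ∨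
    Nonempty (M ≃* DihedralGroup (Fintype.card F - 1)) ∨
    Nonempty (M ≃* DihedralGroup (Fintype.card F + 1)) ∨
    (∃ (F₀ : Type) (_ : Field F₀) (_ : Fintype F₀) (r : ℕ), r.Prime ∧ Fintype.card F₀ ≠ 2 ∧
        Fintype.card F = Fintype.card F₀ ^ r ∧ Nonempty (M ≃* ProjectiveSpecialLinearGroup (Fin 2) F₀)) := by
  obtain ⟨p, hp⟩ := CharP.exists F
  have : Fact p.Prime := ⟨CharP.char_is_prime F p⟩
  have hp := (Fact.out : p.Prime)
  obtain ⟨f, hf, hqf⟩ := exists_char_pow (F := F) p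
  obtain rfl : p = 2 := by
    rw [hqf] at heven
    exact ((Nat.prime_dvd_prime_iff_eq Nat.prime_two hp).1
      (Nat.prime_two.dvd_of_dvd_pow (even_iff_two_dvd.1 heven))).symm
  have hd : Nat.gcd 2 (Fintype.card F - 1) = 1 := by
    rcases gcd_two_cases (q := Fintype.card F) (by omega) with ⟨h, -⟩ | ⟨-, h⟩
    · exact h
    · have := Nat.even_iff.1 heven; omega
  rcases subgroup_cases_conj 2 (q := Fintype.card F) rfl M with
    ⟨hC, hpM, hdvd⟩ | ⟨-, z, hz⟩ | ⟨n, hn2, hpn, -, ⟨ψ⟩⟩ | ⟨⟨ψ⟩⟩ | ⟨⟨ψ⟩⟩ | ⟨⟨ψ⟩⟩ | ⟨K, g, hK3, hc⟩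
  · exact absurd hM (not_isCoatom_of_cyclic 2 rfl h4 hC hpM hdvd)
  · have := fix_case (q := Fintype.card F) rfl h4 hM hz
    rw [hd, one_mul] at this
    exact Or.inl this
  · rcases dihedral_case 2 (q := Fintype.card F) rfl h4 hM hn2 hpn ψ with ⟨h, -⟩ | ⟨h, -, -⟩ <;>
      rw [hd, one_mul] at h <;> subst h
    · exact Or.inr (Or.inl ⟨ψ⟩)
    · exact Or.inr (Or.inr (Or.inl ⟨ψ⟩))
  · obtain ⟨u, hu, hcomm⟩ : ∃ u : alternatingGroup (Fin 4), (u ≠ 1 ∧ u ^ 2 = 1) ∧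
        ∀ v, (v * u * v⁻¹) * u = u * (v * u * v⁻¹) := by decide +kernel
    obtain ⟨x, hx⟩ := exists_fix_of_char 2 (u := ψ.symm u)
      (by rw [ψ.symm.orderOf_eq, orderOf_eq_prime hu.2 hu.1]) (fun v => ψ.injective (by
        simp only [map_mul, map_inv, MulEquiv.apply_symm_apply]
        exact hcomm (ψ v)))
    have := fix_case (q := Fintype.card F) rfl h4 hM hx
    rw [hd, one_mul] at this
    exact Or.inl this
  · exact absurd rfl (perm_four_case 2 hqf hf hM ψ).1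
  · rcases alt_five_case 2 hqf hf hM ψ with ⟨-, j, hj, rfl⟩ | ⟨h, -⟩ | ⟨h, -⟩
    · have : Fintype (GaloisField 2 2) := Fintype.ofFinite _
      have hc : Fintype.card (GaloisField 2 2) = 4 := by
        rw [← Nat.card_eq_fintype_card, GaloisField.card 2 2 two_ne_zero]; norm_num
      obtain ⟨φ⟩ := psl_four_five_equiv (GaloisField 2 2) (Or.inl hc)
      refine Or.inr (Or.inr (Or.inr ⟨GaloisField 2 2, inferInstance, inferInstance, j, hj, ?_, ?_,
        ⟨ψ.trans φ⟩⟩))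
      · rw [hc]; norm_num
      · rw [hc, hqf, pow_mul]; norm_num
    · exact absurd h (by norm_num)
    · exact absurd rfl h
  · obtain ⟨j, hj, hjF, h⟩ := subfield_case 2 hM hK3 hc
    obtain ⟨F₀, i₁, i₂, hc₀, ⟨e⟩⟩ := exists_small_field (K := K)
    rcases h with ⟨⟨φ⟩, -⟩ | ⟨h, -⟩
    · exact Or.inr (Or.inr (Or.inr ⟨F₀, i₁, i₂, j, hj, by omega, by rw [hc₀, hjF],
        ⟨φ.trans (pslCongr e).symm⟩⟩))
    · exact absurd rfl h

theorem odd_cases (hodd : Odd (Fintype.card F)) (h5 : 5 ≤ Fintype.card F)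
    (M : Subgroup (ProjectiveSpecialLinearGroup (Fin 2) F)) (hM : IsCoatom M) :
    2 * Nat.card M = Fintype.card F * (Fintype.card F - 1) ∨
    (13 ≤ Fintype.card F ∧ (∃ k : ℕ, 2 * k = Fintype.card F - 1 ∧ Nonempty (M ≃* DihedralGroup k))) ∨
    (Fintype.card F ≠ 7 ∧ Fintype.card F ≠ 9 ∧ (∃ k : ℕ, 2 * k = Fintype.card F + 1 ∧ Nonempty (M ≃* DihedralGroup k))) ∨
    (∃ (F₀ : Type) (_ : Field F₀) (_ : Fintype F₀), Fintype.card F = Fintype.card F₀ ^ 2 ∧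
        Nonempty (M ≃* ProjGenLinGroup (Fin 2) F₀)) ∨
    (∃ (F₀ : Type) (_ : Field F₀) (_ : Fintype F₀) (r : ℕ), r.Prime ∧ Odd r ∧ Fintype.card F = Fintype.card F₀ ^ r ∧
        Nonempty (M ≃* ProjectiveSpecialLinearGroup (Fin 2) F₀)) ∨
    ((Fintype.card F % 10 = 1 ∨ Fintype.card F % 10 = 9) ∧
        (Fintype.card F = p ∨ (Fintype.card F = p ^ 2 ∧ (p % 10 = 3 ∨ p % 10 = 7))) ∧
        Nonempty (M ≃* alternatingGroup (Fin 5))) ∨
    (Fintype.card F = p ∧ (p % 8 = 3 ∨ p % 8 = 5) ∧ ¬ (p % 10 = 1 ∨ p % 10 = 9) ∧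
        Nonempty (M ≃* alternatingGroup (Fin 4))) ∨
    (Fintype.card F = p ∧ (p % 8 = 1 ∨ p % 8 = 7) ∧ Nonempty (M ≃* Equiv.Perm (Fin 4))) := by
  have hp := (Fact.out : p.Prime)
  obtain ⟨f, hf, hqf⟩ := exists_char_pow (F := F) p
  have hp2 : p ≠ 2 := fun e => by
    subst e
    rw [hqf, Nat.odd_iff] at hodd
    have : 2 ∣ 2 ^ f := dvd_pow_self 2 (by omega)
    omega
  have hd : Nat.gcd 2 (Fintype.card F - 1) = 2 := by
    rcases gcd_two_cases (q := Fintype.card F) (by omega) with ⟨-, h⟩ | ⟨h, -⟩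
    · have := Nat.odd_iff.1 hodd; omega
    · exact h
  rcases subgroup_cases_conj p (q := Fintype.card F) rfl M with
    ⟨hC, hpM, hdvd⟩ | ⟨-, z, hz⟩ | ⟨n, hn2, hpn, -, ⟨ψ⟩⟩ | ⟨⟨ψ⟩⟩ | ⟨⟨ψ⟩⟩ | ⟨⟨ψ⟩⟩ | ⟨K, g, hK3, hc⟩
  · exact absurd hM (not_isCoatom_of_cyclic p rfl (by omega) hC hpM hdvd)
  · have := fix_case (q := Fintype.card F) rfl (by omega) hM hz
    rw [hd] at this
    exact Or.inl this
  · rcases dihedral_case p (q := Fintype.card F) rfl (by omega) hM hn2 hpn ψ with ⟨h, h13⟩ | ⟨h, h7, h9⟩ <;>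
      rw [hd] at h
    · exact Or.inr (Or.inl ⟨h13 (Nat.odd_iff.1 hodd), n, h, ⟨ψ⟩⟩)
    · exact Or.inr (Or.inr (Or.inl ⟨h7, h9, n, h, ⟨ψ⟩⟩))
  · rcases alt_four_case p hqf hf (hqf ▸ h5) hp2 hM ψ with ⟨rfl, h8, h10⟩ | ⟨rfl, hfp, hfo⟩
    · rw [pow_one] at hqf
      exact Or.inr (Or.inr (Or.inr (Or.inr (Or.inr (Or.inr (Or.inl ⟨hqf, h8, h10, ⟨ψ⟩⟩))))))
    · obtain ⟨φ⟩ := psl_three_equiv (ZMod 3) (ZMod.card 3)
      exact Or.inr (Or.inr (Or.inr (Or.inr (Or.inl ⟨ZMod 3, inferInstance, inferInstance, f, hfp, hfo,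
        by rw [ZMod.card, hqf], ⟨ψ.trans φ⟩⟩))))
  · rcases (perm_four_case p hqf hf hM ψ).2 with ⟨rfl, h8⟩ | ⟨rfl, rfl⟩
    · rw [pow_one] at hqf
      exact Or.inr (Or.inr (Or.inr (Or.inr (Or.inr (Or.inr (Or.inr ⟨hqf, h8, ⟨ψ⟩⟩))))))
    · obtain ⟨φ⟩ := pgl_three_equiv (ZMod 3) (ZMod.card 3)
      exact Or.inr (Or.inr (Or.inr (Or.inl ⟨ZMod 3, inferInstance, inferInstance,
        by rw [ZMod.card, hqf], ⟨ψ.trans φ⟩⟩)))
  · rcases alt_five_case p hqf hf hM ψ with ⟨h, -⟩ | ⟨rfl, hfp, hfo⟩ | ⟨-, h10, h⟩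
    · exact absurd h hp2
    · obtain ⟨φ⟩ := psl_four_five_equiv (ZMod 5) (Or.inr (ZMod.card 5))
      exact Or.inr (Or.inr (Or.inr (Or.inr (Or.inl ⟨ZMod 5, inferInstance, inferInstance, f, hfp, hfo,
        by rw [ZMod.card, hqf], ⟨ψ.trans φ⟩⟩))))
    · refine Or.inr (Or.inr (Or.inr (Or.inr (Or.inr (Or.inl ⟨hqf ▸ h10, ?_, ⟨ψ⟩⟩)))))
      rcases h with rfl | ⟨rfl, h⟩
      · exact Or.inl (by rw [hqf, pow_one])
      · exact Or.inr ⟨hqf, h⟩
  · obtain ⟨j, hj, hjF, h⟩ := subfield_case p hM hK3 hc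
    obtain ⟨F₀, i₁, i₂, hc₀, ⟨e⟩⟩ := exists_small_field (K := K)
    rcases h with ⟨⟨φ⟩, hjo⟩ | ⟨-, rfl, ⟨φ⟩⟩
    · exact Or.inr (Or.inr (Or.inr (Or.inr (Or.inl ⟨F₀, i₁, i₂, j, hj, hjo hp2, by rw [hc₀, hjF],
        ⟨φ.trans (pslCongr e).symm⟩⟩))))
    · exact Or.inr (Or.inr (Or.inr (Or.inl ⟨F₀, i₁, i₂, by rw [hc₀, hjF],
        ⟨φ.trans (pglCongr e).symm⟩⟩)))

end CfsgLib.Classical.Dickson
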