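import Cfsg.Agent.Lib.Classical.Dickson.ClassifyTorus

/-!
Maximal subgroups of `PSL(2, q)`: platonic and subfield ones.
-/

set_option autoImplicit false

namespace CfsgLib.Classical.Dickson

open Matrix
open scoped LinearAlgebra.Projectivization MatrixGroups commutatorElement

/-! ### Small linear groups as platonic groups -/

section Small

variable (K : Type*) [Field K] [Fintype K]

theorem nonempty_equiv_of_subgroup_card {G Γ : Type*} [Group G] [Group Γ] [Finite G] {H : Subgroup G}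
    (φ : H ≃* Γ) (h : Nat.card G = Nat.card Γ) : Nonempty (Γ ≃* G) := by
  have htop : H = ⊤ := Subgroup.eq_top_of_card_eq H ((Nat.card_congr φ.toEquiv).trans h.symm)
  exact ⟨φ.symm.trans ((MulEquiv.subgroupCongr htop).trans Subgroup.topEquiv)⟩

theorem psl_three_equiv (h : Fintype.card K = 3) :
    Nonempty (alternatingGroup (Fin 4) ≃* ProjectiveSpecialLinearGroup (Fin 2) K) := by
  have : Fact (Nat.Prime 3) := ⟨Nat.prime_three⟩
  have : CharP K 3 := by
    obtain ⟨p, hp⟩ := CharP.exists K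
    have := Fact.mk (CharP.char_is_prime K p)
    obtain ⟨f, hf, hq⟩ := exists_char_pow (F := K) p
    have h3 : p ∣ 3 := h ▸ hq ▸ dvd_pow_self p (by omega)
    rwa [(Nat.prime_dvd_prime_iff_eq Fact.out Nat.prime_three).1 h3] at hp
  obtain ⟨H, ⟨φ⟩⟩ := (alt_four_iff 3 1 (F := K) (by rw [h, pow_one])).2 (by omega)
  refine nonempty_equiv_of_subgroup_card φ ?_
  have := gcd_mul_card_psl (F := K) h
  rw [natCard_alt_four]
  norm_num at this
  omega

theorem psl_four_five_equiv (h : Fintype.card K = 4 ∨ Fintype.card K = 5) :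
    Nonempty (alternatingGroup (Fin 5) ≃* ProjectiveSpecialLinearGroup (Fin 2) K) := by
  obtain ⟨H, ⟨φ⟩⟩ := (alt_five_iff (F := K) rfl).2 (by rcases h with h | h <;> rw [h] <;> norm_num)
  refine nonempty_equiv_of_subgroup_card φ ?_
  rw [natCard_alt_five]
  rcases h with h | h <;> have := gcd_mul_card_psl (F := K) h <;> norm_num at this <;> omega

theorem pgl_three_equiv (h : Fintype.card K = 3) :
    Nonempty (Equiv.Perm (Fin 4) ≃* ProjGenLinGroup (Fin 2) K) := by
  classical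
  have h2 : (2 : K) ≠ 0 := fun e => by
    have : CharP K 2 := CharTwo.of_one_ne_zero_of_two_eq_zero one_ne_zero e
    have : Fact (Nat.Prime 2) := ⟨Nat.prime_two⟩
    obtain ⟨f, hf, hq⟩ := exists_char_pow (F := K) 2
    have : 2 ∣ 3 := h ▸ hq ▸ dvd_pow_self 2 (by omega)
    omega
  obtain ⟨a, b, hab⟩ := exists_sq_add_sq_eq_neg_one (F := K)
  obtain ⟨φ, hφ⟩ := exists_perm_four_mob hab h2
  refine ⟨MulEquiv.ofBijective φ ?_⟩
  have : Finite (Mob K) := Finite.of_surjective _ (QuotientGroup.mk_surjective)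
  refine (Nat.bijective_iff_injective_and_card _).2 ⟨hφ, ?_⟩
  rw [natCard_perm_four, card_PGL_eq_card_SL, Two.card_SL_two, h]
  norm_num

end Small

variable {F : Type*} [Field F] [Fintype F] (p : ℕ) [Fact p.Prime] [CharP F p]

theorem two_ne_zero_of_char (hp2 : p ≠ 2) : (2 : F) ≠ 0 := fun h =>
  hp2 (CharP.eq F ‹_› (CharTwo.of_one_ne_zero_of_two_eq_zero one_ne_zero h))

theorem sq_mod_sixteen {q : ℕ} (h : q ^ 2 % 16 = 1) : q % 8 = 1 ∨ q % 8 = 7 := by
  rw [pow_two, Nat.mul_mod] at h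
  have e : q % 8 = q % 16 % 8 := (Nat.mod_mod_of_dvd q (by norm_num)).symm
  have hlt : q % 16 < 16 := Nat.mod_lt _ (by norm_num)
  generalize q % 16 = r at h e hlt
  interval_cases r <;> omega

theorem sixteen_of_mod {q : ℕ} (h : q % 8 = 1 ∨ q % 8 = 7) : q ^ 2 % 16 = 1 := by
  rw [pow_two, Nat.mul_mod]
  have e : q % 8 = q % 16 % 8 := (Nat.mod_mod_of_dvd q (by norm_num)).symm
  have hlt : q % 16 < 16 := Nat.mod_lt _ (by norm_num)
  generalize q % 16 = r at e hlt ⊢
  interval_cases r <;> omega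

theorem odd_pow_even_mod_eight {x f : ℕ} (hx : Odd x) (hf : Even f) : x ^ f % 8 = 1 := by
  obtain ⟨t, rfl⟩ := hf
  rw [← two_mul, pow_mul, Nat.pow_mod, pow_two, Nat.mul_mod]
  have h : x % 8 % 2 = 1 := by rw [Nat.mod_mod_of_dvd _ (by norm_num)]; exact Nat.odd_iff.1 hx
  have hlt : x % 8 < 8 := Nat.mod_lt _ (by norm_num)
  generalize x % 8 = r at h hlt ⊢
  interval_cases r <;> simp at h ⊢

theorem sq_mod_five_pow {x f : ℕ} (hx : x % 5 = 2 ∨ x % 5 = 3) (hf : Odd f) :
    (x ^ f) ^ 2 % 5 = 4 := by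
  obtain ⟨t, rfl⟩ := hf
  rw [← pow_mul, show (2 * t + 1) * 2 = 4 * t + 2 by ring, pow_add, pow_mul, Nat.mul_mod, Nat.pow_mod,
    Nat.pow_mod x 4, Nat.pow_mod x 2]
  rcases hx with e | e <;> rw [e] <;> simp

theorem five_dvd_of_sq {x : ℕ} (h : x ^ 2 % 5 = 1) : 5 ∣ x * (x ^ 2 - 1) :=
  Dvd.dvd.mul_left (by omega) _

theorem five_dvd_pow_even {x f : ℕ} (hx : x % 5 ≠ 0) (hf : Even f) :
    5 ∣ x ^ f * ((x ^ f) ^ 2 - 1) := by
  refine five_dvd_of_sq ?_
  obtain ⟨t, rfl⟩ := hf
  rw [← pow_mul, show (t + t) * 2 = 4 * t by ring, pow_mul, Nat.pow_mod, Nat.pow_mod x 4]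
  have hlt : x % 5 < 5 := Nat.mod_lt _ (by norm_num)
  generalize x % 5 = r at hx hlt
  interval_cases r <;> simp at hx ⊢

theorem exists_factor {f : ℕ} (h2 : 2 ≤ f) (hnp : ¬ f.Prime) : ∃ l m, 2 ≤ l ∧ 2 ≤ m ∧ f = l * m := by
  obtain ⟨l, hl, hl1, hlf⟩ := Nat.exists_dvd_of_not_prime2 h2 hnp
  obtain ⟨m, rfl⟩ := hl
  refine ⟨l, m, hl1, ?_, rfl⟩
  rcases m with _ | _ | m <;> omega

include p in
/-- A platonic group realised inside a bigger subfield group is not maximal. -/
theorem not_isCoatom_subfield_copy {Γ : Type*} [Group Γ] {l m N : ℕ}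
    {M : Subgroup (ProjectiveSpecialLinearGroup (Fin 2) F)} (ψ : M ≃* Γ)
    (hconj : ∀ e e₀ : Γ →* ProjectiveSpecialLinearGroup (Fin 2) F, Function.Injective e →
      Function.Injective e₀ → ∃ (g : GL (Fin 2) F) (θ : MulAut Γ), ∀ x, e x = pslConj g (e₀ (θ x)))
    (hl : 1 ≤ l) (hk : 3 ≤ p ^ l) (hm : 2 ≤ m) (hq : (p ^ l) ^ m = Fintype.card F)
    (hcopy : ∀ (L : Subfield F) [Fintype L], Fintype.card L = p ^ l →
      ∃ H : Subgroup (ProjectiveSpecialLinearGroup (Fin 2) L), Nonempty (H ≃* Γ))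
    (hN : Nat.card Γ = N) (h1 : 2 * N < p ^ l * ((p ^ l) ^ 2 - 1)) : ¬ IsCoatom M := by
  obtain ⟨L, hL⟩ := exists_subfield_card (F := F) p (l := l) (m := m) (by omega) (by omega) hq
  have : Fintype L := Fintype.ofFinite L
  obtain ⟨H, ⟨φ⟩⟩ := hcopy L (by rw [← Nat.card_eq_fintype_card, hL])
  refine not_isCoatom_of_copy (H := pslImage L.subtype) ψ
    ((pslMap L.subtype).comp (H.subtype.comp φ.symm.toMonoidHom))
    ((pslMap_injective _).comp (H.subtype_injective.comp φ.symm.injective)) (fun x => ⟨_, rfl⟩)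
    hconj hN ?_ (card_pslImage_lt (hL ▸ hk) hm (hL ▸ hq))
  have := le_two_mul_card_pslImage L
  rw [hL] at this
  omega

theorem alt_four_case {f : ℕ} (hF : Fintype.card F = p ^ f) (hf : 1 ≤ f) (h5 : 5 ≤ p ^ f) (hp2 : p ≠ 2)
    {M : Subgroup (ProjectiveSpecialLinearGroup (Fin 2) F)} (hM : IsCoatom M)
    (ψ : M ≃* alternatingGroup (Fin 4)) :
    (f = 1 ∧ (p % 8 = 3 ∨ p % 8 = 5) ∧ ¬ (p % 10 = 1 ∨ p % 10 = 9)) ∨
      (p = 3 ∧ f.Prime ∧ Odd f) := by
  have hp := (Fact.out : p.Prime)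
  have hpo : Odd p := hp.odd_of_ne_two hp2
  have hqo : Odd (p ^ f) := hpo.pow
  have h2 : (2 : F) ≠ 0 := two_ne_zero_of_char p hp2
  have hG := card_psl_mul_two (F := F) hF
  have hG60 : 120 ≤ 2 * Nat.card (ProjectiveSpecialLinearGroup (Fin 2) F) :=
    le_trans (le_trans (by norm_num) (Nat.mul_le_mul h5 (Nat.sub_le_sub_right (Nat.pow_le_pow_left h5 2) 1))) hG
  have hS4 : (p ^ f) % 8 = 1 ∨ (p ^ f) % 8 = 7 → False := fun h => by
    obtain ⟨H, ⟨φ⟩⟩ := (perm_four_iff hF).2 (sixteen_of_mod h)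
    exact not_isCoatom_of_copy ψ
      ((H.subtype.comp φ.symm.toMonoidHom).comp (alternatingGroup (Fin 4)).subtype)
      ((H.subtype_injective.comp φ.symm.injective).comp (Subgroup.subtype_injective _))
      (fun x => (φ.symm _).2) (conj_alt_four h2) natCard_alt_four
      (by rw [card_of_equiv φ natCard_perm_four]; norm_num)
      (by rw [card_of_equiv φ natCard_perm_four]; omega) hM
  have hfo : Odd f := by
    rcases Nat.even_or_odd f with h | h
    · exact (hS4 (Or.inl (odd_pow_even_mod_eight hpo h))).elim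
    · exact h
  by_cases hf1 : f = 1
  · subst hf1
    rw [pow_one] at hF hS4 h5
    refine Or.inl ⟨rfl, ?_, fun h10 => ?_⟩
    · have := Nat.odd_iff.1 hpo
      by_contra hne
      exact hS4 (by omega)
    · obtain ⟨H, ⟨φ⟩⟩ := (alt_five_iff hF).2 (five_dvd_of_mod (by omega))
      obtain ⟨j, hj⟩ := exists_alt_four_five
      have hp11 : 9 ≤ p := by
        have := hp.two_le
        omega
      have h9 : 9 * 80 ≤ p * (p ^ 2 - 1) :=
        Nat.mul_le_mul hp11 (by have := Nat.pow_le_pow_left hp11 2; omega)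
      have hG' := card_psl_mul_two (F := F) hF
      exact not_isCoatom_of_copy ψ ((H.subtype.comp φ.symm.toMonoidHom).comp j)
        ((H.subtype_injective.comp φ.symm.injective).comp hj) (fun x => (φ.symm _).2)
        (conj_alt_four h2) natCard_alt_four (by rw [card_of_equiv φ natCard_alt_five]; norm_num)
        (by rw [card_of_equiv φ natCard_alt_five]; omega) hM
  have hcopy : ∀ l m, 1 ≤ l → 2 ≤ m → f = l * m → 5 ≤ p ^ l → False := by
    intro l m hl hm e hk
    refine not_isCoatom_subfield_copy p ψ (conj_alt_four h2) hl (by omega) hm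
      (by rw [← pow_mul, ← e, hF]) (fun L _ hL => ?_) natCard_alt_four ?_ hM
    · exact (alt_four_iff p l (F := L) hL).2 fun h => hp2 h.1
    · exact lt_of_lt_of_le (by norm_num : 2 * 12 < 5 * 24)
        (Nat.mul_le_mul hk (by have := Nat.pow_le_pow_left hk 2; omega))
  by_cases hp3 : p = 3
  · refine Or.inr ⟨hp3, ?_, hfo⟩
    by_contra hnp
    obtain ⟨l, m, hl, hm, e⟩ := exists_factor (by omega) hnp
    refine hcopy l m (by omega) hm e ?_
    subst hp3
    exact le_trans (by norm_num) (Nat.pow_le_pow_right (by norm_num) hl)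
  · refine (hcopy 1 f le_rfl (by omega) (by omega) ?_).elim
    rw [pow_one]
    rcases (by have := hp.two_le; omega : p = 4 ∨ 5 ≤ p) with rfl | h
    · norm_num at hp
    · exact h

theorem perm_four_case {f : ℕ} (hF : Fintype.card F = p ^ f) (hf : 1 ≤ f)
    {M : Subgroup (ProjectiveSpecialLinearGroup (Fin 2) F)} (hM : IsCoatom M)
    (ψ : M ≃* Equiv.Perm (Fin 4)) :
    p ≠ 2 ∧ ((f = 1 ∧ (p % 8 = 1 ∨ p % 8 = 7)) ∨ (p = 3 ∧ f = 2)) := by
  classical
  have hp := (Fact.out : p.Prime)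
  have h8 := sq_mod_sixteen ((perm_four_iff hF).1 ⟨M, ⟨ψ⟩⟩)
  have hp2 : p ≠ 2 := fun e => by
    subst e
    have : 2 ∣ 2 ^ f := dvd_pow_self 2 (by omega)
    omega
  refine ⟨hp2, ?_⟩
  have hpo : Odd p := hp.odd_of_ne_two hp2
  by_cases hf1 : f = 1
  · subst hf1; rw [pow_one] at h8; exact Or.inl ⟨rfl, h8⟩
  by_cases h23 : p = 3 ∧ f = 2
  · exact Or.inr h23
  exfalso
  have hcopy : ∀ l m, 1 ≤ l → 2 ≤ m → f = l * m → 5 ≤ p ^ l → (p ^ l % 8 = 1 ∨ p ^ l % 8 = 7) → False := by
    intro l m hl hm e hk h8'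
    refine not_isCoatom_subfield_copy p ψ conj_perm_four hl (by omega) hm
      (by rw [← pow_mul, ← e, hF]) (fun L _ hL => (perm_four_iff hL).2 (sixteen_of_mod h8'))
      natCard_perm_four ?_ hM
    exact lt_of_lt_of_le (by norm_num : 2 * 24 < 5 * 24)
      (Nat.mul_le_mul hk (by have := Nat.pow_le_pow_left hk 2; omega))
  by_cases hp3 : p = 3
  · subst hp3
    rcases Nat.even_or_odd f with he | ⟨t, rfl⟩
    · obtain ⟨t, rfl⟩ := he
      exact hcopy 2 t (by norm_num) (by omega) (by omega) (by norm_num) (by norm_num)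
    · rw [pow_succ, pow_mul, Nat.mul_mod, Nat.pow_mod] at h8
      norm_num at h8
  have hp5 : 5 ≤ p := by
    rcases (by have := hp.two_le; omega : p = 4 ∨ 5 ≤ p) with rfl | h
    · norm_num at hp
    · exact h
  by_cases hp8 : p % 8 = 1 ∨ p % 8 = 7
  · exact hcopy 1 f le_rfl (by omega) (by omega) (by rw [pow_one]; exact hp5) (by rw [pow_one]; exact hp8)
  -- `f` is even and the group lies in `PGL₂(p)`
  have hfe : Even f := by
    rcases Nat.even_or_odd f with h | ⟨t, rfl⟩
    · exact h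
    · exfalso
      have he := odd_pow_even_mod_eight hpo (even_two_mul t)
      rw [pow_succ, Nat.mul_mod, he, one_mul, Nat.mod_mod] at h8
      exact hp8 h8
  obtain ⟨L, hL⟩ := exists_subfield_card (F := F) p (l := 1) (m := f) one_ne_zero hf
    (by rw [pow_one, hF])
  rw [pow_one] at hL
  have : Fintype L := Fintype.ofFinite L
  have hLq : Nat.card L ^ f = Fintype.card F := by rw [hL, hF]
  have hsq := squares_of_even_degree (K := L) (hF ▸ hpo.pow) hfe hLq
  obtain ⟨φ⟩ := nonempty_pglImage_equiv L.subtype hsq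
  obtain ⟨a, b, hab⟩ := exists_sq_add_sq_eq_neg_one (F := L)
  have h2L : (2 : L) ≠ 0 := fun h => two_ne_zero_of_char (F := F) p hp2
    ((map_ofNat L.subtype 2).symm.trans ((congrArg L.subtype h).trans (map_zero _)))
  obtain ⟨j, hj⟩ := exists_perm_four_mob hab h2L
  refine not_isCoatom_of_copy ψ ((pglImage L.subtype).subtype.comp (φ.symm.toMonoidHom.comp j))
    ((Subgroup.subtype_injective _).comp (φ.symm.injective.comp hj)) (fun x => (φ.symm (j x)).2)
    conj_perm_four natCard_perm_four ?_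
    (card_pglImage_lt (by rw [hL]; omega) (by omega : 2 ≤ f) hLq) hM
  rw [card_pglImage_of_squares L hsq, hL]
  exact lt_of_lt_of_le (by norm_num : 24 < 5 * 24)
    (Nat.mul_le_mul hp5 (by have := Nat.pow_le_pow_left hp5 2; omega))

theorem alt_five_case {f : ℕ} (hF : Fintype.card F = p ^ f) (hf : 1 ≤ f)
    {M : Subgroup (ProjectiveSpecialLinearGroup (Fin 2) F)} (hM : IsCoatom M)
    (ψ : M ≃* alternatingGroup (Fin 5)) :
    (p = 2 ∧ ∃ j, j.Prime ∧ f = 2 * j) ∨ (p = 5 ∧ f.Prime ∧ Odd f) ∨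
      (p ≠ 2 ∧ (p ^ f % 10 = 1 ∨ p ^ f % 10 = 9) ∧
        (f = 1 ∨ (f = 2 ∧ (p % 10 = 3 ∨ p % 10 = 7)))) := by
  have hp := (Fact.out : p.Prime)
  have h5 := (alt_five_iff hF).1 ⟨M, ⟨ψ⟩⟩
  have hM60 := card_of_equiv ψ natCard_alt_five
  have hG := gcd_mul_card_psl (F := F) hF
  have small : p ^ f = 4 ∨ p ^ f = 5 → False := fun h => by
    refine hM.1 (Subgroup.eq_top_of_le_card M ?_)
    rcases h with h | h <;> rw [h] at hG <;> norm_num at hG <;> omega
  have hcopy : ∀ l m, 1 ≤ l → 2 ≤ m → f = l * m → 8 ≤ p ^ l →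
      5 ∣ p ^ l * ((p ^ l) ^ 2 - 1) → False := by
    intro l m hl hm e hk h5'
    refine not_isCoatom_subfield_copy p ψ alt_five_conj hl (by omega) hm (by rw [← pow_mul, ← e, hF])
      (fun L _ hL => (alt_five_iff hL).2 h5') natCard_alt_five ?_ hM
    exact lt_of_lt_of_le (by norm_num : 2 * 60 < 8 * 63)
      (Nat.mul_le_mul hk (by have := Nat.pow_le_pow_left hk 2; omega))
  by_cases hp2 : p = 2
  · subst hp2
    obtain ⟨j, hj⟩ : Even f := by
      rcases Nat.even_or_odd f with h | h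
      · exact h
      · exact (not_five_dvd (sq_mod_five_pow (by norm_num) h) h5).elim
    refine Or.inl ⟨rfl, j, ?_, by omega⟩
    by_contra hnp
    rcases (by omega : j = 1 ∨ 2 ≤ j) with rfl | hj2
    · exact small (Or.inl (by rw [hj]; norm_num))
    · obtain ⟨l, m, hl, hm, e⟩ := exists_factor hj2 hnp
      refine hcopy (2 * l) m (by omega) hm (by rw [hj, e]; ring) ?_ (five_dvd_pow_even (by norm_num) (even_two_mul l))
      exact le_trans (by norm_num) (Nat.pow_le_pow_right two_pos (by omega : 4 ≤ 2 * l))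
  by_cases hp5 : p = 5
  · subst hp5
    rcases Nat.even_or_odd f with he | ho
    · exfalso
      obtain ⟨L, hL⟩ := exists_subfield_card (F := F) 5 (l := 1) (m := f) one_ne_zero hf
        (by rw [pow_one, hF])
      rw [pow_one] at hL
      have : Fintype L := Fintype.ofFinite L
      have hLq : Nat.card L ^ f = Fintype.card F := by rw [hL, hF]
      have hsq := squares_of_even_degree (K := L)
        (hF ▸ (Nat.odd_iff.2 (by norm_num : 5 % 2 = 1)).pow) he hLq
      obtain ⟨φ⟩ := psl_four_five_equiv L (Or.inr (by rw [← Nat.card_eq_fintype_card, hL]))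
      have hf2 : 2 ≤ f := by obtain ⟨t, rfl⟩ := he; omega
      refine not_isCoatom_of_copy ψ ((pslMap L.subtype).comp φ.toMonoidHom)
        ((pslMap_injective _).comp φ.injective) (fun x => pslImage_le_pglImage _ ⟨_, rfl⟩)
        alt_five_conj natCard_alt_five ?_ (card_pglImage_lt (by rw [hL]; norm_num) hf2 hLq) hM
      rw [card_pglImage_of_squares L hsq, hL]
      norm_num
    · refine Or.inr (Or.inl ⟨rfl, ?_, ho⟩)
      by_contra hnp
      rcases (by omega : f = 1 ∨ 2 ≤ f) with rfl | hf2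
      · exact small (Or.inr (by norm_num))
      · obtain ⟨l, m, hl, hm, e⟩ := exists_factor hf2 hnp
        exact hcopy l m (by omega) hm e
          (le_trans (by norm_num) (Nat.pow_le_pow_right (by norm_num) hl))
          ((dvd_pow_self 5 (by omega)).mul_right _)
  have hp05 : p % 5 ≠ 0 := fun h =>
    hp5 ((Nat.prime_dvd_prime_iff_eq (by norm_num) hp).1 (Nat.dvd_of_mod_eq_zero h)).symm
  have hpo := Nat.odd_iff.1 (hp.odd_of_ne_two hp2)
  refine Or.inr (Or.inr ⟨hp2, ?_⟩)
  by_cases hf1 : f = 1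
  · subst hf1
    rw [pow_one] at h5 ⊢
    refine ⟨?_, Or.inl rfl⟩
    by_contra hne
    exact not_five_dvd (sq_mod_five (by omega)) h5
  by_cases hp14 : p % 5 = 1 ∨ p % 5 = 4
  · refine (hcopy 1 f le_rfl (by omega) (by omega) ?_ (by rw [pow_one]; exact five_dvd_of_mod hp14)).elim
    rw [pow_one]
    have := hp.two_le
    rcases (by omega : p = 6 ∨ 8 ≤ p) with rfl | h
    · norm_num at hp
    · exact h
  have hfe : Even f := by
    rcases Nat.even_or_odd f with h | h
    · exact h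
    · exact (not_five_dvd (sq_mod_five_pow (by omega) h) h5).elim
  obtain ⟨j, rfl⟩ := hfe
  rcases (by omega : j = 1 ∨ 2 ≤ j) with rfl | hj
  · refine ⟨?_, Or.inr ⟨rfl, by omega⟩⟩
    rw [show (1 : ℕ) + 1 = 2 by rfl, pow_two, Nat.mul_mod]
    have hlt : p % 10 < 10 := Nat.mod_lt _ (by norm_num)
    have h' : p % 10 = 3 ∨ p % 10 = 7 := by omega
    rcases h' with e | e <;> rw [e] <;> norm_num
  · refine (hcopy 2 j (by norm_num) hj (by omega) ?_ (five_dvd_pow_even hp05 even_two)).elim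
    exact le_trans (by norm_num) (Nat.pow_le_pow_left (by have := hp.two_le; omega : 3 ≤ p) 2)

/-- The maximal subfield subgroups. -/
theorem subfield_case {M : Subgroup (ProjectiveSpecialLinearGroup (Fin 2) F)} (hM : IsCoatom M)
    {K : Subfield F} {g : GL (Fin 2) F} (hK3 : 3 ≤ Nat.card K)
    (hc : M.map (pslConj g).toMonoidHom = pglImage K.subtype ∨
      (p ≠ 2 ∧ M.map (pslConj g).toMonoidHom = pslImage K.subtype)) :
    ∃ j, j.Prime ∧ Nat.card K ^ j = Fintype.card F ∧
      ((Nonempty (M ≃* ProjectiveSpecialLinearGroup (Fin 2) K) ∧ (p ≠ 2 → Odd j)) ∨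
        (p ≠ 2 ∧ j = 2 ∧ Nonempty (M ≃* ProjGenLinGroup (Fin 2) K))) := by
  classical
  have hp := (Fact.out : p.Prime)
  have : Fintype K := Fintype.ofFinite K
  obtain ⟨j, hj, hjF⟩ := exists_card_pow K
  have hj2 : 2 ≤ j := by
    by_contra hlt
    exact hM.1 (eq_top_of_subfield p (by rw [← hjF, show j = 1 by omega, pow_one]) hc)
  let ε := M.equivMapOfInjective (pslConj g).toMonoidHom (pslConj g).injective
  have hodd : p ≠ 2 → Odd (Fintype.card F) := fun h => by
    obtain ⟨f, -, hf⟩ := exists_char_pow (F := F) p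
    exact hf ▸ (hp.odd_of_ne_two h).pow
  have hle : M.map (pslConj g).toMonoidHom ≤ pglImage K.subtype := by
    rcases hc with e | ⟨-, e⟩ <;> rw [e]
    exact pslImage_le_pglImage _
  set k := Nat.card K with hk
  have hMk : Nat.card M ≤ k * (k ^ 2 - 1) := card_subfieldConj_le p hc
  have hpsl : pglImage K.subtype = pslImage K.subtype →
      Nonempty (M ≃* ProjectiveSpecialLinearGroup (Fin 2) K) := fun he => by
    obtain ⟨φ⟩ := nonempty_pslImage_equiv K.subtype
    have e : M.map (pslConj g).toMonoidHom = pslImage K.subtype := by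
      rcases hc with e | ⟨-, e⟩
      · rw [e, he]
      · exact e
    exact ⟨(ε.trans (MulEquiv.subgroupCongr e)).trans φ⟩
  have hup : ∀ l m, 2 ≤ l → 2 ≤ m → j = l * m → False := by
    intro l m hl hm e
    obtain ⟨a, ha⟩ : ∃ a, k = p ^ a := by
      have hkq : k ∣ Fintype.card F := hjF ▸ dvd_pow_self k (by omega)
      obtain ⟨f, -, hf⟩ := exists_char_pow (F := F) p
      obtain ⟨a, -, ha⟩ := (Nat.dvd_prime_pow hp).1 (hf ▸ hkq)
      exact ⟨a, ha⟩
    have ha0 : a ≠ 0 := by rintro rfl; norm_num at ha; omega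
    obtain ⟨L, hL⟩ := exists_subfield_card (F := F) p (l := a * l) (m := m)
      (Nat.mul_ne_zero ha0 (by omega)) (by omega) (by rw [pow_mul, ← ha, ← pow_mul, ← e, hjF])
    rw [pow_mul, ← ha] at hL
    have hKL : K ≤ L := subfield_le_of_card_pow (i := l) hL.symm
    have hl2 : k ^ 2 ≤ Nat.card L := hL ▸ Nat.pow_le_pow_right (by omega) hl
    refine not_isCoatom_of_conj (hle.trans (pglImage_mono hKL)) ?_
      (card_pglImage_lt (le_trans (le_trans hK3 (Nat.le_self_pow two_ne_zero k)) hl2) hm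
        (by rw [hL, ← pow_mul, ← e, hjF])) hM
    refine lt_of_lt_of_le ?_ (Subgroup.card_le_of_le (pslImage_le_pglImage _))
    have h1 := le_two_mul_card_pslImage L
    have h2 : 3 * (k * (k ^ 2 - 1)) ≤ Nat.card L * (Nat.card L ^ 2 - 1) := by
      rw [← mul_assoc]
      refine Nat.mul_le_mul (le_trans ?_ hl2) (Nat.sub_le_sub_right (Nat.pow_le_pow_left
        (le_trans (Nat.le_self_pow two_ne_zero k) hl2) 2) 1)
      rw [pow_two]; exact Nat.mul_le_mul_right k hK3
    have h3 : 0 < k * (k ^ 2 - 1) := Nat.mul_pos (by omega) (by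
      have := Nat.pow_le_pow_left hK3 2; omega)
    omega
  have hjp : j.Prime := by
    by_contra hnp
    obtain ⟨l, m, hl, hm, e⟩ := exists_factor hj2 hnp
    exact hup l m hl hm e
  refine ⟨j, hjp, hjF, ?_⟩
  by_cases hp2 : p = 2
  · refine Or.inl ⟨hpsl ?_, fun h => absurd hp2 h⟩
    refine pglImage_eq_pslImage _ fun a _ => isSquare_of_two_eq_zero ?_ a
    apply K.subtype.injective
    subst hp2
    rw [map_zero, map_ofNat]
    exact_mod_cast CharP.cast_eq_zero F 2
  rcases hjp.eq_two_or_odd' with rfl | hjo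
  · rcases hc with e | ⟨-, e⟩
    · obtain ⟨φ⟩ := nonempty_pglImage_equiv K.subtype
        (squares_of_even_degree (hodd hp2) even_two hjF)
      exact Or.inr ⟨hp2, rfl, ⟨(ε.trans (MulEquiv.subgroupCongr e)).trans φ⟩⟩
    · exfalso
      refine not_isCoatom_of_conj hle ?_ (card_pglImage_lt hK3 le_rfl hjF) hM
      rw [← card_map_pslConj g M, e, card_pglImage_of_squares K (squares_of_even_degree (hodd hp2) even_two hjF)]
      have h1 := card_pslImage_mul (K := K) rfl
      have hko : (Nat.card K) % 2 = 1 := by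
        have := Nat.odd_iff.1 (hodd hp2)
        rw [← hjF, Nat.pow_mod] at this
        rcases Nat.mod_two_eq_zero_or_one (Nat.card K) with h | h
        · rw [← hk] at h
          rw [h] at this; simp at this
        · exact h
      rw [Nat.gcd_eq_left (Nat.dvd_of_mod_eq_zero (by omega) : 2 ∣ Nat.card K - 1)] at h1
      rw [← h1]
      have : 0 < Nat.card (pslImage K.subtype) := Nat.card_pos
      omega
  · exact Or.inl ⟨hpsl (pglImage_eq_of_odd_degree hjo hjF), fun _ => hjo⟩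

end CfsgLib.Classical.Dickson
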