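import Cfsg.Agent.Lib.Classical.Dickson.MinimalSimple

/-!
Tools for the classification of the maximal subgroups of `PSL(2, q)`.
-/

set_option autoImplicit false

namespace CfsgLib.Classical.Dickson

open Matrix
open CfsgLib.Classical.Trace (trc IsScalar)
open scoped LinearAlgebra.Projectivization MatrixGroups commutatorElement

/-! ### Small dihedral groups inside the platonic groups -/

/-- The map `r i ↦ c ^ i`, `sr i ↦ s * c ^ i`. -/
def dihMap {Γ : Type*} [Group Γ] {n : ℕ} (s c : Γ) : DihedralGroup n → Γ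
  | .r i => c ^ i.val
  | .sr i => s * c ^ i.val

theorem exists_dih_two_alt_four :
    ∃ j : DihedralGroup 2 →* alternatingGroup (Fin 4), Function.Injective j := by
  let c : alternatingGroup (Fin 4) :=
    ⟨Equiv.swap 0 1 * Equiv.swap 2 3, Equiv.Perm.mem_alternatingGroup.2 (by decide)⟩
  let s : alternatingGroup (Fin 4) :=
    ⟨Equiv.swap 0 2 * Equiv.swap 1 3, Equiv.Perm.mem_alternatingGroup.2 (by decide)⟩
  exact ⟨MonoidHom.mk' (dihMap s c) (by decide +kernel), by decide +kernel⟩

theorem exists_dih_three_perm_four :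
    ∃ j : DihedralGroup 3 →* Equiv.Perm (Fin 4), Function.Injective j :=
  ⟨MonoidHom.mk' (dihMap (Equiv.swap (0 : Fin 4) 1)
    (Equiv.swap (0 : Fin 4) 1 * Equiv.swap 1 2)) (by decide +kernel), by decide +kernel⟩

theorem exists_dih_four_perm_four :
    ∃ j : DihedralGroup 4 →* Equiv.Perm (Fin 4), Function.Injective j :=
  ⟨MonoidHom.mk' (dihMap (Equiv.swap (1 : Fin 4) 3) (finRotate 4)) (by decide +kernel),
    by decide +kernel⟩

theorem exists_dih_five_alt_five :
    ∃ j : DihedralGroup 5 →* alternatingGroup (Fin 5), Function.Injective j := by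
  let c : alternatingGroup (Fin 5) :=
    ⟨finRotate 5, Equiv.Perm.mem_alternatingGroup.2 (by decide)⟩
  let s : alternatingGroup (Fin 5) :=
    ⟨Equiv.swap 1 4 * Equiv.swap 2 3, Equiv.Perm.mem_alternatingGroup.2 (by decide)⟩
  exact ⟨MonoidHom.mk' (dihMap s c) (by decide +kernel), by decide +kernel⟩

/-- `r i ↦ r (2 i)` on the dihedral group of order ten. -/
def dihTwist : MulAut (DihedralGroup 5) where
  toFun x := match x with | .r i => .r (2 * i) | .sr i => .sr (2 * i)
  invFun x := match x with | .r i => .r (3 * i) | .sr i => .sr (3 * i)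
  left_inv := by decide
  right_inv := by decide
  map_mul' := by decide

theorem closure_dihedral (n : ℕ) [NeZero n] :
    Subgroup.closure ({DihedralGroup.sr 0, DihedralGroup.sr 1} : Set (DihedralGroup n)) = ⊤ := by
  refine eq_top_iff.2 fun x _ => ?_
  have h0 : DihedralGroup.sr (0 : ZMod n) ∈
      Subgroup.closure ({DihedralGroup.sr 0, DihedralGroup.sr 1} : Set (DihedralGroup n)) :=
    Subgroup.subset_closure (by simp)
  have h1 : DihedralGroup.r (1 : ZMod n) ∈
      Subgroup.closure ({DihedralGroup.sr 0, DihedralGroup.sr 1} : Set (DihedralGroup n)) := by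
    have := Subgroup.mul_mem _ h0 (Subgroup.subset_closure
      (Set.mem_insert_of_mem _ rfl : DihedralGroup.sr (1 : ZMod n) ∈ ({DihedralGroup.sr 0,
        DihedralGroup.sr 1} : Set (DihedralGroup n))))
    simpa using this
  have hr : ∀ i : ZMod n, DihedralGroup.r i ∈
      Subgroup.closure ({DihedralGroup.sr 0, DihedralGroup.sr 1} : Set (DihedralGroup n)) := fun i => by
    have := Subgroup.pow_mem _ h1 i.val
    rwa [DihedralGroup.r_one_pow, ZMod.natCast_zmod_val] at this
  rcases x with i | i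
  · exact hr i
  · have := Subgroup.mul_mem _ h0 (hr i)
    simpa using this

section Conjugacy

variable {F : Type*} [Field F] (p : ℕ) [Fact p.Prime] [CharP F p]

include p in
/-- Embeddings of a dihedral group with the same rotation invariant are conjugate. -/
theorem dihedral_conj {n : ℕ} (hn : 2 ≤ n) (hpn : ¬ p ∣ n)
    (e e₀ : DihedralGroup n →* ProjectiveSpecialLinearGroup (Fin 2) F) (he : Function.Injective e)
    (he₀ : Function.Injective e₀)
    (hu : psq (e (DihedralGroup.r 1)) = psq (e₀ (DihedralGroup.r 1))) :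
    ∃ g : GL (Fin 2) F, ∀ x, e x = pslConj g (e₀ x) := by
  have : NeZero n := ⟨by omega⟩
  have : Fact (1 < n) := ⟨by omega⟩
  have hsr : ∀ (f : DihedralGroup n →* ProjectiveSpecialLinearGroup (Fin 2) F), Function.Injective f →
      ∀ i, ∃ A : SL(2, F), (A : ProjectiveSpecialLinearGroup (Fin 2) F) = f (DihedralGroup.sr i) ∧
        trc A = 0 := by
    intro f hf i
    obtain ⟨A, hA⟩ := QuotientGroup.mk_surjective (f (DihedralGroup.sr i))
    refine ⟨A, hA, trc_zero_of_invol (fun h => ?_) ?_⟩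
    · rw [hA] at h
      exact absurd (hf (h.trans (map_one f).symm)) (by rw [DihedralGroup.one_def]; exact fun h => by cases h)
    · rw [hA, ← map_pow, pow_two, DihedralGroup.sr_mul_self, map_one]
  obtain ⟨A, hA, tA⟩ := hsr e₀ he₀ 0
  obtain ⟨B, hB, tB⟩ := hsr e₀ he₀ 1
  obtain ⟨A', hA', tA'⟩ := hsr e he 0
  obtain ⟨B', hB', tB'⟩ := hsr e he 1
  have hab : DihedralGroup.sr (0 : ZMod n) * DihedralGroup.sr 1 = DihedralGroup.r 1 := by simp
  have h4 : psq (e₀ (DihedralGroup.r 1)) ≠ 4 := by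
    obtain ⟨C, hC⟩ := QuotientGroup.mk_surjective (e₀ (DihedralGroup.r 1))
    rw [← hC, psq_mk]
    have ho : orderOf (e₀ (DihedralGroup.r 1)) = n := by
      rw [orderOf_injective e₀ he₀, DihedralGroup.orderOf_r_one]
    refine trc_sq_ne_four p (fun h => ?_) (by rw [hC, ho]; exact hpn)
    rw [hC] at h; rw [h, orderOf_one] at ho; omega
  rw [← hab, map_mul, map_mul, ← hA, ← hB, ← hA', ← hB', ← QuotientGroup.mk_mul,
    ← QuotientGroup.mk_mul, psq_mk, psq_mk] at hu
  rw [← hab, map_mul, ← hA, ← hB, ← QuotientGroup.mk_mul, psq_mk] at h4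
  have hd : trc (A * B) ^ 2 + trc B ^ 2 ≠ 4 := by
    rw [tB]; simpa using h4
  have finish : ∀ g : GL (Fin 2) F, pslConj g (e₀ (DihedralGroup.sr 0)) = e (DihedralGroup.sr 0) →
      pslConj g (e₀ (DihedralGroup.sr 1)) = e (DihedralGroup.sr 1) → ∀ x, e x = pslConj g (e₀ x) := by
    intro g g1 g2 x
    have heq : Set.EqOn e ((pslConj g).toMonoidHom.comp e₀)
        ({DihedralGroup.sr 0, DihedralGroup.sr 1} : Set (DihedralGroup n)) := by
      rintro y (rfl | rfl)
      exacts [g1.symm, g2.symm]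
    exact MonoidHom.eqOn_closure heq (closure_dihedral n ▸ Subgroup.mem_top x)
  rcases sq_eq_sq_iff_eq_or_eq_neg.1 hu with h | h
  · obtain ⟨g, g1, g2⟩ := exists_pslConj_of_lifts tA tA' (tB'.trans tB.symm) h hd
    rw [hA, hA'] at g1; rw [hB, hB'] at g2
    exact ⟨g, finish g g1 g2⟩
  · obtain ⟨g, g1, g2⟩ := exists_pslConj_of_lifts (A' := -A') tA (by rw [trc_neg', tA', neg_zero])
      (tB'.trans tB.symm) (by rw [neg_mul, trc_neg', h, neg_neg]) hd
    rw [hA, Trace.mk_neg_eq, hA'] at g1; rw [hB, hB'] at g2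
    exact ⟨g, finish g g1 g2⟩

include p in
theorem dihedral_conj_twist {n : ℕ} (hn : n = 2 ∧ p ≠ 2 ∨ n = 3 ∧ p ≠ 3 ∨ n = 4 ∧ p ≠ 2 ∨ n = 5 ∧ p ≠ 5)
    (e e₀ : DihedralGroup n →* ProjectiveSpecialLinearGroup (Fin 2) F) (he : Function.Injective e)
    (he₀ : Function.Injective e₀) :
    ∃ (g : GL (Fin 2) F) (θ : MulAut (DihedralGroup n)), ∀ x, e x = pslConj g (e₀ (θ x)) := by
  have hp := (Fact.out : p.Prime)
  have hpn : ¬ p ∣ n := fun h => by
    rcases hn with ⟨rfl, h'⟩ | ⟨rfl, h'⟩ | ⟨rfl, h'⟩ | ⟨rfl, h'⟩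
    · exact h' ((Nat.prime_dvd_prime_iff_eq hp Nat.prime_two).1 h)
    · exact h' ((Nat.prime_dvd_prime_iff_eq hp Nat.prime_three).1 h)
    · exact h' ((Nat.prime_dvd_prime_iff_eq hp Nat.prime_two).1
        (hp.dvd_of_dvd_pow (n := 2) (by norm_num; exact h)))
    · exact h' ((Nat.prime_dvd_prime_iff_eq hp (by norm_num)).1 h)
  have hne : ∀ (f : DihedralGroup n →* ProjectiveSpecialLinearGroup (Fin 2) F), Function.Injective f →
      ∀ x, x ≠ 1 → f x ≠ 1 := fun f hf x hx h => hx (hf (h.trans (map_one f).symm))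
  rcases hn with ⟨rfl, -⟩ | ⟨rfl, -⟩ | ⟨rfl, -⟩ | ⟨rfl, -⟩
  · have r : ∀ f : DihedralGroup 2 →* ProjectiveSpecialLinearGroup (Fin 2) F, Function.Injective f →
        psq (f (DihedralGroup.r 1)) = 0 := fun f hf => by
      obtain ⟨X, hX⟩ := QuotientGroup.mk_surjective (f (DihedralGroup.r 1))
      rw [← hX, psq_mk, trc_zero_of_invol (by rw [hX]; exact hne f hf _ (by decide))
        (by rw [hX, ← map_pow, (by decide : (DihedralGroup.r (1 : ZMod 2)) ^ 2 = 1), map_one])]
      simp
    obtain ⟨g, hg⟩ := dihedral_conj p (by norm_num) hpn e e₀ he he₀ ((r e he).trans (r e₀ he₀).symm)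
    exact ⟨g, 1, hg⟩
  · have r : ∀ f : DihedralGroup 3 →* ProjectiveSpecialLinearGroup (Fin 2) F, Function.Injective f →
        psq (f (DihedralGroup.r 1)) = 1 := fun f hf =>
      psq_three (hne f hf _ (by decide)) (by
        rw [← map_pow, (by decide : (DihedralGroup.r (1 : ZMod 3)) ^ 3 = 1), map_one])
    obtain ⟨g, hg⟩ := dihedral_conj p (by norm_num) hpn e e₀ he he₀ ((r e he).trans (r e₀ he₀).symm)
    exact ⟨g, 1, hg⟩
  · have r : ∀ f : DihedralGroup 4 →* ProjectiveSpecialLinearGroup (Fin 2) F, Function.Injective f →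
        psq (f (DihedralGroup.r 1)) = 2 := fun f hf =>
      psq_four (by rw [← map_pow]; exact hne f hf _ (by decide)) (by
        rw [← map_pow, (by decide : (DihedralGroup.r (1 : ZMod 4)) ^ 4 = 1), map_one])
    obtain ⟨g, hg⟩ := dihedral_conj p (by norm_num) hpn e e₀ he he₀ ((r e he).trans (r e₀ he₀).symm)
    exact ⟨g, 1, hg⟩
  · have r : ∀ f : DihedralGroup 5 →* ProjectiveSpecialLinearGroup (Fin 2) F, Function.Injective f →
        psq (f (DihedralGroup.r 1)) * psq (f (DihedralGroup.r 1)) -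
          3 * psq (f (DihedralGroup.r 1)) + 1 = 0 := fun f hf =>
      psq_five (hne f hf _ (by decide)) (by
        rw [← map_pow, (by decide : (DihedralGroup.r (1 : ZMod 5)) ^ 5 = 1), map_one])
    by_cases huu : psq (e (DihedralGroup.r 1)) = psq (e₀ (DihedralGroup.r 1))
    · obtain ⟨g, hg⟩ := dihedral_conj p (by norm_num) hpn e e₀ he he₀ huu
      exact ⟨g, 1, hg⟩
    · set u := psq (e (DihedralGroup.r 1)) with hu
      set u₀ := psq (e₀ (DihedralGroup.r 1)) with hu₀
      have h1 : (u - u₀) * (u + u₀ - 3) = 0 := by linear_combination r e he - r e₀ he₀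
      have hsum := (mul_eq_zero.1 h1).resolve_left (sub_ne_zero.2 huu)
      obtain ⟨g, hg⟩ := dihedral_conj p (by norm_num) hpn e (e₀.comp dihTwist.toMonoidHom) he
        (he₀.comp dihTwist.injective) (by
          show u = psq (e₀ (dihTwist (DihedralGroup.r 1)))
          rw [(by decide : dihTwist (DihedralGroup.r (1 : ZMod 5)) = (DihedralGroup.r 1) ^ 2),
            map_pow, psq_sq, ← hu₀]
          linear_combination hsum - r e₀ he₀)
      exact ⟨g, dihTwist, hg⟩

end Conjugacy

/-! ### Not maximal -/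

section NotMax

variable {F : Type*} [Field F] [Fintype F]

theorem not_isCoatom_of_conj {M H : Subgroup (ProjectiveSpecialLinearGroup (Fin 2) F)} {g : GL (Fin 2) F}
    (h : M.map (pslConj g).toMonoidHom ≤ H) (h1 : Nat.card M < Nat.card H)
    (h2 : Nat.card H < Nat.card (ProjectiveSpecialLinearGroup (Fin 2) F)) : ¬ IsCoatom M := by
  refine not_isCoatom_of_between (N := H.map (pslConj g⁻¹).toMonoidHom) (fun x hx => ?_)
    (by rw [card_map_pslConj]; exact h1) (by rw [card_map_pslConj]; exact h2)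
  exact ⟨pslConj g x, h ⟨x, hx, rfl⟩, pslConj_inv_apply g x⟩

/-- A subgroup with a copy inside a bigger proper subgroup is not maximal, if copies are conjugate. -/
theorem not_isCoatom_of_copy {M H : Subgroup (ProjectiveSpecialLinearGroup (Fin 2) F)} {Γ : Type*}
    [Group Γ] (ψ : M ≃* Γ) (e₀ : Γ →* ProjectiveSpecialLinearGroup (Fin 2) F)
    (he₀ : Function.Injective e₀) (hmem : ∀ x, e₀ x ∈ H)
    (hconj : ∀ e e₀ : Γ →* ProjectiveSpecialLinearGroup (Fin 2) F, Function.Injective e →
      Function.Injective e₀ → ∃ (g : GL (Fin 2) F) (θ : MulAut Γ), ∀ x, e x = pslConj g (e₀ (θ x)))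
    {N : ℕ} (hN : Nat.card Γ = N) (h1 : N < Nat.card H)
    (h2 : Nat.card H < Nat.card (ProjectiveSpecialLinearGroup (Fin 2) F)) : ¬ IsCoatom M := by
  obtain ⟨g, hg⟩ := exists_le_conj ψ e₀ hmem fun e he => hconj e e₀ he he₀
  exact not_isCoatom_of_between hg (by rw [card_map_pslConj, card_of_equiv ψ hN]; exact h1)
    (by rw [card_map_pslConj]; exact h2)

theorem conj_alt_four (h2 : (2 : F) ≠ 0)
    (e e₀ : alternatingGroup (Fin 4) →* ProjectiveSpecialLinearGroup (Fin 2) F)
    (he : Function.Injective e) (he₀ : Function.Injective e₀) :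
    ∃ (g : GL (Fin 2) F) (θ : MulAut (alternatingGroup (Fin 4))),
      ∀ x, e x = pslConj g (e₀ (θ x)) := by
  obtain ⟨g, hg⟩ := alt_four_conj h2 e e₀ he he₀
  exact ⟨g, 1, hg⟩

theorem conj_perm_four (e e₀ : Equiv.Perm (Fin 4) →* ProjectiveSpecialLinearGroup (Fin 2) F)
    (he : Function.Injective e) (he₀ : Function.Injective e₀) :
    ∃ (g : GL (Fin 2) F) (θ : MulAut (Equiv.Perm (Fin 4))), ∀ x, e x = pslConj g (e₀ (θ x)) := by
  obtain ⟨g, hg⟩ := perm_four_conj e e₀ he he₀
  exact ⟨g, 1, hg⟩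

end NotMax

/-! ### Sizes of subfield subgroups -/

section Sizes

variable {F : Type*} [Field F] [Fintype F]

theorem sq_le_card {K : Subfield F} {j : ℕ} (hj : 2 ≤ j) (h : Nat.card K ^ j = Fintype.card F) :
    Nat.card K ^ 2 ≤ Fintype.card F :=
  h ▸ Nat.pow_le_pow_right Nat.card_pos hj

theorem card_pglImage_le (K : Subfield F) :
    Nat.card (pglImage K.subtype) ≤ Nat.card K * (Nat.card K ^ 2 - 1) := by
  have h2 : 1 < Nat.card K := Finite.one_lt_card
  refine Nat.le_of_dvd (Nat.mul_pos (by omega) ?_) card_pglImage_dvd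
  have : 2 ^ 2 ≤ Nat.card K ^ 2 := Nat.pow_le_pow_left h2 2
  omega

theorem card_mul_lt_psl {k : ℕ} (hk : 3 ≤ k) (h : k ^ 2 ≤ Fintype.card F) :
    k * (k ^ 2 - 1) < Nat.card (ProjectiveSpecialLinearGroup (Fin 2) F) := by
  have hG := card_psl_mul_two (F := F) rfl
  have h1 : 3 * k ≤ Fintype.card F := le_trans (by rw [pow_two]; exact Nat.mul_le_mul_right k hk) h
  have h2 : 3 * (k * (k ^ 2 - 1)) ≤ Fintype.card F * (Fintype.card F ^ 2 - 1) := by
    rw [← mul_assoc]
    exact Nat.mul_le_mul h1 (Nat.sub_le_sub_right (Nat.pow_le_pow_left (by omega) 2) 1)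
  have h3 : 0 < k * (k ^ 2 - 1) := Nat.mul_pos (by omega) (by
    have := Nat.pow_le_pow_left hk 2; omega)
  omega

theorem card_pglImage_lt {K : Subfield F} {j : ℕ} (hk : 3 ≤ Nat.card K) (hj : 2 ≤ j)
    (h : Nat.card K ^ j = Fintype.card F) :
    Nat.card (pglImage K.subtype) < Nat.card (ProjectiveSpecialLinearGroup (Fin 2) F) :=
  lt_of_le_of_lt (card_pglImage_le K) (card_mul_lt_psl hk (sq_le_card hj h))

theorem card_pslImage_lt {K : Subfield F} {j : ℕ} (hk : 3 ≤ Nat.card K) (hj : 2 ≤ j)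
    (h : Nat.card K ^ j = Fintype.card F) :
    Nat.card (pslImage K.subtype) < Nat.card (ProjectiveSpecialLinearGroup (Fin 2) F) :=
  lt_of_le_of_lt (Subgroup.card_le_of_le (pslImage_le_pglImage _)) (card_pglImage_lt hk hj h)

theorem le_two_mul_card_pslImage (K : Subfield F) :
    Nat.card K * (Nat.card K ^ 2 - 1) ≤ 2 * Nat.card (pslImage K.subtype) := by
  rw [← card_pslImage_mul (K := K) rfl]
  exact Nat.mul_le_mul_right _ (Nat.le_of_dvd two_pos (Nat.gcd_dvd_left 2 _))

theorem card_pglImage_of_squares (K : Subfield F) (h : ∀ a : K, a ≠ 0 → IsSquare (K.subtype a)) :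
    Nat.card (pglImage K.subtype) = Nat.card K * (Nat.card K ^ 2 - 1) := by
  classical
  have : Fintype K := Fintype.ofFinite K
  obtain ⟨φ⟩ := nonempty_pglImage_equiv K.subtype h
  rw [Nat.card_congr φ.toEquiv, card_PGL_eq_card_SL, Two.card_SL_two, Nat.card_eq_fintype_card]

theorem squares_of_even_degree {K : Subfield F} {j : ℕ} (hodd : Odd (Fintype.card F)) (hj : Even j)
    (h : Nat.card K ^ j = Fintype.card F) (a : K) (ha : a ≠ 0) : IsSquare (K.subtype a) := by
  have : Fintype K := Fintype.ofFinite K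
  exact isSquare_map_of_even K.subtype rfl hodd (by rw [← Nat.card_eq_fintype_card, h]) hj ha

theorem pglImage_eq_of_odd_degree {K : Subfield F} {j : ℕ} (hj : Odd j)
    (h : Nat.card K ^ j = Fintype.card F) : pglImage K.subtype = pslImage K.subtype := by
  have : Fintype K := Fintype.ofFinite K
  exact pglImage_eq_pslImage _ fun a => isSquare_of_odd_degree K.subtype hj
    (by rw [← Nat.card_eq_fintype_card, h])

end Sizes

end CfsgLib.Classical.Dickson
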