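import Cfsg.Agent.Lib.Classical.Dickson.ClassifyTools

/-!
Maximal subgroups of `PSL(2, q)`: cyclic, point stabiliser and dihedral ones.
-/

set_option autoImplicit false

namespace CfsgLib.Classical.Dickson

open Matrix
open CfsgLib.Classical.Trace (trc IsScalar)
open scoped LinearAlgebra.Projectivization MatrixGroups commutatorElement

variable {F : Type*} [Field F] [Fintype F] (p : ℕ) [Fact p.Prime] [CharP F p]

theorem gcd_two_cases {q : ℕ} (hq : 2 ≤ q) :
    (Nat.gcd 2 (q - 1) = 1 ∧ q % 2 = 0) ∨ (Nat.gcd 2 (q - 1) = 2 ∧ q % 2 = 1) := by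
  rcases Nat.mod_two_eq_zero_or_one q with h | h
  · exact Or.inl ⟨Nat.coprime_two_left.2 (Nat.odd_iff.2 (by omega)), h⟩
  · exact Or.inr ⟨Nat.gcd_eq_left (Nat.dvd_of_mod_eq_zero (by omega)), h⟩

theorem four_mul_le_psl {q : ℕ} (hF : Fintype.card F = q) (h4 : 4 ≤ q) :
    4 * (q * (q - 1)) ≤ 2 * Nat.card (ProjectiveSpecialLinearGroup (Fin 2) F) := by
  refine le_trans ?_ (card_psl_mul_two hF)
  rw [show q * (q ^ 2 - 1) = (q + 1) * (q * (q - 1)) by
    rw [show q ^ 2 - 1 = (q + 1) * (q - 1) by rw [← Nat.sq_sub_sq, one_pow], mul_left_comm]]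
  exact Nat.mul_le_mul_right _ (by omega)

theorem two_mul_lt_psl {q n : ℕ} (hF : Fintype.card F = q) (h4 : 4 ≤ q) (hn : n ≤ q + 1) :
    2 * n < Nat.card (ProjectiveSpecialLinearGroup (Fin 2) F) := by
  have h1 := four_mul_le_psl hF h4
  have h2 : q * 3 ≤ q * (q - 1) := Nat.mul_le_mul_left _ (by omega)
  omega

include p in
theorem not_isCoatom_of_cyclic {q : ℕ} (hF : Fintype.card F = q) (h4 : 4 ≤ q)
    {M : Subgroup (ProjectiveSpecialLinearGroup (Fin 2) F)} (hC : IsCyclic M)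
    (hpM : ¬ p ∣ Nat.card M) (hdvd : Nat.card M ∣ (q + 1) / Nat.gcd 2 (q - 1) ∨
      Nat.card M ∣ (q - 1) / Nat.gcd 2 (q - 1)) : ¬ IsCoatom M := by
  have hp := (Fact.out : p.Prime)
  obtain ⟨g, hg⟩ := hC.exists_generator
  have hMg : M = Subgroup.zpowers (g : ProjectiveSpecialLinearGroup (Fin 2) F) := by
    refine le_antisymm (fun x hx => ?_) ((Subgroup.zpowers_le).2 g.2)
    obtain ⟨i, hi⟩ := Subgroup.mem_zpowers_iff.1 (hg ⟨x, hx⟩)
    exact ⟨i, by simpa using congrArg Subtype.val hi⟩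
  obtain ⟨A, hA⟩ := QuotientGroup.mk_surjective (g : ProjectiveSpecialLinearGroup (Fin 2) F)
  have hcard : Nat.card M = orderOf (A : ProjectiveSpecialLinearGroup (Fin 2) F) := by
    rw [hMg, Nat.card_zpowers, hA]
  have hle : Nat.card M ≤ q + 1 := by
    rcases gcd_two_cases (by omega : 2 ≤ q) with ⟨h1, -⟩ | ⟨h1, -⟩ <;> rw [h1] at hdvd <;>
      rcases hdvd with h | h <;> (have := Nat.le_of_dvd (by omega) h) <;> omega
  by_cases h1 : (A : ProjectiveSpecialLinearGroup (Fin 2) F) = 1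
  · obtain ⟨f, hf, hqf⟩ := exists_char_pow (F := F) p
    rw [hF] at hqf
    have hpq : p ≤ q := hqf ▸ Nat.le_self_pow (by omega) p
    have hpG : p ∣ Nat.card (ProjectiveSpecialLinearGroup (Fin 2) F) := by
      have h : p ∣ Nat.gcd 2 (q - 1) * Nat.card (ProjectiveSpecialLinearGroup (Fin 2) F) := by
        rw [gcd_mul_card_psl hF, hqf]; exact dvd_mul_of_dvd_left (dvd_pow_self p (by omega)) _
      refine (hp.dvd_mul.1 h).resolve_left fun hd => ?_
      rcases gcd_two_cases (by omega : 2 ≤ q) with ⟨e, -⟩ | ⟨e, hodd⟩ <;> rw [e] at hd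
      · exact hp.not_dvd_one hd
      · rw [(Nat.prime_dvd_prime_iff_eq hp Nat.prime_two).1 hd] at hqf
        rw [hqf] at hodd
        have : 2 ∣ 2 ^ f := dvd_pow_self 2 (by omega)
        omega
    obtain ⟨x, hx⟩ := exists_prime_orderOf_dvd_card' p hpG
    have hc1 : Nat.card M = 1 := by rw [hcard, h1, orderOf_one]
    refine not_isCoatom_of_between (N := Subgroup.zpowers x) ?_ ?_ ?_
    · rw [hMg, ← hA, h1, Subgroup.zpowers_one_eq_bot]; exact bot_le
    · rw [Nat.card_zpowers, hx, hc1]; exact hp.one_lt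
    · rw [Nat.card_zpowers, hx]
      have := two_mul_lt_psl (n := p) hF h4 (by omega)
      omega
  · obtain ⟨w, hw, hinv, hwg⟩ := exists_inverter (trc_sq_ne_four p h1 (hcard ▸ hpM))
    refine not_isCoatom_of_between (N := extendInvol (Subgroup.zpowers _) w hw
      (conj_mem_zpowers hinv)) ?_ ?_ ?_
    · rw [hMg, ← hA]; exact le_extendInvol
    · rw [card_extendInvol hwg, Nat.card_zpowers, hcard]
      have := orderOf_pos (A : ProjectiveSpecialLinearGroup (Fin 2) F)
      omega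
    · rw [card_extendInvol hwg, Nat.card_zpowers, ← hcard]
      exact two_mul_lt_psl hF h4 hle

theorem fix_case {q : ℕ} (hF : Fintype.card F = q) (h4 : 4 ≤ q)
    {M : Subgroup (ProjectiveSpecialLinearGroup (Fin 2) F)} (hM : IsCoatom M)
    {z : ℙ F (Fin 2 → F)} (hz : ∀ g ∈ M, g • z = z) :
    Nat.gcd 2 (q - 1) * Nat.card M = q * (q - 1) := by
  have hne : MulAction.stabilizer (ProjectiveSpecialLinearGroup (Fin 2) F) z ≠ ⊤ := fun e => by
    have := index_stabilizer_psl hF z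
    rw [e, Subgroup.index_top] at this
    omega
  have hMS : M = MulAction.stabilizer (ProjectiveSpecialLinearGroup (Fin 2) F) z := by
    by_contra hne'
    exact hne (hM.2 _ (lt_of_le_of_ne (fun g hg => hz g hg) hne'))
  rw [hMS]
  exact gcd_mul_card_stabilizer hF z

include p in
theorem dihedral_case_large {q n : ℕ} (hF : Fintype.card F = q) (h4 : 4 ≤ q)
    {M : Subgroup (ProjectiveSpecialLinearGroup (Fin 2) F)} (hM : IsCoatom M) (hn : 3 ≤ n)
    (hpn : ¬ p ∣ n) (ψ : M ≃* DihedralGroup n) :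
    Nat.gcd 2 (q - 1) * n = q - 1 ∨ Nat.gcd 2 (q - 1) * n = q + 1 := by
  have : NeZero n := ⟨by omega⟩
  have : Fact (1 < n) := ⟨by omega⟩
  set g : (ProjectiveSpecialLinearGroup (Fin 2) F) := (ψ.symm (DihedralGroup.r 1) : (ProjectiveSpecialLinearGroup (Fin 2) F)) with hg
  set w : (ProjectiveSpecialLinearGroup (Fin 2) F) := (ψ.symm (DihedralGroup.sr 0) : (ProjectiveSpecialLinearGroup (Fin 2) F)) with hwdef
  have hgo : orderOf g = n := by
    rw [hg, Subgroup.orderOf_coe, ψ.symm.orderOf_eq, DihedralGroup.orderOf_r_one]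
  have hw : w * w = 1 := by
    rw [hwdef, ← Subgroup.coe_mul, ← map_mul, DihedralGroup.sr_mul_self, map_one, Subgroup.coe_one]
  have hinv : w * g * w⁻¹ = g⁻¹ := by
    rw [hwdef, hg, ← Subgroup.coe_inv, ← Subgroup.coe_mul, ← Subgroup.coe_mul, ← Subgroup.coe_inv,
      ← map_inv, ← map_inv, ← map_mul, ← map_mul]
    congr 2
    simp
  obtain ⟨A, hA⟩ := QuotientGroup.mk_surjective g
  have hg2 : g * g ≠ 1 := fun h => by
    have := orderOf_dvd_of_pow_eq_one ((pow_two g).trans h)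
    rw [hgo] at this
    have := Nat.le_of_dvd two_pos this
    omega
  have hA1 : (A : (ProjectiveSpecialLinearGroup (Fin 2) F)) ≠ 1 := fun h => hg2 (by rw [← hA, h, one_mul])
  have h0 : trc A ≠ 0 := fun h => hg2 (by rw [← hA, ← pow_two]; exact Trace.mk_sq_eq_one h)
  have h44 : trc A ^ 2 ≠ 4 := trc_sq_ne_four p hA1 (by rw [hA, hgo]; exact hpn)
  have hcard := card_centralizer_psl hF h0 h44
  rw [hA] at hcard
  set C : Subgroup (ProjectiveSpecialLinearGroup (Fin 2) F) := Subgroup.centralizer ({g} : Set (ProjectiveSpecialLinearGroup (Fin 2) F)) with hCdef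
  have hgC : g ∈ C := Subgroup.mem_centralizer_singleton_iff.2 rfl
  have hnorm : ∀ z ∈ C, w * z * w⁻¹ ∈ C := by
    intro z hz
    rw [hCdef, Subgroup.mem_centralizer_singleton_iff] at hz ⊢
    have e : g = w * g⁻¹ * w⁻¹ := by
      rw [← conj_inv, hinv, inv_inv]
    rw [e]
    have hz' : z * g⁻¹ = g⁻¹ * z := (Commute.inv_right (show Commute z g from hz)).eq
    calc w * z * w⁻¹ * (w * g⁻¹ * w⁻¹) = w * (z * g⁻¹) * w⁻¹ := by group
      _ = w * (g⁻¹ * z) * w⁻¹ := by rw [hz']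
      _ = w * g⁻¹ * w⁻¹ * (w * z * w⁻¹) := by group
  have hwC : w ∉ C := fun h => hg2 (by
    rw [hCdef, Subgroup.mem_centralizer_singleton_iff] at h
    rw [h, mul_inv_cancel_right] at hinv
    nth_rewrite 2 [hinv]
    exact mul_inv_cancel g)
  set E := extendInvol C w hw hnorm
  have hrpow : ∀ i : ZMod n, (ψ.symm (DihedralGroup.r i) : (ProjectiveSpecialLinearGroup (Fin 2) F)) = g ^ i.val := fun i => by
    rw [hg, ← Subgroup.coe_pow, ← map_pow, DihedralGroup.r_one_pow, ZMod.natCast_zmod_val]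
  have hle : M ≤ E := by
    intro x hx
    have hx' : ∃ d, (ψ.symm d : (ProjectiveSpecialLinearGroup (Fin 2) F)) = x := ⟨ψ ⟨x, hx⟩, by rw [ψ.symm_apply_apply]⟩
    obtain ⟨d, rfl⟩ := hx'
    rcases d with i | i
    · exact Or.inl (hrpow i ▸ C.pow_mem hgC _)
    · refine Or.inr ?_
      rw [hwdef, ← Subgroup.coe_mul, ← map_mul, DihedralGroup.sr_mul_sr, hrpow]
      exact C.pow_mem hgC _
  have hCle : Nat.card C ≤ q + 1 := by
    rcases gcd_two_cases (by omega : 2 ≤ q) with ⟨e, -⟩ | ⟨e, -⟩ <;> rw [e] at hcard <;> omega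
  have hEtop : E ≠ ⊤ := fun e => by
    have h1 := card_extendInvol (hw := hw) (hn := hnorm) hwC
    rw [show extendInvol C w hw hnorm = E from rfl, e, Subgroup.card_top] at h1
    have := two_mul_lt_psl hF h4 hCle
    omega
  have hME : M = E := by
    by_contra hne
    exact hEtop (hM.2 _ (lt_of_le_of_ne hle hne))
  have hnC : n = Nat.card C := by
    have h1 := card_extendInvol (hw := hw) (hn := hnorm) hwC
    rw [show extendInvol C w hw hnorm = E from rfl, ← hME, card_of_equiv ψ DihedralGroup.nat_card] at h1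
    omega
  rw [hnC]
  exact hcard

include p in
/-- A small dihedral subgroup inside a platonic one is not maximal. -/
theorem not_isCoatom_small_dihedral {Γ : Type*} [Group Γ] {n N : ℕ}
    {M H : Subgroup (ProjectiveSpecialLinearGroup (Fin 2) F)} (ψ : M ≃* DihedralGroup n)
    (φ : H ≃* Γ) (j : DihedralGroup n →* Γ) (hj : Function.Injective j)
    (hn : n = 2 ∧ p ≠ 2 ∨ n = 3 ∧ p ≠ 3 ∨ n = 4 ∧ p ≠ 2 ∨ n = 5 ∧ p ≠ 5)
    (hN : Nat.card Γ = N) (h1 : 2 * n < N)
    (h2 : N < Nat.card (ProjectiveSpecialLinearGroup (Fin 2) F)) : ¬ IsCoatom M :=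
  not_isCoatom_of_copy ψ ((H.subtype.comp φ.symm.toMonoidHom).comp j)
    ((H.subtype_injective.comp φ.symm.injective).comp hj) (fun x => (φ.symm (j x)).2)
    (dihedral_conj_twist p hn) DihedralGroup.nat_card (by rw [card_of_equiv φ hN]; exact h1)
    (by rw [card_of_equiv φ hN]; exact h2)

include p in
theorem dihedral_case {q n : ℕ} (hF : Fintype.card F = q) (h4 : 4 ≤ q)
    {M : Subgroup (ProjectiveSpecialLinearGroup (Fin 2) F)} (hM : IsCoatom M) (hn2 : 2 ≤ n)
    (hpn : ¬ p ∣ n) (ψ : M ≃* DihedralGroup n) :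
    (Nat.gcd 2 (q - 1) * n = q - 1 ∧ (q % 2 = 1 → 13 ≤ q)) ∨
      (Nat.gcd 2 (q - 1) * n = q + 1 ∧ q ≠ 7 ∧ q ≠ 9) := by
  have hp := (Fact.out : p.Prime)
  obtain ⟨f, hf, hqf⟩ := exists_char_pow (F := F) p
  rw [hF] at hqf
  have hG := card_psl_mul_two (F := F) hF
  have hp2 : q % 2 = 1 → p ≠ 2 := fun h e => by
    subst e
    have : 2 ∣ q := hqf ▸ dvd_pow_self 2 (by omega)
    omega
  have hbig : ∀ m, m ≤ q → 5 ≤ m → m * (m ^ 2 - 1) ≤
      2 * Nat.card (ProjectiveSpecialLinearGroup (Fin 2) F) := fun m hm _ =>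
    le_trans (Nat.mul_le_mul hm (Nat.sub_le_sub_right (Nat.pow_le_pow_left hm 2) 1)) hG
  rcases Nat.lt_or_ge n 3 with hn3 | hn3
  · exfalso
    obtain rfl : n = 2 := by omega
    have hp2' : p ≠ 2 := fun e => hpn (by rw [e])
    have h5 : 5 ≤ q := by
      by_contra hlt
      rw [show q = 4 by omega] at hqf
      exact hp2' ((Nat.prime_dvd_prime_iff_eq hp Nat.prime_two).1
        (hp.dvd_of_dvd_pow (n := 2) (by rw [show (2 : ℕ) ^ 2 = 4 by norm_num, hqf]; exact dvd_pow_self p (by omega))))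
    obtain ⟨H, ⟨φ⟩⟩ := (alt_four_iff p f (F := F) (hF.trans hqf)).2 fun h => hp2' h.1
    obtain ⟨j, hj⟩ := exists_dih_two_alt_four
    have := hbig 5 h5 le_rfl
    exact not_isCoatom_small_dihedral p ψ φ j hj (Or.inl ⟨rfl, hp2'⟩) natCard_alt_four
      (by norm_num) (by norm_num at this; omega) hM
  · have hcases := dihedral_case_large p hF h4 hM hn3 hpn ψ
    have key : q % 2 = 1 → (q = 7 ∧ n = 3 ∨ q = 7 ∧ n = 4 ∨ q = 9 ∧ n = 4 ∨ q = 9 ∧ n = 5 ∨
        q = 11 ∧ n = 5) → False := by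
      intro hodd hqn
      have hp2' := hp2 hodd
      have h7 := hbig 7 (by omega) (by norm_num)
      norm_num at h7
      rcases hqn with ⟨hq, rfl⟩ | ⟨hq, rfl⟩ | ⟨hq, rfl⟩ | ⟨hq, rfl⟩ | ⟨hq, rfl⟩
      · obtain ⟨H, ⟨φ⟩⟩ := (perm_four_iff hF).2 (by rw [hq]; norm_num)
        obtain ⟨j, hj⟩ := exists_dih_three_perm_four
        exact not_isCoatom_small_dihedral p ψ φ j hj
          (Or.inr (Or.inl ⟨rfl, fun e => hpn (by rw [e])⟩)) natCard_perm_four (by norm_num) (by omega) hM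
      · obtain ⟨H, ⟨φ⟩⟩ := (perm_four_iff hF).2 (by rw [hq]; norm_num)
        obtain ⟨j, hj⟩ := exists_dih_four_perm_four
        exact not_isCoatom_small_dihedral p ψ φ j hj (Or.inr (Or.inr (Or.inl ⟨rfl, hp2'⟩)))
          natCard_perm_four (by norm_num) (by omega) hM
      · obtain ⟨H, ⟨φ⟩⟩ := (perm_four_iff hF).2 (by rw [hq]; norm_num)
        obtain ⟨j, hj⟩ := exists_dih_four_perm_four
        exact not_isCoatom_small_dihedral p ψ φ j hj (Or.inr (Or.inr (Or.inl ⟨rfl, hp2'⟩)))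
          natCard_perm_four (by norm_num) (by omega) hM
      · obtain ⟨H, ⟨φ⟩⟩ := (alt_five_iff hF).2 (by rw [hq]; norm_num)
        obtain ⟨j, hj⟩ := exists_dih_five_alt_five
        exact not_isCoatom_small_dihedral p ψ φ j hj
          (Or.inr (Or.inr (Or.inr ⟨rfl, fun e => hpn (by rw [e])⟩))) natCard_alt_five (by norm_num)
          (by omega) hM
      · obtain ⟨H, ⟨φ⟩⟩ := (alt_five_iff hF).2 (by rw [hq]; norm_num)
        obtain ⟨j, hj⟩ := exists_dih_five_alt_five
        exact not_isCoatom_small_dihedral p ψ φ j hj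
          (Or.inr (Or.inr (Or.inr ⟨rfl, fun e => hpn (by rw [e])⟩))) natCard_alt_five (by norm_num)
          (by omega) hM
    rcases gcd_two_cases (by omega : 2 ≤ q) with ⟨e, he⟩ | ⟨e, he⟩ <;> rw [e] at hcases ⊢
    · rcases hcases with h | h
      · exact Or.inl ⟨h, fun h' => absurd h' (by omega)⟩
      · exact Or.inr ⟨h, by omega, by omega⟩
    · rcases hcases with h | h
      · refine Or.inl ⟨h, fun _ => ?_⟩
        by_contra hlt
        exact key he (by omega)
      · exact Or.inr ⟨h, fun h' => key he (by omega), fun h' => key he (by omega)⟩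

end CfsgLib.Classical.Dickson
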