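import Cfsg.Agent.Lib.Classical.Dickson.SubfieldSubgroups

/-!
Automorphisms of `PSL₂` induced by `PGL₂`, subfield subgroups, and Dickson's theorem with the
subfield case given up to this conjugation.
-/

set_option autoImplicit false

namespace CfsgLib.Classical.Dickson

open Matrix
open scoped LinearAlgebra.Projectivization MatrixGroups Pointwise

section Auto

variable {F : Type*} [Field F]

theorem center_le_comap {G H : Type*} [Group G] [Group H] (e : G ≃* H) :
    (Subgroup.center G).map e.toMonoidHom = Subgroup.center H := by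
  ext x
  simp only [Subgroup.mem_map, Subgroup.mem_center_iff]
  constructor
  · rintro ⟨y, hy, rfl⟩ g
    obtain ⟨g, rfl⟩ := e.surjective g
    simpa using congrArg e (hy g)
  · intro hx
    obtain ⟨y, rfl⟩ := e.surjective x
    exact ⟨y, fun g => e.injective (by simpa using hx (e g)), rfl⟩

/-- Conjugation of `SL₂` by an element of `GL₂`. -/
def slConj (g : GL (Fin 2) F) : SL(2, F) ≃* SL(2, F) where
  toFun A := ⟨(g : Matrix (Fin 2) (Fin 2) F) * A.1 * (g⁻¹ : GL (Fin 2) F), by
    rw [Matrix.det_units_conj]; exact A.2⟩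
  invFun A := ⟨(g⁻¹ : GL (Fin 2) F) * A.1 * (g : Matrix (Fin 2) (Fin 2) F), by
    rw [Matrix.det_units_conj']; exact A.2⟩
  left_inv A := by
    apply Subtype.ext
    simp only [mul_assoc]
    simp [← mul_assoc]
  right_inv A := by
    apply Subtype.ext
    simp only [mul_assoc]
    simp [← mul_assoc]
  map_mul' A B := by
    apply Subtype.ext
    show (g : Matrix (Fin 2) (Fin 2) F) * (A.1 * B.1) * (g⁻¹ : GL (Fin 2) F) =
      ((g : Matrix (Fin 2) (Fin 2) F) * A.1 * (g⁻¹ : GL (Fin 2) F)) *
        ((g : Matrix (Fin 2) (Fin 2) F) * B.1 * (g⁻¹ : GL (Fin 2) F))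
    simp only [mul_assoc]
    simp [← mul_assoc]

/-- Conjugation of `PSL₂` by an element of `GL₂`. -/
def pslConj (g : GL (Fin 2) F) :
    ProjectiveSpecialLinearGroup (Fin 2) F ≃* ProjectiveSpecialLinearGroup (Fin 2) F :=
  QuotientGroup.congr _ _ (slConj g) (center_le_comap _)

theorem toPGL_pslConj (g : GL (Fin 2) F) (x : ProjectiveSpecialLinearGroup (Fin 2) F) :
    ProjectiveSpecialLinearGroup.toPGL (pslConj g x) =
      ProjGenLinGroup.mk g * ProjectiveSpecialLinearGroup.toPGL x * (ProjGenLinGroup.mk g)⁻¹ := by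
  induction x using QuotientGroup.induction_on with | _ A =>
  rw [show pslConj g (A : ProjectiveSpecialLinearGroup (Fin 2) F) =
      ((slConj g A : SL(2, F)) : ProjectiveSpecialLinearGroup (Fin 2) F) from rfl,
    ProjectiveSpecialLinearGroup.toPGL_mk, ProjectiveSpecialLinearGroup.toPGL_mk, ← map_inv,
    ← map_mul, ← map_mul]
  exact congrArg _ (Units.ext rfl)

theorem pslConj_mul (g h : GL (Fin 2) F) (x : ProjectiveSpecialLinearGroup (Fin 2) F) :
    pslConj (g * h) x = pslConj g (pslConj h x) := by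
  apply ProjectiveSpecialLinearGroup.toPGL_injective
  rw [toPGL_pslConj, toPGL_pslConj, toPGL_pslConj, map_mul]
  group

theorem pslConj_one (x : ProjectiveSpecialLinearGroup (Fin 2) F) : pslConj 1 x = x := by
  apply ProjectiveSpecialLinearGroup.toPGL_injective
  rw [toPGL_pslConj, map_one, inv_one, one_mul, mul_one]

theorem pslConj_inv_apply (g : GL (Fin 2) F) (x : ProjectiveSpecialLinearGroup (Fin 2) F) :
    pslConj g⁻¹ (pslConj g x) = x := by
  rw [← pslConj_mul, inv_mul_cancel, pslConj_one]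

end Auto

section Images

variable {K F : Type*} [Field K] [Field F] (f : K →+* F)

/-- The image of `PSL₂(K)`. -/
def pslImage : Subgroup (ProjectiveSpecialLinearGroup (Fin 2) F) := (pslMap f).range

/-- The elements of `PSL₂(F)` coming from `PGL₂(K)`. -/
def pglImage : Subgroup (ProjectiveSpecialLinearGroup (Fin 2) F) :=
  (ProjGenLinGroup.map f).range.comap ProjectiveSpecialLinearGroup.toPGL

theorem mem_pglImage {x : ProjectiveSpecialLinearGroup (Fin 2) F} :
    x ∈ pglImage f ↔ ∃ g, ProjGenLinGroup.map f g = ProjectiveSpecialLinearGroup.toPGL x := Iff.rfl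

theorem pslImage_le_pglImage : pslImage f ≤ pglImage f := by
  rintro _ ⟨x, rfl⟩
  exact ⟨_, (toPGL_pslMap f x).symm⟩

theorem pglMap_comp {K' : Type*} [Field K'] (j : K →+* K') (f' : K' →+* F) (g : ProjGenLinGroup (Fin 2) K) :
    ProjGenLinGroup.map f' (ProjGenLinGroup.map j g) = ProjGenLinGroup.map (f'.comp j) g := by
  rw [ProjGenLinGroup.map_comp]; rfl

theorem pglImage_comp_le {K' : Type*} [Field K'] (j : K →+* K') (f' : K' →+* F) :
    pglImage (f'.comp j) ≤ pglImage f' := by
  rintro x ⟨g, hg⟩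
  exact ⟨ProjGenLinGroup.map j g, (pglMap_comp j f' g).trans hg⟩

theorem pslImage_comp_le {K' : Type*} [Field K'] (j : K →+* K') (f' : K' →+* F) :
    pslImage (f'.comp j) ≤ pslImage f' := by
  rintro _ ⟨x, rfl⟩
  refine ⟨pslMap j x, ProjectiveSpecialLinearGroup.toPGL_injective ?_⟩
  rw [toPGL_pslMap, toPGL_pslMap, toPGL_pslMap, pglMap_comp]

theorem card_pslImage :
    Nat.card (pslImage f) = Nat.card (ProjectiveSpecialLinearGroup (Fin 2) K) :=
  (Nat.card_congr (MonoidHom.ofInjective (pslMap_injective f)).toEquiv).symm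

theorem nonempty_pslImage_equiv :
    Nonempty (pslImage f ≃* ProjectiveSpecialLinearGroup (Fin 2) K) :=
  ⟨(MonoidHom.ofInjective (pslMap_injective f)).symm⟩

theorem range_map_le_toPGL_of_isSquare (h : ∀ a : K, a ≠ 0 → IsSquare (f a))
    (g : ProjGenLinGroup (Fin 2) K) :
    ProjGenLinGroup.map f g ∈
      (ProjectiveSpecialLinearGroup.toPGL (n := Fin 2) (R := F)).range := by
  induction g using ProjGenLinGroup.induction_on with | mk g =>
  obtain ⟨r, hr⟩ := h _ (GeneralLinearGroup.det_ne_zero g)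
  have hr0 : r ≠ 0 := fun h => by
    rw [h, mul_zero] at hr
    exact GeneralLinearGroup.det_ne_zero g ((map_eq_zero f).1 hr)
  let A : SL(2, F) := ⟨r⁻¹ • (g : Matrix (Fin 2) (Fin 2) K).map f, by
    have hd : ((g : Matrix (Fin 2) (Fin 2) K).map f).det = r * r := by
      rw [← hr]; exact (f.map_det _).symm
    rw [Matrix.det_smul, hd, Fintype.card_fin]
    field_simp⟩
  refine ⟨QuotientGroup.mk A, ?_⟩
  rw [ProjectiveSpecialLinearGroup.toPGL_mk, ProjGenLinGroup.map_mk]
  refine mk_eq_of_smul (Units.mk0 r hr0) ?_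
  show (g : Matrix (Fin 2) (Fin 2) K).map f = r • (r⁻¹ • (g : Matrix (Fin 2) (Fin 2) K).map f)
  rw [smul_smul, mul_inv_cancel₀ hr0, one_smul]

theorem nonempty_pglImage_equiv (h : ∀ a : K, a ≠ 0 → IsSquare (f a)) :
    Nonempty (pglImage f ≃* ProjGenLinGroup (Fin 2) K) := by
  let φ : pglImage f →* ProjGenLinGroup (Fin 2) K :=
    (MonoidHom.ofInjective (pglMap_injective f)).symm.toMonoidHom.comp
      ((ProjectiveSpecialLinearGroup.toPGL.comp (pglImage f).subtype).codRestrict _ fun x => x.2)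
  refine ⟨MulEquiv.ofBijective φ ⟨?_, fun g => ?_⟩⟩
  · intro x y hxy
    exact Subtype.ext (ProjectiveSpecialLinearGroup.toPGL_injective
      (congrArg Subtype.val ((MonoidHom.ofInjective (pglMap_injective f)).symm.injective hxy)))
  · obtain ⟨x, hx⟩ := range_map_le_toPGL_of_isSquare f h g
    refine ⟨⟨x, g, hx.symm⟩, (MonoidHom.ofInjective (pglMap_injective f)).symm_apply_eq.2 ?_⟩
    exact Subtype.ext hx

end Images

section Descent

variable {F L : Type*} [Field F] [Field L]

/-- An intertwiner over an extension gives one over the ground field. -/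
theorem exists_intertwiner (f : F →+* L) {A A' B B' : Matrix (Fin 2) (Fin 2) F}
    (hirr : ∀ v : Fin 2 → F, v ≠ 0 → ∀ a b : F, A.mulVec v = a • v → B.mulVec v ≠ b • v)
    (X : Matrix (Fin 2) (Fin 2) L) (hX : X ≠ 0) (hA : A'.map f * X = X * A.map f)
    (hB : B'.map f * X = X * B.map f) :
    ∃ P : GL (Fin 2) F, A' * (P : Matrix (Fin 2) (Fin 2) F) = P * A ∧
      B' * (P : Matrix (Fin 2) (Fin 2) F) = P * B := by
  let _ : Algebra F L := f.toAlgebra
  obtain ⟨i, j, hij⟩ : ∃ i j, X i j ≠ 0 := by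
    by_contra! h
    exact hX (Matrix.ext h)
  let b := Module.Basis.ofVectorSpace F L
  obtain ⟨k, hk⟩ : ∃ k, b.coord k (X i j) ≠ 0 := by
    by_contra! h
    exact hij (b.forall_coord_eq_zero_iff.1 h)
  let lam := b.coord k
  have hlin : ∀ (c : F) (x : L), lam (f c * x) = c * lam x := fun c x => by
    have := lam.map_smul c x
    rwa [Algebra.smul_def, smul_eq_mul] at this
  let Y : Matrix (Fin 2) (Fin 2) F := X.map lam
  have hY : ∀ M M' : Matrix (Fin 2) (Fin 2) F, M'.map f * X = X * M.map f → M' * Y = Y * M := by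
    intro M M' h
    ext s t
    have h' := congrArg lam (congrFun (congrFun h s) t)
    simp only [Matrix.mul_apply, Fin.sum_univ_two, Matrix.map_apply, map_add, mul_comm (X _ _),
      hlin] at h'
    simpa [Y, Matrix.mul_apply, Fin.sum_univ_two, mul_comm] using h'
  have hAY := hY _ _ hA
  have hBY := hY _ _ hB
  have hdet : Y.det ≠ 0 := by
    intro h0
    obtain ⟨v, hv, hYv⟩ := Matrix.exists_mulVec_eq_zero_iff.2 h0
    have hker : ∀ M M' : Matrix (Fin 2) (Fin 2) F, M' * Y = Y * M → ∃ a : F, M.mulVec v = a • v := by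
      intro M M' h
      have hw : Y.mulVec (M.mulVec v) = 0 := by
        rw [Matrix.mulVec_mulVec, ← h, ← Matrix.mulVec_mulVec, hYv, Matrix.mulVec_zero]
      set w := M.mulVec v
      by_cases hd : v 0 * w 1 - v 1 * w 0 = 0
      · by_cases h0' : v 0 = 0
        · have h1 : v 1 ≠ 0 := fun h1 => hv (funext fun i => by fin_cases i <;> assumption)
          refine ⟨w 1 / v 1, funext fun i => ?_⟩
          fin_cases i
          · have : w 0 = 0 := by simpa [h0', h1] using hd
            simp [h0', this]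
          · simp [h1]
        · refine ⟨w 0 / v 0, funext fun i => ?_⟩
          fin_cases i
          · simp [h0']
          · show w 1 = w 0 / v 0 * v 1
            field_simp
            linear_combination hd
      · exfalso
        have e0 : ∀ i, Y i 0 * v 0 + Y i 1 * v 1 = 0 := fun i => by
          simpa [Matrix.mulVec, dotProduct, Fin.sum_univ_two] using congrFun hYv i
        have e1 : ∀ i, Y i 0 * w 0 + Y i 1 * w 1 = 0 := fun i => by
          simpa [Matrix.mulVec, dotProduct, Fin.sum_univ_two] using congrFun hw i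
        have z0 : ∀ i, Y i 0 = 0 := fun i => (mul_eq_zero.1 (show Y i 0 * (v 0 * w 1 - v 1 * w 0) = 0
          by linear_combination w 1 * e0 i - v 1 * e1 i)).resolve_right hd
        have z1 : ∀ i, Y i 1 = 0 := fun i => (mul_eq_zero.1 (show Y i 1 * (v 0 * w 1 - v 1 * w 0) = 0
          by linear_combination v 0 * e1 i - w 0 * e0 i)).resolve_right hd
        refine hk ?_
        show lam (X i j) = 0
        fin_cases j
        exacts [z0 i, z1 i]
    obtain ⟨x, hx⟩ := hker A A' hAY
    obtain ⟨y, hy⟩ := hker B B' hBY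
    exact hirr v hv x y hx hy
  exact ⟨GeneralLinearGroup.mkOfDetNeZero Y hdet, hAY, hBY⟩

/-- The lower unitriangular element. -/
def low (L : Type*) [Field L] : Mob L :=
  ProjGenLinGroup.mk (GeneralLinearGroup.mkOfDetNeZero !![(1 : L), 0; 1, 1] (by simp [det_fin_two]))

theorem sl_of_mem {h' : GL (Fin 2) L} (f : F →+* L) {H : Subgroup (ProjectiveSpecialLinearGroup (Fin 2) F)}
    {W : GL (Fin 2) L} (hW : (W : Matrix (Fin 2) (Fin 2) L).det = 1)
    (hU : (ProjGenLinGroup.mk W : Mob L) ∈
      H.map ((MulAut.conj (ProjGenLinGroup.mk h' : Mob L)).toMonoidHom.comp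
        ((ProjGenLinGroup.map f).comp ProjectiveSpecialLinearGroup.toPGL))) :
    ∃ A : Matrix (Fin 2) (Fin 2) F,
      (h' : Matrix (Fin 2) (Fin 2) L) * A.map f = W * (h' : Matrix (Fin 2) (Fin 2) L) := by
  obtain ⟨x, -, hx⟩ := hU
  obtain ⟨A, rfl⟩ := QuotientGroup.mk_surjective x
  have hx' : (ProjGenLinGroup.mk (h' * GeneralLinearGroup.map f (SpecialLinearGroup.toGL A) * h'⁻¹) :
      Mob L) = ProjGenLinGroup.mk W := by
    rw [map_mul, map_mul, map_inv]
    exact hx
  obtain ⟨u, hu⟩ := ProjGenLinGroup.mk_eq_mk_iff.1 hx'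
  have e : (h' : Matrix (Fin 2) (Fin 2) L) * ((u : L) • A.1.map f) =
      W * (h' : Matrix (Fin 2) (Fin 2) L) := by
    rw [← hu]
    simp [GeneralLinearGroup.map, GeneralLinearGroup.coe_scalar, Matrix.scalar_apply,
      ← Matrix.smul_one_eq_diagonal, mul_assoc]
  have hu2 : (u : L) * u = 1 := by
    have hd := congrArg Matrix.det e
    have hA : (A.1.map f).det = 1 := by
      rw [show (A.1.map f).det = f A.1.det from (f.map_det _).symm, A.2, map_one]
    rw [Matrix.det_mul, Matrix.det_mul, Matrix.det_smul, hA, hW, Fintype.card_fin] at hd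
    have h0 := GeneralLinearGroup.det_ne_zero h'
    refine mul_left_cancel₀ h0 ?_
    linear_combination hd
  rcases mul_self_eq_one_iff.1 hu2 with hu1 | hu1
  · exact ⟨A.1, by rw [hu1, one_smul] at e; exact e⟩
  · exact ⟨-A.1, by rw [Matrix.map_neg f (map_neg f)]; rw [hu1, neg_smul, one_smul] at e; exact e⟩

/-- A conjugator moving a subgroup defined over `F` onto one containing the two basic
unipotent elements is defined over `F`. -/
theorem exists_descend (f : F →+* L) {H : Subgroup (ProjectiveSpecialLinearGroup (Fin 2) F)}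
    (h : Mob L)
    (hU : aff (1 : Lˣ) 1 ∈ H.map ((MulAut.conj h).toMonoidHom.comp
      ((ProjGenLinGroup.map f).comp ProjectiveSpecialLinearGroup.toPGL)))
    (hV : low L ∈ H.map ((MulAut.conj h).toMonoidHom.comp
      ((ProjGenLinGroup.map f).comp ProjectiveSpecialLinearGroup.toPGL))) :
    ∃ g : GL (Fin 2) F, h = ProjGenLinGroup.map f (ProjGenLinGroup.mk g) := by
  obtain ⟨h', rfl⟩ := ProjGenLinGroup.mk_surjective h
  obtain ⟨A, hA⟩ := sl_of_mem f (by simp [det_fin_two]) hU
  obtain ⟨B, hB⟩ := sl_of_mem f (by simp [det_fin_two]) hV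
  let U : Matrix (Fin 2) (Fin 2) F := !![1, 1; 0, 1]
  let V : Matrix (Fin 2) (Fin 2) F := !![1, 0; 1, 1]
  have hUf : U.map f = !![((1 : Lˣ) : L), 1; 0, 1] := by
    ext i j; fin_cases i <;> fin_cases j <;> simp [U]
  have hVf : V.map f = !![(1 : L), 0; 1, 1] := by
    ext i j; fin_cases i <;> fin_cases j <;> simp [V]
  have hA' : U.map f * (h' : Matrix (Fin 2) (Fin 2) L) = h' * A.map f := by rw [hUf, hA]; rfl
  have hB' : V.map f * (h' : Matrix (Fin 2) (Fin 2) L) = h' * B.map f := by rw [hVf, hB]; rfl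
  have hirr : ∀ v : Fin 2 → F, v ≠ 0 → ∀ a b : F, A.mulVec v = a • v → B.mulVec v ≠ b • v := by
    intro v hv a b ha hb
    let w := (h' : Matrix (Fin 2) (Fin 2) L).mulVec (f ∘ v)
    have hw : ∀ (M W : Matrix (Fin 2) (Fin 2) F) (c : F), M.mulVec v = c • v →
        W.map f * (h' : Matrix (Fin 2) (Fin 2) L) = h' * M.map f →
        (W.map f).mulVec w = f c • w := by
      intro M W c hM hMW
      show (W.map f).mulVec ((h' : Matrix (Fin 2) (Fin 2) L).mulVec (f ∘ v)) = _
      rw [Matrix.mulVec_mulVec, hMW, ← Matrix.mulVec_mulVec, ← Matrix.mulVec_smul]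
      congr 1
      funext i
      rw [← RingHom.map_mulVec, hM]
      simp
    have e1 := hw A U a ha hA'
    have e2 := hw B V b hb hB'
    rw [hUf] at e1
    rw [hVf] at e2
    have w0 : w ≠ 0 := by
      intro h0
      apply hv
      have h1 : (f ∘ v : Fin 2 → L) = 0 := by
        have := congrArg ((h'⁻¹ : GL (Fin 2) L) : Matrix (Fin 2) (Fin 2) L).mulVec h0
        rwa [Matrix.mulVec_mulVec, Units.inv_mul, Matrix.one_mulVec, Matrix.mulVec_zero] at this
      funext i
      exact f.injective ((congrFun h1 i).trans (map_zero f).symm)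
    have a0 := congrFun e1 0
    have a1 := congrFun e1 1
    have b0 := congrFun e2 0
    have b1 := congrFun e2 1
    simp [Matrix.mulVec, dotProduct, Fin.sum_univ_two] at a0 a1 b0 b1
    refine w0 (funext fun i => ?_)
    have hw1 : w 1 * w 1 = 0 := by linear_combination w 1 * a0 - w 0 * a1
    have hw1' : w 1 = 0 := mul_self_eq_zero.1 hw1
    fin_cases i
    · show w 0 = 0
      have : w 0 * w 0 = 0 := by linear_combination w 0 * b1 - w 1 * b0
      exact mul_self_eq_zero.1 this
    · exact hw1'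
  obtain ⟨P, hPA, hPB⟩ := exists_intertwiner f hirr (h' : Matrix (Fin 2) (Fin 2) L)
    (fun h0 => GeneralLinearGroup.det_ne_zero h' (by rw [h0]; simp)) hA' hB'
  refine ⟨P, ?_⟩
  -- `h' P⁻¹` commutes with both unipotents, hence is scalar
  set P' := GeneralLinearGroup.map f P
  set Z : GL (Fin 2) L := h' * P'⁻¹
  have hP' : ∀ (M W : Matrix (Fin 2) (Fin 2) F), W * (P : Matrix (Fin 2) (Fin 2) F) = P * M →
      W.map f * (h' : Matrix (Fin 2) (Fin 2) L) = h' * M.map f →
      W.map f * (Z : Matrix (Fin 2) (Fin 2) L) = Z * W.map f := by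
    intro M W h1 h2
    have h1' : W.map f * (P' : Matrix (Fin 2) (Fin 2) L) = P' * M.map f := by
      have := congrArg (fun X : Matrix (Fin 2) (Fin 2) F => X.map f) h1
      simpa [P', GeneralLinearGroup.map, Matrix.map_mul] using this
    calc W.map f * ((h' : Matrix (Fin 2) (Fin 2) L) * (P'⁻¹ : GL (Fin 2) L)) =
          (h' : Matrix (Fin 2) (Fin 2) L) * M.map f * (P'⁻¹ : GL (Fin 2) L) := by
          rw [← mul_assoc, h2]
      _ = (h' : Matrix (Fin 2) (Fin 2) L) * ((P'⁻¹ : GL (Fin 2) L) : Matrix (Fin 2) (Fin 2) L) *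
          ((P' : Matrix (Fin 2) (Fin 2) L) * M.map f) * (P'⁻¹ : GL (Fin 2) L) := by
          simp [mul_assoc, ← mul_assoc ((P'⁻¹ : GL (Fin 2) L) : Matrix (Fin 2) (Fin 2) L)]
      _ = ((h' * P'⁻¹ : GL (Fin 2) L) : Matrix (Fin 2) (Fin 2) L) * W.map f := by
          rw [← h1']; simp [mul_assoc]
  have z1 := hP' A U hPA hA'
  have z2 := hP' B V hPB hB'
  rw [hUf] at z1
  rw [hVf] at z2
  have q00 := congrFun (congrFun z1 0) 0
  have q01 := congrFun (congrFun z1 0) 1
  have r00 := congrFun (congrFun z2 0) 0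
  simp [Matrix.mul_apply, Fin.sum_univ_two] at q00 q01 r00
  have hZ : (ProjGenLinGroup.mk Z : Mob L) = 1 := by
    rw [ProjGenLinGroup.mk_eq_one, GeneralLinearGroup.center_eq_range_scalar]
    have hd := GeneralLinearGroup.det_ne_zero Z
    have h10 : (Z : Matrix (Fin 2) (Fin 2) L) 1 0 = 0 := by linear_combination q00
    have h01 : (Z : Matrix (Fin 2) (Fin 2) L) 0 1 = 0 := by linear_combination r00
    have h11 : (Z : Matrix (Fin 2) (Fin 2) L) 1 1 = (Z : Matrix (Fin 2) (Fin 2) L) 0 0 := by
      linear_combination q01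
    have h00 : (Z : Matrix (Fin 2) (Fin 2) L) 0 0 ≠ 0 := by
      intro h0
      exact hd (by rw [Matrix.det_fin_two, h10, h0]; simp)
    refine ⟨Units.mk0 _ h00, Units.ext ?_⟩
    ext i j
    fin_cases i <;> fin_cases j <;>
      simp [GeneralLinearGroup.coe_scalar, Matrix.scalar_apply, h10, h01, h11]
  rw [map_mul, map_inv, mul_inv_eq_one] at hZ
  rw [hZ]
  rfl

end Descent

/-! ### Dickson's theorem, subfield case up to conjugation -/

section Main

variable {F : Type*} [Field F] [Fintype F] (p : ℕ) [Fact p.Prime] [CharP F p]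

/-- The subgroup is conjugate in `PGL₂(F)` to the `PSL₂` or `PGL₂` of a subfield. -/
def SubfieldConj (H : Subgroup (ProjectiveSpecialLinearGroup (Fin 2) F)) : Prop :=
  ∃ (K : Subfield F) (g : GL (Fin 2) F), 3 ≤ Nat.card K ∧
    (H.map (pslConj g).toMonoidHom = pglImage K.subtype ∨
      (p ≠ 2 ∧ H.map (pslConj g).toMonoidHom = pslImage K.subtype))

/-- Dickson's theorem with the subfield case up to conjugation. -/
theorem subgroup_cases_conj {q : ℕ} (hF : Fintype.card F = q)
    (H : Subgroup (ProjectiveSpecialLinearGroup (Fin 2) F)) :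
    (IsCyclic H ∧ ¬ p ∣ Nat.card H ∧ (Nat.card H ∣ (q + 1) / Nat.gcd 2 (q - 1) ∨
      Nat.card H ∣ (q - 1) / Nat.gcd 2 (q - 1))) ∨
    (p ∣ Nat.card H ∧ ∃ x : ℙ F (Fin 2 → F), ∀ g ∈ H, g • x = x) ∨
    (∃ n, 2 ≤ n ∧ ¬ p ∣ n ∧ (n ∣ (q + 1) / Nat.gcd 2 (q - 1) ∨ n ∣ (q - 1) / Nat.gcd 2 (q - 1)) ∧
      Nonempty (H ≃* DihedralGroup n)) ∨
    Nonempty (H ≃* alternatingGroup (Fin 4)) ∨
    Nonempty (H ≃* Equiv.Perm (Fin 4)) ∨
    Nonempty (H ≃* alternatingGroup (Fin 5)) ∨
    SubfieldConj p H := by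
  classical
  let L := AlgebraicClosure F
  have : CharP L p := charP_of_injective_algebraMap (algebraMap F L).injective p
  let ι := pslEmb F
  let ε : H ≃* H.map ι := H.equivMapOfInjective ι (pslEmb_injective F)
  have : Finite (H.map ι) := Finite.of_equiv H ε.toEquiv
  have hcard : Nat.card (H.map ι) = Nat.card H := (Nat.card_congr ε.toEquiv).symm
  have hcyc : ∀ C : Subgroup (H.map ι), IsCyclic C → ¬ p ∣ Nat.card C →
      Nat.card C ∣ (q + 1) / Nat.gcd 2 (q - 1) ∨ Nat.card C ∣ (q - 1) / Nat.gcd 2 (q - 1) := by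
    intro C hC hp
    obtain ⟨c, hc⟩ := hC.exists_generator
    rw [← orderOf_eq_card_of_forall_mem_zpowers hc] at hp ⊢
    have e : orderOf ((ε.symm (c : H.map ι) : H) : ProjectiveSpecialLinearGroup (Fin 2) F) = orderOf c := by
      rw [Subgroup.orderOf_coe, MulEquiv.orderOf_eq, Subgroup.orderOf_coe]
    rw [← e] at hp ⊢
    exact orderOf_dvd_psl p _ hp hF
  rcases structure_cases (G := H.map ι) (p := p) with
      ⟨hC, hp⟩ | ⟨hp, x, hx⟩ | ⟨n, hn, hpn, ⟨C, hC, hCn⟩, ⟨ψ⟩⟩ | ⟨⟨ψ⟩⟩ | ⟨⟨ψ⟩⟩ | ⟨⟨ψ⟩⟩ | hsub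
  · refine Or.inl ⟨ε.isCyclic.2 hC, hcard ▸ hp, ?_⟩
    have htop : Nat.card (⊤ : Subgroup (H.map ι)) = Nat.card H := Subgroup.card_top.trans hcard
    rw [← htop]
    exact hcyc ⊤ (Subgroup.topEquiv.isCyclic.2 hC) (by rw [htop, ← hcard]; exact hp)
  · refine Or.inr (Or.inl ⟨hcard ▸ hp, ?_⟩)
    obtain ⟨u, hu⟩ := exists_prime_orderOf_dvd_card' (G := H) p (hcard ▸ hp)
    have hu' : (ProjectiveSpecialLinearGroup.toPGL (u : ProjectiveSpecialLinearGroup (Fin 2) F)) ^ p = 1 := by
      rw [← map_pow, ← Subgroup.coe_pow, ← hu, pow_orderOf_eq_one, OneMemClass.coe_one, map_one]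
    have hune : ProjectiveSpecialLinearGroup.toPGL (u : ProjectiveSpecialLinearGroup (Fin 2) F) ≠ 1 := fun h => by
      have : u = 1 := Subtype.ext (ProjectiveSpecialLinearGroup.toPGL_injective (h.trans (map_one _).symm))
      rw [this, orderOf_one] at hu
      exact (Fact.out : p.Prime).one_lt.ne hu
    obtain ⟨x₀, hx₀⟩ : ∃ x₀ : ℙ F (Fin 2 → F), (u : ProjectiveSpecialLinearGroup (Fin 2) F) • x₀ = x₀ := by
      have hP : IsPGroup p (Subgroup.zpowers (u : ProjectiveSpecialLinearGroup (Fin 2) F)) :=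
        IsPGroup.of_card (n := 1) (by rw [Nat.card_zpowers, Subgroup.orderOf_coe, hu, pow_one])
      obtain ⟨x₀, hx₀⟩ := hP.nonempty_fixed_point_of_prime_not_dvd_card (ℙ F (Fin 2 → F)) (by
        rw [Two.card_line, hF]
        intro h
        obtain ⟨f, hf, hqf⟩ := exists_card_eq_prime_pow (F := F) p
        have h2 : p ∣ q := hF ▸ hqf ▸ dvd_pow_self p (by omega)
        exact (Fact.out : p.Prime).not_dvd_one ((Nat.dvd_add_right h2).1 h))
      exact ⟨x₀, hx₀ ⟨_, Subgroup.mem_zpowers _⟩⟩
    have hu0 : ProjectiveSpecialLinearGroup.toPGL (u : ProjectiveSpecialLinearGroup (Fin 2) F) • x₀ = x₀ := by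
      rw [psl_smul]; exact hx₀
    refine ⟨x₀, fun g hg => ?_⟩
    set g' := ProjectiveSpecialLinearGroup.toPGL g with hg'
    set u' := ProjectiveSpecialLinearGroup.toPGL (u : ProjectiveSpecialLinearGroup (Fin 2) F) with hu''
    set v := g' * u' * g'⁻¹ with hv
    have hLfix : ∀ a ∈ H, ProjGenLinGroup.map (algebraMap F L) (ProjectiveSpecialLinearGroup.toPGL a) • x = x :=
      fun a ha => hx ⟨ι a, a, ha, rfl⟩
    have hvfix : ProjGenLinGroup.map (algebraMap F L) v • x = x := by
      rw [hv, map_mul, map_mul, map_inv, mul_smul, mul_smul,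
        inv_smul_eq_iff.2 (hLfix g hg).symm, hLfix _ u.2, hLfix g hg]
    have hcomm : Commute v u' := by
      have h := commute_of_unip p hvfix (hLfix _ u.2)
        (by rw [← map_pow, hv, conj_pow, hu', mul_one, mul_inv_cancel, map_one])
        (by rw [← map_pow, hu', map_one])
      exact pglMap_injective (algebraMap F L)
        ((map_mul _ v u').trans (h.eq.trans (map_mul _ u' v).symm))
    have h1 : u' • (g' • x₀) = g' • x₀ := by
      have hv1 : v • (g' • x₀) = g' • x₀ := by rw [hv, mul_smul, mul_smul, inv_smul_smul, hu0]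
      have hv2 : v • (u' • (g' • x₀)) = u' • (g' • x₀) := by rw [← mul_smul, hcomm.eq, mul_smul, hv1]
      exact unip_fix_unique p hv2 hv1 (by rw [hv, conj_pow, hu', mul_one, mul_inv_cancel])
        (fun h => hune (conj_eq_one_iff.1 h))
    rw [← psl_smul]
    exact unip_fix_unique p h1 hu0 hu' hune
  · exact Or.inr (Or.inr (Or.inl ⟨n, hn, hpn, hCn ▸ hcyc C hC (hCn ▸ hpn), ⟨ε.trans ψ⟩⟩))
  · exact Or.inr (Or.inr (Or.inr (Or.inl ⟨ε.trans ψ⟩)))
  · exact Or.inr (Or.inr (Or.inr (Or.inr (Or.inl ⟨ε.trans ψ⟩))))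
  · exact Or.inr (Or.inr (Or.inr (Or.inr (Or.inr (Or.inl ⟨ε.trans ψ⟩)))))
  · refine Or.inr (Or.inr (Or.inr (Or.inr (Or.inr (Or.inr ?_)))))
    obtain ⟨x, z, a, e, c, hf3, hun, hk, hst, hN, he, he2, hrest⟩ := hsub
    have hsub : SubfieldData (H.map ι) p :=
      ⟨x, z, a, e, c, hf3, hun, hk, hst, hN, he, he2, hrest⟩
    obtain ⟨K, h, hKfin, hcase⟩ := exists_subfield hsub
    let F' := (algebraMap F L).fieldRange
    have hsqmem : ∀ b ∈ K, b ^ 2 ∈ F' := by
      intro b hb
      have hM : ∃ A : SL(2, K), (A : Matrix (Fin 2) (Fin 2) K) = !![⟨b, hb⟩, -1; 1, 0] :=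
        ⟨⟨_, by simp [det_fin_two]⟩, rfl⟩
      obtain ⟨A, hA⟩ := hM
      have hmem : mapPSL K (QuotientGroup.mk A) ∈ (H.map ι).map (MulAut.conj h).toMonoidHom := by
        rcases hcase with hc | ⟨-, hc⟩ <;> rw [hc]
        · exact ⟨ProjectiveSpecialLinearGroup.toPGL (QuotientGroup.mk A), rfl⟩
        · exact ⟨_, rfl⟩
      obtain ⟨g, ⟨g₀, -, rfl⟩, hg⟩ := hmem
      obtain ⟨B, rfl⟩ := QuotientGroup.mk_surjective g₀
      obtain ⟨h', rfl⟩ := ProjGenLinGroup.mk_surjective h
      have hg' : (ProjGenLinGroup.mk (h' * GeneralLinearGroup.map (algebraMap F L)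
          (SpecialLinearGroup.toGL B) * h'⁻¹) : Mob L) =
          ProjGenLinGroup.mk (GeneralLinearGroup.map K.subtype (SpecialLinearGroup.toGL A)) := by
        rw [map_mul, map_mul, map_inv]
        exact hg
      have ht := traceSq_congr hg'
      rw [traceSq_conj] at ht
      refine ⟨(B : Matrix (Fin 2) (Fin 2) F).trace ^ 2, ?_⟩
      simp [traceSq, GeneralLinearGroup.map, Matrix.trace_fin_two, Matrix.det_fin_two, hA] at ht
      have hB : (B : Matrix (Fin 2) (Fin 2) F).det = 1 := B.2
      rw [Matrix.det_fin_two] at hB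
      rw [← ht, Matrix.trace_fin_two, map_pow, map_add]
      rw [← map_mul, ← map_mul, ← map_sub, hB, map_one, div_one]
    have hKF : K ≤ F' := by
      intro b hb
      by_cases hp2 : p = 2
      · have : CharP L 2 := hp2 ▸ ‹CharP L p›
        let sq : K → K := fun s => s ^ 2
        have hinj : Function.Injective sq := fun s t hst =>
          Subtype.ext (frobenius_inj L 2 (show (s : L) ^ 2 = (t : L) ^ 2 from congrArg Subtype.val hst))
        obtain ⟨s, hs⟩ := Finite.injective_iff_surjective.1 hinj ⟨b, hb⟩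
        have h1 := hsqmem s s.2
        rwa [show (s : L) ^ 2 = b by simpa [sq] using congrArg Subtype.val hs] at h1
      · have h2 : (2 : L) ≠ 0 := by
          intro h0
          have : CharP L 2 := CharTwo.of_one_ne_zero_of_two_eq_zero one_ne_zero h0
          exact hp2 (CharP.eq L ‹CharP L p› ‹CharP L 2›)
        have e1 : b = ((b + 1) ^ 2 - b ^ 2 - 1) / 2 := by field_simp; ring
        rw [e1]
        exact F'.div_mem (F'.sub_mem (F'.sub_mem (hsqmem _ (K.add_mem hb K.one_mem)) (hsqmem b hb))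
          F'.one_mem) (by rw [show (2 : L) = 1 + 1 by norm_num]; exact F'.add_mem F'.one_mem F'.one_mem)
    let K₀ : Subfield F := K.comap (algebraMap F L)
    let j : K₀ →+* K :=
      ((algebraMap F L).comp K₀.subtype).codRestrict K fun t => t.2
    have hj : Function.Bijective j := by
      refine ⟨j.injective, fun t => ?_⟩
      obtain ⟨b, hb⟩ := hKF t.2
      exact ⟨⟨b, show algebraMap F L b ∈ K from hb ▸ t.2⟩, Subtype.ext hb⟩
    have hjsurj : Function.Surjective (ProjGenLinGroup.map (n := Fin 2) j) :=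
      (pglCongr (RingEquiv.ofBijective j hj)).surjective
    have hcomm : ∀ y : ProjGenLinGroup (Fin 2) K₀, ProjGenLinGroup.map K.subtype
        (ProjGenLinGroup.map j y) = ProjGenLinGroup.map (algebraMap F L)
          (ProjGenLinGroup.map K₀.subtype y) := fun y => by
      rw [pglMap_comp, pglMap_comp]; rfl
    have hinK : ∀ A : SL(2, K), mapPSL K (QuotientGroup.mk A) ∈
        (H.map ι).map (MulAut.conj h).toMonoidHom := fun A => by
      rcases hcase with hc | ⟨-, hc⟩ <;> rw [hc]
      · exact ⟨ProjectiveSpecialLinearGroup.toPGL (QuotientGroup.mk A), rfl⟩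
      · exact ⟨_, rfl⟩
    let Aup : SL(2, K) := ⟨!![1, 1; 0, 1], by simp [det_fin_two]⟩
    let Alow : SL(2, K) := ⟨!![1, 0; 1, 1], by simp [det_fin_two]⟩
    have hup : mapPSL K (QuotientGroup.mk Aup) =
        aff (1 : Lˣ) 1 := by
      rw [aff, mapPSL, MonoidHom.comp_apply, ProjectiveSpecialLinearGroup.toPGL_mk, mapPGL,
        ProjGenLinGroup.map_mk]
      congr 1
      apply Units.ext
      ext i j
      fin_cases i <;> fin_cases j <;> simp [GeneralLinearGroup.map] <;>
        first | rfl | exact congrArg K.subtype (rfl : _ = (1 : K))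
    have hlow : mapPSL K (QuotientGroup.mk Alow) =
        low L := by
      rw [low, mapPSL, MonoidHom.comp_apply, ProjectiveSpecialLinearGroup.toPGL_mk, mapPGL,
        ProjGenLinGroup.map_mk]
      congr 1
      apply Units.ext
      ext i j
      fin_cases i <;> fin_cases j <;> simp [GeneralLinearGroup.map] <;>
        first | rfl | exact congrArg K.subtype (rfl : _ = (1 : K))
    obtain ⟨g, hg⟩ := exists_descend (algebraMap F L) (H := H) h
      (by rw [← Subgroup.map_map]; exact hup ▸ hinK Aup)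
      (by rw [← Subgroup.map_map]; exact hlow ▸ hinK Alow)
    have hkey : ∀ x, x ∈ H.map (pslConj g).toMonoidHom ↔
        ProjGenLinGroup.map (algebraMap F L) (ProjectiveSpecialLinearGroup.toPGL x) ∈
          (H.map ι).map (MulAut.conj h).toMonoidHom := by
      intro x
      have e : ∀ y, ProjGenLinGroup.map (algebraMap F L)
          (ProjectiveSpecialLinearGroup.toPGL (pslConj g y)) = h * ι y * h⁻¹ := fun y => by
        rw [toPGL_pslConj, map_mul, map_mul, map_inv, ← hg]; rfl
      constructor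
      · rintro ⟨y, hy, rfl⟩
        exact ⟨ι y, ⟨y, hy, rfl⟩, (e y).symm⟩
      · rintro ⟨-, ⟨y, hy, rfl⟩, hyx⟩
        exact ⟨y, hy, pslEmb_injective F ((e y).trans hyx)⟩
    refine ⟨K₀, g, ?_, ?_⟩
    · by_contra hlt
      have hcK : Nat.card K₀ = 2 := by
        have : 1 < Nat.card K₀ := Finite.one_lt_card
        omega
      have : Fintype K₀ := Fintype.ofFinite _
      have hPGL : Nat.card (ProjGenLinGroup (Fin 2) K₀) = 6 := by
        rw [card_PGL_eq_card_SL, Two.card_SL_two, ← Nat.card_eq_fintype_card, hcK]; rfl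
      have : Finite (ProjGenLinGroup (Fin 2) K₀) := Nat.finite_of_card_ne_zero (by omega)
      have hle : Nat.card (H.map ι) ≤ 6 := by
        rw [← hPGL, Nat.card_congr ((H.map ι).equivMapOfInjective (MulAut.conj h).toMonoidHom (MulAut.conj h).injective).toEquiv]
        have e : Nat.card (ProjGenLinGroup (Fin 2) K₀) = Nat.card (ProjGenLinGroup (Fin 2) K) :=
          Nat.card_congr (pglCongr (RingEquiv.ofBijective j hj)).toEquiv
        rw [e]
        have : Finite (ProjGenLinGroup (Fin 2) K) := Nat.finite_of_card_ne_zero (by rw [← e]; omega)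
        rcases hcase with hc | ⟨-, hc⟩ <;> rw [hc]
        · exact Finite.card_range_le _
        · exact (Finite.card_range_le (mapPSL K)).trans
            (Nat.card_le_card_of_injective _ ProjectiveSpecialLinearGroup.toPGL_injective)
      rw [hN] at hle
      have h12 : 4 * (3 * 2) ≤ (p ^ a + 1) * (p ^ a * e) :=
        Nat.mul_le_mul (by omega) (Nat.mul_le_mul hf3 he2)
      omega
    · rcases hcase with hc | ⟨hp2, hc⟩
      · left
        ext x
        rw [hkey, hc, mem_pglImage]
        constructor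
        · rintro ⟨y, hy⟩
          obtain ⟨y, rfl⟩ := hjsurj y
          exact ⟨y, pglMap_injective (algebraMap F L) ((hcomm y).symm.trans hy)⟩
        · rintro ⟨y, hy⟩
          exact ⟨ProjGenLinGroup.map j y, (hcomm y).trans (by rw [hy])⟩
      · refine Or.inr ⟨hp2, ?_⟩
        ext x
        rw [hkey, hc]
        constructor
        · rintro ⟨y, hy⟩
          obtain ⟨y, rfl⟩ := (pslCongr (RingEquiv.ofBijective j hj)).surjective y
          refine ⟨y, ProjectiveSpecialLinearGroup.toPGL_injective (pglMap_injective (algebraMap F L) ?_)⟩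
          rw [toPGL_pslMap, ← hcomm, ← hy]
          show ProjGenLinGroup.map K.subtype (ProjGenLinGroup.map j _) =
            ProjGenLinGroup.map K.subtype (ProjectiveSpecialLinearGroup.toPGL _)
          congr 1
          induction y using QuotientGroup.induction_on with | _ A =>
          rw [show pslCongr (RingEquiv.ofBijective j hj) (A : ProjectiveSpecialLinearGroup (Fin 2) K₀) =
              ((slCongr (RingEquiv.ofBijective j hj) A : SL(2, K)) :
                ProjectiveSpecialLinearGroup (Fin 2) K) from rfl,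
            ProjectiveSpecialLinearGroup.toPGL_mk, ProjectiveSpecialLinearGroup.toPGL_mk,
            ProjGenLinGroup.map_mk]
          exact congrArg _ (Units.ext rfl)
        · rintro ⟨y, rfl⟩
          refine ⟨pslMap j y, ?_⟩
          show ProjGenLinGroup.map K.subtype (ProjectiveSpecialLinearGroup.toPGL (pslMap j y)) = _
          rw [toPGL_pslMap, hcomm, toPGL_pslMap]

end Main

end CfsgLib.Classical.Dickson
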