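import Mathlib.GroupTheory.GroupAction.Quotient
import Mathlib.GroupTheory.GroupAction.CardCommute
import Mathlib.Algebra.BigOperators.Group.Finset.Basic
import Mathlib.SetTheory.Cardinal.Finite
import Mathlib.Tactic

/-!
The counting argument for finite groups in which every non-identity element fixes one or two points.
-/

set_option autoImplicit false

namespace CfsgLib.Classical.Dickson

open MulAction
open scoped Pointwise

variable {G : Type*} [Group G] [Finite G] {X : Type*} [MulAction G X] (p : ℕ)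

/-- Non-identity elements fix one point exactly when their `p`-th power is one, otherwise two. -/
def FixHyp (p : ℕ) (G : Type*) [Group G] (X : Type*) [MulAction G X] : Prop :=
  ∀ g : G, g ≠ 1 → ∃ x : X, g • x = x ∧ ((g ^ p = 1 ∧ ∀ z : X, g • z = z → z = x) ∨
    (g ^ p ≠ 1 ∧ ∃ y : X, y ≠ x ∧ g • y = y ∧ ∀ z : X, g • z = z → z = x ∨ z = y))

/-- The order of a stabiliser. -/
noncomputable def stCard (G : Type*) [Group G] {X : Type*} [MulAction G X] (x : X) : ℕ :=
  Nat.card {g : G // g • x = x}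

/-- The number of unipotent elements in a stabiliser. -/
noncomputable def unCard (G : Type*) [Group G] {X : Type*} [MulAction G X] (p : ℕ) (x : X) : ℕ :=
  Nat.card {g : G // g • x = x ∧ g ^ p = 1}

/-- The length of an orbit. -/
noncomputable def orbCard (G : Type*) [Group G] {X : Type*} [MulAction G X] (x : X) : ℕ :=
  Nat.card (orbit G x)

theorem stCard_pos (x : X) : 0 < stCard G x :=
  Nat.card_pos_iff.2 ⟨⟨⟨1, one_smul _ _⟩⟩, inferInstance⟩

theorem unCard_pos (x : X) : 0 < unCard G p x :=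
  Nat.card_pos_iff.2 ⟨⟨⟨1, one_smul _ _, one_pow _⟩⟩, inferInstance⟩

theorem orbCard_mul_stCard (x : X) : orbCard G x * stCard G x = Nat.card G := by
  rw [orbCard, stCard, Nat.card_congr (orbitEquivQuotientStabilizer G x)]
  exact (Subgroup.card_eq_card_quotient_mul_card_subgroup (stabilizer G x)).symm

theorem stCard_smul (h : G) (x : X) : stCard G (h • x) = stCard G x :=
  (Nat.card_congr ((MulAut.conj h).toEquiv.subtypeEquiv fun g => by
    show g • x = x ↔ (h * g * h⁻¹) • h • x = h • x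
    rw [mul_smul, mul_smul, inv_smul_smul, smul_left_cancel_iff])).symm

theorem unCard_smul (h : G) (x : X) : unCard G p (h • x) = unCard G p x :=
  (Nat.card_congr ((MulAut.conj h).toEquiv.subtypeEquiv fun g => by
    show g • x = x ∧ g ^ p = 1 ↔ (h * g * h⁻¹) • h • x = h • x ∧ (h * g * h⁻¹) ^ p = 1
    rw [mul_smul, mul_smul, inv_smul_smul, smul_left_cancel_iff, conj_pow, conj_eq_one_iff])).symm

theorem exists_ne_of_card {α : Type*} [Finite α] (h : 1 < Nat.card α) (a : α) : ∃ b, b ≠ a :=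
  @exists_ne α (Finite.one_lt_card_iff_nontrivial.1 h) a

/-- The weight of a point. -/
noncomputable def wt (G : Type*) [Group G] {X : Type*} [MulAction G X] (p : ℕ) (x : X) : ℤ :=
  (stCard G x : ℤ) + unCard G p x - 2

/-- The contribution of an orbit. -/
noncomputable def orbWt (G : Type*) [Group G] {X : Type*} [MulAction G X] (p : ℕ) (x : X) : ℤ :=
  (Nat.card G : ℤ) + ((unCard G p x : ℤ) - 2) * orbCard G x

variable {p} (hG : FixHyp p G X)
include hG

theorem fix_finite {g : G} (hg : g ≠ 1) : {x : X | g • x = x}.Finite := by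
  obtain ⟨x, -, ⟨-, h⟩ | ⟨-, y, -, -, h⟩⟩ := hG g hg
  · exact (Set.finite_singleton x).subset fun z hz => h z hz
  · exact ((Set.finite_singleton y).insert x).subset fun z hz => h z hz

theorem exists_special : ∃ S : Finset X,
    (∀ x, x ∈ S ↔ ∃ g : G, g ≠ 1 ∧ g • x = x) ∧ ∑ x ∈ S, wt G p x = 2 * ((Nat.card G : ℤ) - 1) := by
  classical
  have : Fintype G := Fintype.ofFinite G
  let E : Finset G := Finset.univ.erase 1
  let S : Finset X := E.attach.biUnion fun g =>
    (fix_finite hG (g := (g : G)) (Finset.ne_of_mem_erase g.2)).toFinset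
  have hS : ∀ x, x ∈ S ↔ ∃ g : G, g ≠ 1 ∧ g • x = x := fun x => by
    simp [S, E]
  refine ⟨S, hS, ?_⟩
  have h1 : ∀ x : X, wt G p x =
      ∑ g ∈ E, ((if g • x = x then (1 : ℤ) else 0) + if g • x = x ∧ g ^ p = 1 then 1 else 0) := by
    intro x
    rw [Finset.sum_add_distrib, Finset.sum_boole, Finset.sum_boole, wt, stCard, unCard,
      Nat.card_eq_fintype_card, Nat.card_eq_fintype_card, Fintype.card_subtype, Fintype.card_subtype,
      Finset.filter_erase, Finset.filter_erase, Finset.card_erase_of_mem, Finset.card_erase_of_mem]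
    · have a1 : 1 ≤ (Finset.univ.filter fun g : G => g • x = x).card :=
        Finset.card_pos.2 ⟨1, by simp⟩
      have a2 : 1 ≤ (Finset.univ.filter fun g : G => g • x = x ∧ g ^ p = 1).card :=
        Finset.card_pos.2 ⟨1, by simp⟩
      push_cast [Nat.cast_sub a1, Nat.cast_sub a2]
      ring
    · simp
    · simp
  have h2 : ∀ g ∈ E, ∑ x ∈ S,
      ((if g • x = x then (1 : ℤ) else 0) + if g • x = x ∧ g ^ p = 1 then 1 else 0) = 2 := by
    intro g hg
    have hg1 : g ≠ 1 := Finset.ne_of_mem_erase hg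
    rw [Finset.sum_add_distrib, Finset.sum_boole, Finset.sum_boole]
    obtain ⟨x, hx, ⟨hp, h⟩ | ⟨hp, y, hyx, hy, h⟩⟩ := hG g hg1
    · have e : S.filter (fun z => g • z = z) = {x} := by
        ext z
        simp only [Finset.mem_filter, Finset.mem_singleton, hS]
        exact ⟨fun hz => h z hz.2, fun e => e ▸ ⟨⟨g, hg1, hx⟩, hx⟩⟩
      simp [hp, e]
    · have e : S.filter (fun z => g • z = z) = {x, y} := by
        ext z
        simp only [Finset.mem_filter, Finset.mem_insert, Finset.mem_singleton, hS]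
        refine ⟨fun hz => h z hz.2, ?_⟩
        rintro (rfl | rfl)
        exacts [⟨⟨g, hg1, hx⟩, hx⟩, ⟨⟨g, hg1, hy⟩, hy⟩]
      simp [hp, e, Finset.card_pair hyx.symm]
  rw [Finset.sum_congr rfl fun x _ => h1 x, Finset.sum_comm, Finset.sum_congr rfl h2,
    Finset.sum_const, Finset.card_erase_of_mem (Finset.mem_univ _), Finset.card_univ,
    Nat.card_eq_fintype_card, nsmul_eq_mul, Nat.cast_sub Fintype.card_pos]
  ring

omit hG in
theorem peel {T : Finset X} (hT : ∀ (g : G), ∀ x ∈ T, g • x ∈ T) {x : X} (hx : x ∈ T) :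
    ∃ T' : Finset X, (∀ z, z ∈ T' ↔ z ∈ T ∧ z ∉ orbit G x) ∧ (∀ (g : G), ∀ z ∈ T', g • z ∈ T') ∧
      ∑ z ∈ T, wt G p z = orbWt G p x + ∑ z ∈ T', wt G p z := by
  classical
  have : Fintype (orbit G x) := (Set.finite_range fun g : G => g • x).fintype
  refine ⟨T.filter fun z => z ∉ orbit G x, fun z => Finset.mem_filter, fun g z hz => ?_, ?_⟩
  · rw [Finset.mem_filter] at hz ⊢
    refine ⟨hT g z hz.1, ?_⟩
    rw [← orbit_eq_iff, orbit_smul, orbit_eq_iff]
    exact hz.2
  · rw [← Finset.sum_filter_add_sum_filter_not T (fun z => z ∈ orbit G x)]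
    congr 1
    have e : T.filter (fun z => z ∈ orbit G x) = (orbit G x).toFinset := by
      ext z
      simp only [Finset.mem_filter, Set.mem_toFinset, and_iff_right_iff_imp]
      rintro ⟨g, rfl⟩
      exact hT g x hx
    rw [e, Finset.sum_eq_card_nsmul (b := wt G p x), Set.toFinset_card, nsmul_eq_mul]
    · have hh := orbCard_mul_stCard (G := G) x
      rw [orbCard, Nat.card_eq_fintype_card (α := orbit G x)] at hh
      rw [orbWt, orbCard, wt, Nat.card_eq_fintype_card (α := orbit G x), ← hh]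
      push_cast
      ring
    · intro z hz
      obtain ⟨g, rfl⟩ := Set.mem_toFinset.1 hz
      rw [wt, wt, stCard_smul, unCard_smul]

omit hG in
theorem two_le_stCard {x : X} (hx : ∃ g : G, g ≠ 1 ∧ g • x = x) : 2 ≤ stCard G x := by
  obtain ⟨g, hg, hgx⟩ := hx
  exact Finite.one_lt_card_iff_nontrivial.2 ⟨⟨⟨g, hgx⟩, ⟨1, one_smul _ _⟩, by simpa using hg⟩⟩

omit hG in
theorem orbWt_bound {x : X} (hx : ∃ g : G, g ≠ 1 ∧ g • x = x) :
    2 * orbCard G x ≤ Nat.card G ∧
      (unCard G p x = 1 ∧ orbWt G p x = (Nat.card G : ℤ) - orbCard G x ∨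
        2 ≤ unCard G p x ∧ (Nat.card G : ℤ) ≤ orbWt G p x) := by
  refine ⟨?_, ?_⟩
  · rw [← orbCard_mul_stCard x, mul_comm 2]
    exact Nat.mul_le_mul_left _ (two_le_stCard hx)
  · rcases (unCard_pos p x : 0 < unCard G p x).nat_succ_le.eq_or_lt with h | h
    · refine Or.inl ⟨h.symm, ?_⟩
      rw [orbWt, ← h]; push_cast; ring
    · refine Or.inr ⟨h, ?_⟩
      have : (0 : ℤ) ≤ ((unCard G p x : ℤ) - 2) * orbCard G x :=
        mul_nonneg (by omega) (Int.natCast_nonneg _)
      rw [orbWt]
      linarith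

/-- The trichotomy. -/
theorem count_cases (hN : Nat.card G ≠ 1) :
    (∃ x : X, orbCard G x = 1) ∨
    (∃ x₁ x₂ x₃ : X, unCard G p x₁ = 1 ∧ unCard G p x₂ = 1 ∧ unCard G p x₃ = 1 ∧
      orbCard G x₁ + orbCard G x₂ + orbCard G x₃ = Nat.card G + 2 ∧
      orbCard G x₂ ≤ orbCard G x₁ ∧ orbCard G x₃ ≤ orbCard G x₂ ∧
      2 ≤ stCard G x₁ ∧ 2 ≤ stCard G x₂ ∧ 2 ≤ stCard G x₃ ∧
      ∀ z : X, (∃ g : G, g ≠ 1 ∧ g • z = z) →
        z ∈ orbit G x₁ ∨ z ∈ orbit G x₂ ∨ z ∈ orbit G x₃) ∨
    (∃ x y : X, 2 ≤ unCard G p x ∧ unCard G p y = 1 ∧ y ∉ orbit G x ∧ 3 ≤ orbCard G x ∧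
      (orbCard G y : ℤ) = ((unCard G p x : ℤ) - 2) * orbCard G x + 2 ∧ 2 ≤ stCard G y ∧
      ∀ z : X, (∃ g : G, g ≠ 1 ∧ g • z = z) → z ∈ orbit G x ∨ z ∈ orbit G y) := by
  classical
  obtain ⟨S, hS, hsum⟩ := exists_special hG
  have hN2 : 2 ≤ Nat.card G := by have := Nat.card_pos (α := G); omega
  have hinv : ∀ (g : G), ∀ x ∈ S, g • x ∈ S := by
    intro g x hx
    obtain ⟨a, ha, hax⟩ := (hS x).1 hx
    exact (hS _).2 ⟨g * a * g⁻¹, by simpa using ha, by
      rw [mul_smul, mul_smul, inv_smul_smul, hax]⟩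
  have hpos : ∀ z : X, (∃ g : G, g ≠ 1 ∧ g • z = z) → 0 < orbCard G z := fun z _ => by
    have h := orbCard_mul_stCard (G := G) z
    rcases Nat.eq_zero_or_pos (orbCard G z) with e | e
    · rw [e, zero_mul] at h; omega
    · exact e
  have hlow : ∀ z : X, (∃ g : G, g ≠ 1 ∧ g • z = z) → (Nat.card G : ℤ) ≤ 2 * orbWt G p z := by
    intro z hz
    obtain ⟨a, ⟨-, b⟩ | ⟨-, b⟩⟩ := orbWt_bound (p := p) hz
    all_goals
      rw [← Nat.cast_le (α := ℤ)] at a
      push_cast at a
      linarith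
  have hnn : ∀ (T : Finset X), (∀ z ∈ T, z ∈ S) → 0 ≤ ∑ z ∈ T, wt G p z := fun T hT =>
    Finset.sum_nonneg fun z hz => by
      have := two_le_stCard ((hS z).1 (hT z hz))
      have := unCard_pos (G := G) p z
      rw [wt]; omega
  obtain ⟨g₀, hg₀⟩ : ∃ g : G, g ≠ 1 := by
    by_contra! h
    exact hN (Nat.card_eq_one_iff_unique.2 ⟨⟨fun a b => by rw [h a, h b]⟩, ⟨1⟩⟩)
  by_cases hB : ∃ x ∈ S, 2 ≤ unCard G p x
  · obtain ⟨x, hx, hfx⟩ := hB
    obtain ⟨T, hT, hTinv, hTsum⟩ := peel (p := p) hinv hx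
    have hTS : ∀ z ∈ T, z ∈ S := fun z hz => ((hT z).1 hz).1
    have hcover : ∀ z : X, (∃ g : G, g ≠ 1 ∧ g • z = z) → z ∈ orbit G x ∨ z ∈ T := fun z hz => by
      by_cases h : z ∈ orbit G x
      exacts [Or.inl h, Or.inr ((hT z).2 ⟨(hS z).2 hz, h⟩)]
    rw [hTsum] at hsum
    have hkx := hpos x ((hS x).1 hx)
    by_cases hk : orbCard G x = 1
    · exact Or.inl ⟨x, hk⟩
    rcases T.eq_empty_or_nonempty with rfl | ⟨y, hy⟩
    · -- impossible
      exfalso
      rw [Finset.sum_empty, add_zero, orbWt, ← orbCard_mul_stCard x] at hsum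
      push_cast at hsum
      have h2 : (orbCard G x : ℤ) * ((stCard G x : ℤ) - ((unCard G p x : ℤ) - 2)) = 2 := by linarith
      have hk2 : orbCard G x = 2 := by
        have : orbCard G x ∣ 2 := Int.natCast_dvd_natCast.1 ⟨_, h2.symm⟩
        rcases (Nat.dvd_prime Nat.prime_two).1 this with h | h <;> omega
      -- a unipotent element fixes `x` and so the other point of the orbit
      obtain ⟨⟨a, hax, hap⟩, hane⟩ := exists_ne_of_card (α := {g : G // g • x = x ∧ g ^ p = 1})
        hfx ⟨1, one_smul _ _, one_pow _⟩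
      have ha1 : a ≠ 1 := fun e => hane (Subtype.ext e)
      obtain ⟨x', -, ⟨-, h⟩ | ⟨hp', -⟩⟩ := hG a ha1
      · rw [orbCard] at hk2
        have : Finite (orbit G x) := Nat.finite_of_card_ne_zero (by omega)
        obtain ⟨⟨z, hz⟩, hzne⟩ := exists_ne_of_card (α := orbit G x) (by omega)
          ⟨x, mem_orbit_self x⟩
        have haz : a • z = z := by
          by_contra hne
          have hu : ({x, z, a • z} : Finset X) ⊆ (Set.toFinite (orbit G x)).toFinset := by
            intro w hw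
            simp only [Finset.mem_insert, Finset.mem_singleton] at hw
            rw [Set.Finite.mem_toFinset]
            rcases hw with rfl | rfl | rfl
            exacts [mem_orbit_self _, hz, mem_orbit_of_mem_orbit a hz]
          have hc := Finset.card_le_card hu
          have hxz : x ≠ z := fun e => hzne (Subtype.ext e.symm)
          have hxaz : x ≠ a • z := fun e => hxz (smul_left_cancel a (hax.trans e))
          rw [Finset.card_insert_of_notMem (by simp [hxz, hxaz]), Finset.card_pair (Ne.symm hne),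
            ← Nat.card_eq_card_finite_toFinset, hk2] at hc
          omega
        exact hzne (Subtype.ext ((h z haz).trans (h x hax).symm))
      · exact hp' hap
    · have hyS := (hS y).1 (hTS y hy)
      obtain ⟨T', hT', -, hT'sum⟩ := peel (p := p) hTinv hy
      rw [hT'sum] at hsum
      have hxw : (Nat.card G : ℤ) ≤ orbWt G p x := by
        obtain ⟨-, ⟨a, -⟩ | ⟨-, a⟩⟩ := orbWt_bound (p := p) ((hS x).1 hx)
        · omega
        · exact a
      have hyw := hlow y hyS
      have hT'nn := hnn T' fun z hz => hTS z ((hT' z).1 hz).1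
      have hyf : unCard G p y = 1 := by
        obtain ⟨-, ⟨a, -⟩ | ⟨-, a⟩⟩ := orbWt_bound (p := p) hyS
        · exact a
        · linarith
      rcases T'.eq_empty_or_nonempty with rfl | ⟨w, hw⟩
      · refine Or.inr (Or.inr ⟨x, y, hfx, hyf, ((hT y).1 hy).2, ?_, ?_, two_le_stCard hyS, ?_⟩)
        · by_contra hk3
          have hk2 : orbCard G x = 2 := by omega
          have hy2 := (orbWt_bound (p := p) hyS).1
          obtain ⟨-, ⟨-, e⟩ | ⟨a, -⟩⟩ := orbWt_bound (p := p) hyS
          · rw [Finset.sum_empty, e, orbWt, hk2] at hsum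
            have hkf : (orbCard G y : ℤ) = 2 * (unCard G p x : ℤ) - 2 := by push_cast at hsum; linarith
            obtain ⟨⟨a, hax, hap⟩, hane⟩ :=
              exists_ne_of_card (α := {g : G // g • x = x ∧ g ^ p = 1})
                hfx ⟨1, one_smul _ _, one_pow _⟩
            have ha1 : a ≠ 1 := fun e => hane (Subtype.ext e)
            obtain ⟨x', -, ⟨-, h⟩ | ⟨hp', -⟩⟩ := hG a ha1
            · rw [orbCard] at hk2
              have : Finite (orbit G x) := Nat.finite_of_card_ne_zero (by omega)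
              obtain ⟨⟨z, hz⟩, hzne⟩ := exists_ne_of_card (α := orbit G x) (by omega)
                ⟨x, mem_orbit_self x⟩
              have haz : a • z = z := by
                by_contra hne
                have hu : ({x, z, a • z} : Finset X) ⊆ (Set.toFinite (orbit G x)).toFinset := by
                  intro w hw
                  simp only [Finset.mem_insert, Finset.mem_singleton] at hw
                  rw [Set.Finite.mem_toFinset]
                  rcases hw with rfl | rfl | rfl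
                  exacts [mem_orbit_self _, hz, mem_orbit_of_mem_orbit a hz]
                have hc := Finset.card_le_card hu
                have hxz : x ≠ z := fun e => hzne (Subtype.ext e.symm)
                have hxaz : x ≠ a • z := fun e => hxz (smul_left_cancel a (hax.trans e))
                rw [Finset.card_insert_of_notMem (by simp [hxz, hxaz]),
                  Finset.card_pair (Ne.symm hne), ← Nat.card_eq_card_finite_toFinset, hk2] at hc
                omega
              exact hzne (Subtype.ext ((h z haz).trans (h x hax).symm))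
            · exact hp' hap
          · omega
        · obtain ⟨-, ⟨-, e⟩ | ⟨a, -⟩⟩ := orbWt_bound (p := p) hyS
          · rw [Finset.sum_empty, e, orbWt] at hsum
            linarith
          · omega
        · intro z hz
          rcases hcover z hz with h | h
          · exact Or.inl h
          · by_contra hn
            push Not at hn
            exact absurd ((hT' z).2 ⟨h, hn.2⟩) (Finset.notMem_empty _)
      · exfalso
        obtain ⟨T'', hT'', -, hT''sum⟩ := peel (p := p) (fun g z hz => (hT' _).2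
          ⟨hTinv g z ((hT' z).1 hz).1, fun h => ((hT' z).1 hz).2 (by
            rw [← orbit_eq_iff, ← orbit_smul g z, orbit_eq_iff]; exact h)⟩) hw
        rw [hT''sum] at hsum
        have hwS : w ∈ S := hTS w ((hT' w).1 hw).1
        have hww := hlow w ((hS w).1 hwS)
        have := hnn T'' fun z hz => hTS z ((hT' z).1 ((hT'' z).1 hz).1).1
        linarith
  · push Not at hB
    have hf : ∀ z ∈ S, unCard G p z = 1 ∧ orbWt G p z = (Nat.card G : ℤ) - orbCard G z ∧
        2 * orbCard G z ≤ Nat.card G ∧ 0 < orbCard G z ∧ 2 ≤ stCard G z := by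
      intro z hz
      have h := hB z hz
      obtain ⟨a, ⟨b, c⟩ | ⟨b, -⟩⟩ := orbWt_bound (p := p) ((hS z).1 hz)
      · exact ⟨b, c, a, hpos z ((hS z).1 hz), two_le_stCard ((hS z).1 hz)⟩
      · omega
    obtain ⟨x₀, hx₀, -⟩ := hG g₀ hg₀
    have hx₀S : x₀ ∈ S := (hS _).2 ⟨g₀, hg₀, hx₀⟩
    obtain ⟨T, hT, hTinv, hTsum⟩ := peel (p := p) hinv hx₀S
    rw [hTsum, (hf _ hx₀S).2.1] at hsum
    rcases T.eq_empty_or_nonempty with rfl | ⟨y, hy⟩
    · exfalso
      rw [Finset.sum_empty] at hsum
      have := (hf _ hx₀S).2.2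
      omega
    have hTS : ∀ z ∈ T, z ∈ S := fun z hz => ((hT z).1 hz).1
    obtain ⟨T', hT', hT'inv, hT'sum⟩ := peel (p := p) hTinv hy
    rw [hT'sum, (hf _ (hTS y hy)).2.1] at hsum
    rcases T'.eq_empty_or_nonempty with rfl | ⟨w, hw⟩
    · rw [Finset.sum_empty] at hsum
      have a₁ := (hf _ hx₀S).2.2
      have a₂ := (hf _ (hTS y hy)).2.2
      exact Or.inl ⟨x₀, by omega⟩
    have hwS : w ∈ S := hTS w ((hT' w).1 hw).1
    obtain ⟨T'', hT'', hT''inv, hT''sum⟩ := peel (p := p) hT'inv hw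
    rw [hT''sum, (hf _ hwS).2.1] at hsum
    rcases T''.eq_empty_or_nonempty with rfl | ⟨u, hu⟩
    swap
    · exfalso
      have huS : u ∈ S := hTS u ((hT' u).1 ((hT'' u).1 hu).1).1
      obtain ⟨T₄, hT₄, -, hT₄sum⟩ := peel (p := p) hT''inv hu
      rw [hT₄sum, (hf _ huS).2.1] at hsum
      have := hnn T₄ fun z hz => hTS z ((hT' z).1 ((hT'' z).1 ((hT₄ z).1 hz).1).1).1
      have a₁ := (hf _ hx₀S).2.2.1
      have a₂ := (hf _ (hTS y hy)).2.2.1
      have a₃ := (hf _ hwS).2.2.1
      have a₄ := (hf _ huS).2.2.1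
      omega
    rw [Finset.sum_empty] at hsum
    have hk : orbCard G x₀ + orbCard G y + orbCard G w = Nat.card G + 2 := by omega
    have hcov : ∀ z : X, (∃ g : G, g ≠ 1 ∧ g • z = z) →
        z ∈ orbit G x₀ ∨ z ∈ orbit G y ∨ z ∈ orbit G w := by
      intro z hz
      by_contra hn
      push Not at hn
      exact absurd ((hT'' z).2 ⟨(hT' z).2 ⟨(hT z).2 ⟨(hS z).2 hz, hn.1⟩, hn.2.1⟩, hn.2.2⟩)
        (Finset.notMem_empty _)
    -- sort the three orbit lengths
    have key : ∀ a b c : X, a ∈ S → b ∈ S → c ∈ S →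
        orbCard G a + orbCard G b + orbCard G c = Nat.card G + 2 →
        (∀ z : X, (∃ g : G, g ≠ 1 ∧ g • z = z) → z ∈ orbit G a ∨ z ∈ orbit G b ∨ z ∈ orbit G c) →
        orbCard G b ≤ orbCard G a → orbCard G c ≤ orbCard G b →
        ∃ x₁ x₂ x₃ : X, unCard G p x₁ = 1 ∧ unCard G p x₂ = 1 ∧ unCard G p x₃ = 1 ∧
          orbCard G x₁ + orbCard G x₂ + orbCard G x₃ = Nat.card G + 2 ∧
          orbCard G x₂ ≤ orbCard G x₁ ∧ orbCard G x₃ ≤ orbCard G x₂ ∧
          2 ≤ stCard G x₁ ∧ 2 ≤ stCard G x₂ ∧ 2 ≤ stCard G x₃ ∧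
          ∀ z : X, (∃ g : G, g ≠ 1 ∧ g • z = z) →
            z ∈ orbit G x₁ ∨ z ∈ orbit G x₂ ∨ z ∈ orbit G x₃ :=
      fun a b c ha hb hc h1 h2 h3 h4 => ⟨a, b, c, (hf a ha).1, (hf b hb).1, (hf c hc).1, h1, h3, h4,
        (hf a ha).2.2.2.2, (hf b hb).2.2.2.2, (hf c hc).2.2.2.2, h2⟩
    refine Or.inr (Or.inl ?_)
    rcases le_total (orbCard G y) (orbCard G x₀) with h1 | h1 <;>
    rcases le_total (orbCard G w) (orbCard G y) with h2 | h2 <;>
    rcases le_total (orbCard G w) (orbCard G x₀) with h3 | h3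
    · exact key x₀ y w hx₀S (hTS y hy) hwS hk hcov h1 h2
    · exact key x₀ y w hx₀S (hTS y hy) hwS hk hcov h1 h2
    · exact key x₀ w y hx₀S hwS (hTS y hy) (by omega) (fun z hz => by have := hcov z hz; tauto) h3 h2
    · exact key w x₀ y hwS hx₀S (hTS y hy) (by omega) (fun z hz => by have := hcov z hz; tauto) h3 h1
    · exact key y x₀ w (hTS y hy) hx₀S hwS (by omega) (fun z hz => by have := hcov z hz; tauto) h1 h3
    · exact key y w x₀ (hTS y hy) hwS hx₀S (by omega) (fun z hz => by have := hcov z hz; tauto) h2 h3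
    · exact key w y x₀ hwS (hTS y hy) hx₀S (by omega) (fun z hz => by have := hcov z hz; tauto) h2 h1
    · exact key w y x₀ hwS (hTS y hy) hx₀S (by omega) (fun z hz => by have := hcov z hz; tauto) h2 h1

end CfsgLib.Classical.Dickson
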