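import Mathlib.Algebra.Field.Subfield.Basic
import Mathlib.Algebra.CharP.Two
import Mathlib.FieldTheory.Finite.Basic
import Mathlib.Tactic

/-!
A finite additive subgroup closed under `a ↦ c / a` and containing one is a subfield.
-/

set_option autoImplicit false

namespace CfsgLib.Classical.Dickson

variable {L : Type*} [Field L]

theorem exists_subfield_of_inversion (p : ℕ) [Fact p.Prime] [CharP L p] (A : AddSubgroup L) [Finite A] (h1 : (1 : L) ∈ A) (c : L)
    (hc0 : c ≠ 0) (hc : ∀ a ∈ A, a ≠ 0 → c / a ∈ A) :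
    ∃ K : Subfield L, ∀ a, a ∈ K ↔ a ∈ A := by
  have hsqdiv : ∀ a ∈ A, ∀ d ∈ A, d ≠ 0 → a ^ 2 / d ∈ A := by
    intro a ha d hd hd0
    by_cases ha0 : a = 0
    · rw [ha0]; simp [A.zero_mem]
    by_cases had : a + d = 0
    · have : a ^ 2 / d = -a := by
        rw [eq_neg_of_add_eq_zero_left had]
        field_simp
      rw [this]
      exact A.neg_mem ha
    · have h := hc _ (A.sub_mem (hc a ha ha0) (hc _ (A.add_mem ha hd) had)) (by
        intro h
        have : c * d = 0 := by field_simp at h; linear_combination h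
        exact (mul_ne_zero hc0 hd0) this)
      have e : c / (c / a - c / (a + d)) = a ^ 2 / d + a := by
        have : c / a - c / (a + d) = c * d / (a * (a + d)) := by field_simp; ring
        rw [this]
        field_simp
      rw [e] at h
      simpa using A.sub_mem h ha
  have hinv : ∀ a ∈ A, a ≠ 0 → a⁻¹ ∈ A := fun a ha h0 => by
    simpa [one_div] using hsqdiv 1 h1 a ha h0
  have hsq : ∀ a ∈ A, a ^ 2 ∈ A := fun a ha => by simpa using hsqdiv a ha 1 h1 one_ne_zero
  have hmul : ∀ a ∈ A, ∀ b ∈ A, a * b ∈ A := by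
    intro a ha b hb
    by_cases hp : p = 2
    · by_cases hb0 : b = 0
      · rw [hb0, mul_zero]; exact A.zero_mem
      have : CharP L 2 := hp ▸ ‹CharP L p›
      let sq : A → A := fun s => ⟨(s : L) ^ 2, hsq _ s.2⟩
      have hinj : Function.Injective sq := fun s t h =>
        Subtype.ext (frobenius_inj L 2 (congrArg Subtype.val h))
      obtain ⟨s, hs⟩ := (Finite.injective_iff_surjective.1 hinj) ⟨a, ha⟩
      have h := hsqdiv s s.2 b⁻¹ (hinv b hb hb0) (inv_ne_zero hb0)
      rw [show (s : L) ^ 2 = a from congrArg Subtype.val hs, div_inv_eq_mul] at h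
      exact h
    · have h2 : (2 : L) * (a * b) ∈ A := by
        have e : (2 : L) * (a * b) = (a + b) ^ 2 - a ^ 2 - b ^ 2 := by ring
        rw [e]
        exact A.sub_mem (A.sub_mem (hsq _ (A.add_mem ha hb)) (hsq _ ha)) (hsq _ hb)
      have hodd : Odd p := (Fact.out : p.Prime).odd_of_ne_two hp
      have h := A.nsmul_mem h2 ((p + 1) / 2)
      obtain ⟨r, hr⟩ := hodd
      have e : ((p + 1) / 2) • ((2 : L) * (a * b)) = a * b := by
        have hd : (p + 1) / 2 = r + 1 := by omega
        have hp0 : ((2 * r + 1 : ℕ) : L) = 0 := by rw [← hr]; exact CharP.cast_eq_zero L p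
        rw [hd, nsmul_eq_mul]
        push_cast at hp0 ⊢
        linear_combination (a * b) * hp0
      rwa [e] at h
  exact ⟨{ carrier := A, one_mem' := h1, mul_mem' := fun ha hb => hmul _ ha _ hb
           zero_mem' := A.zero_mem, add_mem' := fun ha hb => A.add_mem ha hb
           neg_mem' := fun ha => A.neg_mem ha
           inv_mem' := fun a ha => by
            by_cases h0 : a = 0
            · rw [h0, inv_zero]; exact A.zero_mem
            · exact hinv a ha h0 }, fun a => Iff.rfl⟩

end CfsgLib.Classical.Dickson
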