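import Cfsg.Agent.Lib.Classical.Dickson.KleinFour

/-!
Classes of four-groups in `PSL(2, q)` and of subgroups of order four in `SL(2, q)`, `q` odd.
-/

set_option autoImplicit false

namespace CfsgLib.Classical.Dickson

open Matrix
open CfsgLib.Classical.Trace (trc IsScalar NormSurj)
open scoped MatrixGroups

section General

variable {G : Type*} [Group G]

theorem isKleinFour_map {G' : Type*} [Group G'] {V : Subgroup G} (hV : IsKleinFour V) (φ : G →* G')
    (hφ : Function.Injective φ) : IsKleinFour (V.map φ) :=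
  ⟨(Nat.card_congr (V.equivMapOfInjective φ hφ).toEquiv).symm.trans hV.card_four,
    (Monoid.exponent_eq_of_mulEquiv (V.equivMapOfInjective φ hφ)).symm.trans hV.exponent_two⟩

theorem exists_klein_pair (V : Subgroup G) [hV : IsKleinFour V] :
    ∃ a b : V, a ≠ 1 ∧ b ≠ 1 ∧ a ≠ b := by
  classical
  have : Finite V := Nat.finite_of_card_ne_zero (by rw [hV.card_four]; norm_num)
  have : Fintype V := Fintype.ofFinite V
  have h4 : Fintype.card V = 4 := IsKleinFour.card_four'
  obtain ⟨a, -, ha⟩ := Finset.exists_mem_notMem_of_card_lt_card (s := ({1} : Finset V)) (t := Finset.univ)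
    (by rw [Finset.card_univ, h4, Finset.card_singleton]; norm_num)
  obtain ⟨b, -, hb⟩ := Finset.exists_mem_notMem_of_card_lt_card (s := ({1, a} : Finset V)) (t := Finset.univ)
    (by rw [Finset.card_univ, h4]; exact Finset.card_le_two.trans_lt (by norm_num))
  simp at ha hb
  exact ⟨a, b, ha, hb.1, Ne.symm hb.2⟩

theorem map_conj_map_conj (V : Subgroup G) (g h : G) :
    (V.map (MulAut.conj g).toMonoidHom).map (MulAut.conj h).toMonoidHom =
      V.map (MulAut.conj (h * g)).toMonoidHom := by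
  rw [Subgroup.map_map]
  congr 1
  ext x
  simp [mul_assoc]

theorem mem_normalizer_of_map {V : Subgroup G} {g : G} :
    g ∈ Subgroup.normalizer (V : Set G) ↔ V.map (MulAut.conj g).toMonoidHom = V := by
  rw [Subgroup.mem_normalizer_iff]
  constructor
  · intro h
    refine le_antisymm ?_ (fun x hx => ⟨g⁻¹ * x * g, (h _).2 (by rwa [show g * (g⁻¹ * x * g) * g⁻¹ = x by group]), by simp [mul_assoc]⟩)
    rintro _ ⟨x, hx, rfl⟩
    exact (h x).1 hx
  · intro h x
    constructor
    · intro hx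
      rw [← SetLike.mem_coe, ← h]; exact ⟨x, hx, rfl⟩
    · intro hx
      rw [← SetLike.mem_coe, ← h] at hx
      obtain ⟨y, hy, e⟩ := hx
      simp at e
      exact e ▸ hy

theorem map_conj_one (V : Subgroup G) : V.map (MulAut.conj (1 : G)).toMonoidHom = V := by
  rw [show (MulAut.conj (1 : G)).toMonoidHom = MonoidHom.id G from MonoidHom.ext fun x => by simp,
    Subgroup.map_id]

/-- The conjugates of a subgroup. -/
def conjSet (V : Subgroup G) : Set (Subgroup G) :=
  {W | ∃ g : G, W = V.map (MulAut.conj g).toMonoidHom}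

theorem card_conjSet_mul [Finite G] (V : Subgroup G) :
    Nat.card (conjSet V) * Nat.card (Subgroup.normalizer (V : Set G)) = Nat.card G := by
  let f : G ⧸ Subgroup.normalizer (V : Set G) → conjSet V := fun q => Quotient.liftOn' q
    (fun g => ⟨V.map (MulAut.conj g).toMonoidHom, g, rfl⟩) (fun a b h => by
      rw [QuotientGroup.leftRel_apply, mem_normalizer_of_map] at h
      apply Subtype.ext
      show V.map (MulAut.conj a).toMonoidHom = V.map (MulAut.conj b).toMonoidHom
      conv_lhs => rw [← h, map_conj_map_conj, mul_inv_cancel_left])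
  have hf : Function.Bijective f := by
    constructor
    · intro a b h
      induction a using QuotientGroup.induction_on with | H a =>
      induction b using QuotientGroup.induction_on with | H b =>
      have e : V.map (MulAut.conj a).toMonoidHom = V.map (MulAut.conj b).toMonoidHom := congrArg Subtype.val h
      refine QuotientGroup.eq.2 (mem_normalizer_of_map.2 ?_)
      rw [← map_conj_map_conj, ← e, map_conj_map_conj, inv_mul_cancel, map_conj_one]
    · rintro ⟨W, g, rfl⟩
      exact ⟨(g : G ⧸ Subgroup.normalizer (V : Set G)), rfl⟩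
  rw [← Nat.card_congr (Equiv.ofBijective f hf)]
  exact (Subgroup.normalizer (V : Set G)).index_mul_card

theorem mem_conjSet_self (V : Subgroup G) : V ∈ conjSet V :=
  ⟨1, (map_conj_one V).symm⟩

theorem card_normalizer_map [Finite G] (V : Subgroup G) (φ : G ≃* G) :
    Nat.card (Subgroup.normalizer ((V.map φ.toMonoidHom : Subgroup G) : Set G)) =
      Nat.card (Subgroup.normalizer (V : Set G)) := by
  rw [← Subgroup.map_equiv_normalizer_eq]
  exact (Nat.card_congr (φ.subgroupMap _).toEquiv).symm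

end General

variable {F : Type*} [Field F] [Fintype F]

theorem isSquare_mul_of_nonsquare (h2 : (2 : F) ≠ 0) {a b : F} (ha : ¬ IsSquare a) (hb : ¬ IsSquare b) :
    IsSquare (a * b) := by
  have hc : ringChar F ≠ 2 := fun h => h2 (by
    have : CharP F 2 := ringChar.eq_iff.1 h
    exact_mod_cast CharP.cast_eq_zero F 2)
  have ha0 : a ≠ 0 := fun h => ha (h ▸ IsSquare.zero)
  have hb0 : b ≠ 0 := fun h => hb (h ▸ IsSquare.zero)
  rw [FiniteField.isSquare_iff hc (mul_ne_zero ha0 hb0), mul_pow,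
    (FiniteField.pow_dichotomy hc ha0).resolve_left fun h => ha ((FiniteField.isSquare_iff hc ha0).2 h),
    (FiniteField.pow_dichotomy hc hb0).resolve_left fun h => hb ((FiniteField.isSquare_iff hc hb0).2 h)]
  simp

omit [Fintype F] in
theorem exists_conj_of_det_square (g : GL (Fin 2) F) (h : IsSquare (g : Matrix (Fin 2) (Fin 2) F).det) :
    ∃ a : ProjectiveSpecialLinearGroup (Fin 2) F, (pslConj g).toMonoidHom = (MulAut.conj a).toMonoidHom := by
  obtain ⟨r, hr⟩ := h
  have hr0 : r ≠ 0 := fun h => GeneralLinearGroup.det_ne_zero g (by rw [hr, h, mul_zero])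
  let A : SL(2, F) := ⟨r⁻¹ • (g : Matrix (Fin 2) (Fin 2) F), by
    rw [Matrix.det_smul, hr, Fintype.card_fin]
    field_simp⟩
  refine ⟨QuotientGroup.mk A, MonoidHom.ext fun x => ProjectiveSpecialLinearGroup.toPGL_injective ?_⟩
  show ProjectiveSpecialLinearGroup.toPGL (pslConj g x) =
    ProjectiveSpecialLinearGroup.toPGL ((A : ProjectiveSpecialLinearGroup (Fin 2) F) * x * (A : ProjectiveSpecialLinearGroup (Fin 2) F)⁻¹)
  have hA : ProjectiveSpecialLinearGroup.toPGL (A : ProjectiveSpecialLinearGroup (Fin 2) F) = QuotientGroup.mk g := by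
    rw [ProjectiveSpecialLinearGroup.toPGL_mk]
    refine mk_eq_of_smul (Units.mk0 r hr0) ?_
    show (g : Matrix (Fin 2) (Fin 2) F) = r • (r⁻¹ • (g : Matrix (Fin 2) (Fin 2) F))
    rw [smul_smul, mul_inv_cancel₀ hr0, one_smul]
  rw [toPGL_pslConj, map_mul, map_mul, map_inv, hA]
  rfl

theorem exists_pslConj_kleinFour (h2 : (2 : F) ≠ 0)
    {V W : Subgroup (ProjectiveSpecialLinearGroup (Fin 2) F)} (hV : IsKleinFour V) (hW : IsKleinFour W) :
    ∃ g : GL (Fin 2) F, W = V.map (pslConj g).toMonoidHom := by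
  have lift : ∀ (U : Subgroup (ProjectiveSpecialLinearGroup (Fin 2) F)), IsKleinFour U →
      ∃ (a b : U) (A B : SL(2, F)), a ≠ 1 ∧ b ≠ 1 ∧ a ≠ b ∧
        (A : ProjectiveSpecialLinearGroup (Fin 2) F) = a ∧ (B : ProjectiveSpecialLinearGroup (Fin 2) F) = b ∧
        trc A = 0 ∧ trc B = 0 ∧ trc (A * B) = 0 := by
    intro U hU
    obtain ⟨a, b, ha, hb, hab⟩ := exists_klein_pair U
    obtain ⟨A, hA⟩ := QuotientGroup.mk_surjective (a : ProjectiveSpecialLinearGroup (Fin 2) F)
    obtain ⟨B, hB⟩ := QuotientGroup.mk_surjective (b : ProjectiveSpecialLinearGroup (Fin 2) F)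
    have hinv : ∀ (u : U) (X : SL(2, F)), u ≠ 1 →
        (X : ProjectiveSpecialLinearGroup (Fin 2) F) = u → trc X = 0 := fun u X hu hX =>
      trc_zero_of_invol (fun h => hu (Subtype.ext (hX.symm.trans h)))
        (by rw [hX, pow_two]; exact congrArg Subtype.val (IsKleinFour.mul_self u))
    refine ⟨a, b, A, B, ha, hb, hab, hA, hB, hinv a A ha hA, hinv b B hb hB, hinv (a * b) (A * B) ?_ ?_⟩
    · exact fun h => hab ((eq_inv_of_mul_eq_one_left h).trans (IsKleinFour.inv_eq_self b))
    · rw [QuotientGroup.mk_mul, hA, hB]; rfl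
  obtain ⟨a, b, A, B, ha, hb, hab, hA, hB, tA, tB, tAB⟩ := lift V hV
  obtain ⟨a', b', A', B', ha', hb', hab', hA', hB', tA', tB', tAB'⟩ := lift W hW
  have h4 : (4 : F) ≠ 0 := by rw [show (4 : F) = 2 * 2 by norm_num]; exact mul_ne_zero h2 h2
  obtain ⟨g, g1, g2⟩ := exists_pslConj_of_lifts tA tA' (tB'.trans tB.symm) (tAB'.trans tAB.symm)
    (by rw [tAB, tB]; simpa using h4.symm)
  rw [hA, hA'] at g1; rw [hB, hB'] at g2
  refine ⟨g, Subgroup.eq_of_le_of_card_ge ?_ (by rw [card_map_pslConj, hV.card_four, hW.card_four])⟩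
  intro z hz
  have ma : (a' : ProjectiveSpecialLinearGroup (Fin 2) F) ∈ V.map (pslConj g).toMonoidHom := ⟨a, a.2, g1⟩
  have mb : (b' : ProjectiveSpecialLinearGroup (Fin 2) F) ∈ V.map (pslConj g).toMonoidHom := ⟨b, b.2, g2⟩
  by_cases h1 : (⟨z, hz⟩ : W) = 1
  · rw [show z = 1 from congrArg Subtype.val h1]; exact one_mem _
  by_cases h2' : (⟨z, hz⟩ : W) = a'
  · rw [show z = (a' : ProjectiveSpecialLinearGroup (Fin 2) F) from congrArg Subtype.val h2']; exact ma
  by_cases h3 : (⟨z, hz⟩ : W) = b'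
  · rw [show z = (b' : ProjectiveSpecialLinearGroup (Fin 2) F) from congrArg Subtype.val h3]; exact mb
  rw [show z = (a' : ProjectiveSpecialLinearGroup (Fin 2) F) * b' from
    congrArg Subtype.val (IsKleinFour.eq_mul_of_ne_all ha' hb' hab' h1 h2' h3)]
  exact mul_mem ma mb

/-- The normal four-group of the symmetric group of degree four. -/
def kleinPerm : Subgroup (Equiv.Perm (Fin 4)) where
  carrier := {σ | σ = 1 ∨ σ = Equiv.swap 0 1 * Equiv.swap 2 3 ∨ σ = Equiv.swap 0 2 * Equiv.swap 1 3 ∨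
    σ = Equiv.swap 0 3 * Equiv.swap 1 2}
  one_mem' := Or.inl rfl
  mul_mem' := by
    rintro a b (rfl | rfl | rfl | rfl) (rfl | rfl | rfl | rfl) <;>
      simp only [Set.mem_setOf_eq] <;> decide +kernel
  inv_mem' := by
    rintro a (rfl | rfl | rfl | rfl) <;> simp only [Set.mem_setOf_eq] <;> decide +kernel

instance : DecidablePred (· ∈ kleinPerm) := fun σ =>
  inferInstanceAs (Decidable (σ = 1 ∨ σ = _ ∨ σ = _ ∨ σ = _))

theorem isKleinFour_kleinPerm : IsKleinFour kleinPerm := by
  have hcard : Nat.card kleinPerm = 4 := by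
    rw [Nat.card_eq_fintype_card]; decide +kernel
  have : Nontrivial kleinPerm := Finite.one_lt_card_iff_nontrivial.1 (by rw [hcard]; norm_num)
  refine ⟨hcard, (Monoid.exponent_eq_prime_iff Nat.prime_two).2 fun x hx => orderOf_eq_prime ?_ hx⟩
  · exact (by decide +kernel : ∀ x : kleinPerm, x ^ 2 = 1) x

theorem normalizer_kleinPerm : Subgroup.normalizer (kleinPerm : Set (Equiv.Perm (Fin 4))) = ⊤ := by
  refine eq_top_iff.2 fun g _ => Subgroup.mem_normalizer_iff.2 ?_
  exact (by decide +kernel : ∀ g h : Equiv.Perm (Fin 4), h ∈ kleinPerm ↔ g * h * g⁻¹ ∈ kleinPerm) g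

theorem exists_kleinFour {q : ℕ} (hF : Fintype.card F = q) (hodd : Odd q) :
    ∃ V : Subgroup (ProjectiveSpecialLinearGroup (Fin 2) F), IsKleinFour V := by
  have h := twelve_mul_card_kleinFour (F := F) hF hodd
  have hpos : 0 < Nat.card (ProjectiveSpecialLinearGroup (Fin 2) F) := Nat.card_pos
  obtain ⟨⟨V, hV⟩⟩ : Nonempty {V : Subgroup (ProjectiveSpecialLinearGroup (Fin 2) F) // IsKleinFour V} :=
    (Nat.card_pos_iff.1 (by omega)).1
  exact ⟨V, hV⟩

theorem kleinFour_classes {q : ℕ} (hF : Fintype.card F = q) (hodd : Odd q) :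
    ((q % 8 = 3 ∨ q % 8 = 5) → ∀ V W : Subgroup (ProjectiveSpecialLinearGroup (Fin 2) F), IsKleinFour V → IsKleinFour W → ∃ g : ProjectiveSpecialLinearGroup (Fin 2) F, W = V.map (MulAut.conj g).toMonoidHom) ∧
    ((q % 8 = 1 ∨ q % 8 = 7) → ∃ V₁ V₂ : Subgroup (ProjectiveSpecialLinearGroup (Fin 2) F), IsKleinFour V₁ ∧ IsKleinFour V₂ ∧ (¬ ∃ g : ProjectiveSpecialLinearGroup (Fin 2) F, V₂ = V₁.map (MulAut.conj g).toMonoidHom) ∧ ∀ W : Subgroup (ProjectiveSpecialLinearGroup (Fin 2) F), IsKleinFour W → (∃ g : ProjectiveSpecialLinearGroup (Fin 2) F, W = V₁.map (MulAut.conj g).toMonoidHom) ∨ (∃ g : ProjectiveSpecialLinearGroup (Fin 2) F, W = V₂.map (MulAut.conj g).toMonoidHom)) := by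
  classical
  have h2 := two_ne_zero_of_odd (F := F) (hF ▸ hodd)
  have hc2 : ringChar F ≠ 2 := fun h => h2 (by
    have : CharP F 2 := ringChar.eq_iff.1 h
    exact_mod_cast CharP.cast_eq_zero F 2)
  obtain ⟨d, hd⟩ := FiniteField.exists_nonsquare hc2
  have hd0 : d ≠ 0 := fun h => hd (h ▸ IsSquare.zero)
  let δ : GL (Fin 2) F := GeneralLinearGroup.mkOfDetNeZero !![d, 0; 0, 1] (by simp [hd0])
  have hδ : (δ : Matrix (Fin 2) (Fin 2) F).det = d := by simp [δ, Matrix.det_fin_two_of]
  obtain ⟨V₀, hV₀⟩ := exists_kleinFour hF hodd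
  set V₁ := V₀.map (pslConj δ).toMonoidHom with hV₁def
  have hV₁ : IsKleinFour V₁ := isKleinFour_map hV₀ _ (pslConj δ).injective
  have hall : ∀ W : Subgroup (ProjectiveSpecialLinearGroup (Fin 2) F), IsKleinFour W → W ∈ conjSet V₀ ∨ W ∈ conjSet V₁ := by
    intro W hW
    obtain ⟨g, hg⟩ := exists_pslConj_kleinFour h2 hV₀ hW
    by_cases hsq : IsSquare (g : Matrix (Fin 2) (Fin 2) F).det
    · obtain ⟨a, ha⟩ := exists_conj_of_det_square g hsq
      exact Or.inl ⟨a, by rw [← ha]; exact hg⟩
    · obtain ⟨a, ha⟩ := exists_conj_of_det_square (g * δ⁻¹) (by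
        have e : ((g * δ⁻¹ : GL (Fin 2) F) : Matrix (Fin 2) (Fin 2) F).det =
            (g : Matrix (Fin 2) (Fin 2) F).det * d * (d⁻¹ * d⁻¹) := by
          rw [GeneralLinearGroup.coe_mul, Matrix.det_mul, Matrix.coe_units_inv, Matrix.det_nonsing_inv, hδ,
            Ring.inverse_eq_inv]
          field_simp
        rw [e]
        exact (isSquare_mul_of_nonsquare h2 hsq hd).mul (IsSquare.mul_self _))
      refine Or.inr ⟨a, ?_⟩
      rw [← ha, hg, hV₁def, Subgroup.map_map]
      congr 1
      refine MonoidHom.ext fun x => ?_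
      show pslConj g x = pslConj (g * δ⁻¹) (pslConj δ x)
      rw [← pslConj_mul, inv_mul_cancel_right]
  have h12 := twelve_mul_card_kleinFour (F := F) hF hodd
  set K := {V : Subgroup (ProjectiveSpecialLinearGroup (Fin 2) F) | IsKleinFour V} with hKdef
  have hK : Nat.card {V : Subgroup (ProjectiveSpecialLinearGroup (Fin 2) F) // IsKleinFour V} = K.ncard := Nat.card_coe_set_eq K
  have hsub : ∀ V : Subgroup (ProjectiveSpecialLinearGroup (Fin 2) F), IsKleinFour V → conjSet V ⊆ K := by
    rintro V hV W ⟨g, rfl⟩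
    exact isKleinFour_map hV _ (MulAut.conj g).injective
  have hKu : K = conjSet V₀ ∪ conjSet V₁ := Set.Subset.antisymm (fun W hW => hall W hW)
    (Set.union_subset (hsub _ hV₀) (hsub _ hV₁))
  have hN1 : Nat.card (Subgroup.normalizer (V₁ : Set (ProjectiveSpecialLinearGroup (Fin 2) F))) = Nat.card (Subgroup.normalizer (V₀ : Set (ProjectiveSpecialLinearGroup (Fin 2) F))) :=
    card_normalizer_map V₀ (pslConj δ)
  set N := Nat.card (Subgroup.normalizer (V₀ : Set (ProjectiveSpecialLinearGroup (Fin 2) F))) with hN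
  have o0 := card_conjSet_mul V₀
  have o1 := card_conjSet_mul V₁
  rw [hN1, Nat.card_coe_set_eq] at o1
  rw [← hN, Nat.card_coe_set_eq] at o0
  rw [hK] at h12
  have hpos : 0 < Nat.card (ProjectiveSpecialLinearGroup (Fin 2) F) := Nat.card_pos
  have hNeq : ∀ W : Subgroup (ProjectiveSpecialLinearGroup (Fin 2) F), IsKleinFour W → Nat.card (Subgroup.normalizer (W : Set (ProjectiveSpecialLinearGroup (Fin 2) F))) = N := by
    intro W hW
    rcases hall W hW with ⟨g, rfl⟩ | ⟨g, rfl⟩
    · exact card_normalizer_map V₀ (MulAut.conj g)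
    · exact (card_normalizer_map V₁ (MulAut.conj g)).trans hN1
  have hsame : V₁ ∈ conjSet V₀ → N = 12 := by
    rintro ⟨a, ha⟩
    have e : conjSet V₁ ⊆ conjSet V₀ := by
      rintro W ⟨g, rfl⟩
      exact ⟨g * a, by rw [ha, map_conj_map_conj]⟩
    rw [hKu, Set.union_eq_left.2 e, ← o0, mul_comm] at h12
    exact (Nat.eq_of_mul_eq_mul_left (Nat.pos_of_ne_zero fun h => by rw [h] at o0; omega) h12).symm
  have hdiff : V₁ ∉ conjSet V₀ → N = 24 := by
    intro hne
    have hdis : Disjoint (conjSet V₀) (conjSet V₁) := by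
      refine Set.disjoint_left.2 fun W ⟨g, hg⟩ ⟨h, hh⟩ => hne ⟨h⁻¹ * g, ?_⟩
      rw [← map_conj_map_conj, ← hg, hh, map_conj_map_conj, inv_mul_cancel, map_conj_one]
    have e : (conjSet V₁).ncard = (conjSet V₀).ncard := by
      refine Nat.eq_of_mul_eq_mul_right ?_ (o1.trans o0.symm)
      exact Nat.pos_of_ne_zero fun h => by rw [h, mul_zero] at o0; omega
    rw [hKu, Set.ncard_union_eq hdis, e, ← o0, ← two_mul, ← mul_assoc, mul_comm] at h12
    exact (Nat.eq_of_mul_eq_mul_left (Nat.pos_of_ne_zero fun h => by rw [h] at o0; omega) h12).symm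
  refine ⟨fun h8 V W hV hW => ?_, fun h8 => ?_⟩
  · have hin : V₁ ∈ conjSet V₀ := by
      by_contra hne
      have h24 : 24 ∣ Nat.card (ProjectiveSpecialLinearGroup (Fin 2) F) := hdiff hne ▸ hN ▸ (Subgroup.normalizer (V₀ : Set (ProjectiveSpecialLinearGroup (Fin 2) F))).card_subgroup_dvd_card
      have hG := gcd_mul_card_psl (F := F) hF
      have hq8 : q ^ 2 % 16 = 9 := by
        rw [pow_two, Nat.mul_mod]
        have e : q % 8 = q % 16 % 8 := (Nat.mod_mod_of_dvd q (by norm_num)).symm
        have hlt : q % 16 < 16 := Nat.mod_lt _ (by norm_num)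
        generalize q % 16 = r at e hlt ⊢
        interval_cases r <;> omega
      rw [Nat.gcd_eq_left (Nat.dvd_of_mod_eq_zero (by omega) : 2 ∣ q - 1)] at hG
      obtain ⟨t, ht⟩ := h24
      obtain ⟨s, hs⟩ : ∃ s, q ^ 2 - 1 = 16 * s + 8 := ⟨(q ^ 2 - 9) / 16, by omega⟩
      change 2 * Nat.card (ProjectiveSpecialLinearGroup (Fin 2) F) = _ at hG
      rw [ht, hs] at hG
      obtain ⟨u, hu⟩ := hodd
      rw [hu, show (2 * u + 1) * (16 * s + 8) = 16 * ((2 * u + 1) * s + u) + 8 by ring] at hG
      omega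
    obtain ⟨a, ha⟩ := hin
    have : ∀ W : Subgroup (ProjectiveSpecialLinearGroup (Fin 2) F), IsKleinFour W → W ∈ conjSet V₀ := fun W hW => (hall W hW).elim id
      fun ⟨g, hg⟩ => ⟨g * a, by rw [hg, ha, map_conj_map_conj]⟩
    obtain ⟨x, rfl⟩ := this V hV
    obtain ⟨y, rfl⟩ := this W hW
    exact ⟨y * x⁻¹, by rw [map_conj_map_conj, inv_mul_cancel_right]⟩
  · refine ⟨V₀, V₁, hV₀, hV₁, fun hin => ?_, hall⟩
    obtain ⟨H, ⟨φ⟩⟩ := (perm_four_iff hF).2 (sixteen_of_mod h8)
    let j : Equiv.Perm (Fin 4) →* (ProjectiveSpecialLinearGroup (Fin 2) F) := H.subtype.comp φ.symm.toMonoidHom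
    have hj : Function.Injective j := H.subtype_injective.comp φ.symm.injective
    have hle : (⊤ : Subgroup (Equiv.Perm (Fin 4))).map j ≤
        Subgroup.normalizer ((kleinPerm.map j : Subgroup (ProjectiveSpecialLinearGroup (Fin 2) F)) : Set (ProjectiveSpecialLinearGroup (Fin 2) F)) := by
      rw [← normalizer_kleinPerm]; exact Subgroup.le_normalizer_map j
    have hc := Subgroup.card_le_of_le hle
    rw [hNeq _ (isKleinFour_map isKleinFour_kleinPerm j hj), hsame hin,
      ← Nat.card_congr ((⊤ : Subgroup (Equiv.Perm (Fin 4))).equivMapOfInjective j hj).toEquiv,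
      Subgroup.card_top, natCard_perm_four] at hc
    omega

/-! ### Subgroups of order four of `SL(2, q)` -/

omit [Fintype F] in
theorem eq_neg_one_of_involution (h2 : (2 : F) ≠ 0) {z : SL(2, F)} (hz : z * z = 1) (h1 : z ≠ 1) :
    z = -1 := by
  by_cases hs : IsScalar z
  · have hc : z ∈ Subgroup.center SL(2, F) :=
      not_not.1 fun h => Trace.not_isScalar_iff_not_mem_center.2 h hs
    exact ((CfsgLib.Known.SL2ClassSizes.mem_center_iff' z).1 hc).resolve_left h1
  · exfalso
    have h := congrArg (fun M : SL(2, F) => M.1) hz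
    simp only [coe_mul', sl_sq] at h
    have e01 := congrFun (congrFun h 0) 1
    have e10 := congrFun (congrFun h 1) 0
    have e00 := congrFun (congrFun h 0) 0
    have e11 := congrFun (congrFun h 1) 1
    simp at e01 e10 e00 e11
    rcases eq_or_ne (trc z) 0 with h0 | h0
    · rw [h0, zero_mul, zero_sub] at e00
      exact h2 (by linear_combination -e00)
    · exact hs ⟨e01.resolve_left h0, e10.resolve_left h0, mul_left_cancel₀ h0 (by linear_combination e00 - e11)⟩

theorem order_four_subgroups {q : ℕ} (hF : Fintype.card F = q) (hodd : Odd q) (A : Subgroup SL(2, F))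
    (hA : Nat.card A = 4) :
    (∀ B : Subgroup SL(2, F), Nat.card B = 4 → ∃ g : SL(2, F), B = A.map (MulAut.conj g).toMonoidHom) ∧
    (q % 4 = 1 → Nat.card ↥(Subgroup.normalizer (A : Set SL(2, F))) = 2 * (q - 1)) ∧
    (q % 4 = 3 → Nat.card ↥(Subgroup.normalizer (A : Set SL(2, F))) = 2 * (q + 1)) ∧
    (∀ x y : ProjectiveSpecialLinearGroup (Fin 2) F, orderOf x = 2 → orderOf y = 2 → IsConj x y) := by
  classical
  have h2 := two_ne_zero_of_odd (F := F) (hF ▸ hodd)
  have hgen : ∀ B : Subgroup SL(2, F), Nat.card B = 4 →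
      ∃ b : SL(2, F), B = Subgroup.zpowers b ∧ trc b = 0 ∧ b * b = -1 ∧ orderOf b = 4 := by
    intro B hB
    obtain ⟨b, hbB, hb⟩ : ∃ b ∈ B, b * b ≠ 1 := by
      by_contra! hall
      have hsub : ∀ x : B, (x : SL(2, F)) = 1 ∨ (x : SL(2, F)) = -1 := fun x =>
        or_iff_not_imp_left.2 fun h => eq_neg_one_of_involution h2 (hall x x.2) h
      have h1 : Nat.card B ≤ Nat.card Bool := Nat.card_le_card_of_injective
        (fun x : B => decide ((x : SL(2, F)) = 1)) fun x y h => Subtype.ext (by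
          simp at h
          rcases hsub x with hx | hx <;> rcases hsub y with hy | hy
          · rw [hx, hy]
          · exact absurd (hy.symm.trans (congrArg Subtype.val (h.1 (Subtype.ext hx)))) (neg_ne_self h2 1)
          · exact absurd (hx.symm.trans (congrArg Subtype.val (h.2 (Subtype.ext hy)))) (neg_ne_self h2 1)
          · rw [hx, hy])
      rw [hB, Nat.card_eq_fintype_card, Fintype.card_bool] at h1
      omega
    have ho : orderOf b = 4 := by
      have h : orderOf b ∣ 4 := hB ▸ Subgroup.orderOf_dvd_natCard _ hbB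
      rcases (Nat.dvd_prime_pow Nat.prime_two).1 (show orderOf b ∣ 2 ^ 2 by norm_num; exact h) with ⟨i, hi, e⟩
      interval_cases i
      · exact absurd (by rw [orderOf_eq_one_iff.1 (e.trans (pow_zero 2)), one_mul]) hb
      · have h' := pow_orderOf_eq_one b
        rw [e, pow_one, pow_two] at h'
        exact absurd h' hb
      · rw [e]; norm_num
    have hbb : b * b = -1 := eq_neg_one_of_involution h2
      (by rw [← pow_two, ← pow_two, ← pow_mul, show 2 * 2 = orderOf b by rw [ho], pow_orderOf_eq_one]) hb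
    refine ⟨b, (Subgroup.eq_of_le_of_card_ge ((Subgroup.zpowers_le).2 hbB)
      (by rw [hB, Nat.card_zpowers, ho])).symm, ?_, hbb, ho⟩
    have h := trc_mul_self b
    rw [hbb, trc_neg', show trc (1 : SL(2, F)) = 2 by simp [trc]; norm_num] at h
    exact sq_eq_zero_iff.1 (by linear_combination -h)
  obtain ⟨a, hAa, ta, haa, hao⟩ := hgen A hA
  have hneg : a⁻¹ = -a := inv_eq_of_mul_eq_one_right (by rw [mul_neg, haa, neg_neg])
  refine ⟨fun B hB => ?_, ?_⟩
  · obtain ⟨b, hBb, tb, -, -⟩ := hgen B hB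
    obtain ⟨g, hg⟩ := conj_trace_zero h2 ta tb
    refine ⟨g, ?_⟩
    rw [hAa, hBb, MonoidHom.map_zpowers, ← hg]
    rfl
  have hnorm : Subgroup.normalizer (A : Set SL(2, F)) = CfsgLib.Known.SL2ClassSizes.pre a := by
    ext y
    rw [mem_normalizer_of_map, CfsgLib.Known.SL2ClassSizes.mem_pre, hAa, MonoidHom.map_zpowers]
    show Subgroup.zpowers (y * a * y⁻¹) = _ ↔ _
    constructor
    · intro h
      have hm : y * a * y⁻¹ ∈ Subgroup.zpowers a := h ▸ Subgroup.mem_zpowers _
      have hfo : IsOfFinOrder a := isOfFinOrder_of_finite a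
      obtain ⟨i, hi⟩ := hfo.mem_powers_iff_mem_zpowers.2 hm
      simp only at hi
      rw [← pow_mod_orderOf a i, hao] at hi
      have hlt : i % 4 < 4 := Nat.mod_lt _ (by norm_num)
      have hyo : orderOf (y * a * y⁻¹) = 4 := by
        rw [show y * a * y⁻¹ = MulAut.conj y a from rfl, MulEquiv.orderOf_eq, hao]
      generalize i % 4 = r at hi hlt
      interval_cases r
      · rw [← hi, pow_zero, orderOf_one] at hyo; norm_num at hyo
      · exact Or.inl (by rw [← hi, pow_one])
      · rw [← hi] at hyo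
        have := orderOf_dvd_of_pow_eq_one (show (a ^ 2) ^ 2 = 1 by
          rw [← pow_mul, show 2 * 2 = orderOf a by rw [hao], pow_orderOf_eq_one])
        rw [hyo] at this; norm_num at this
      · exact Or.inr (by rw [← hi, pow_succ, pow_two, haa, neg_mul, one_mul])
    · rintro (h | h) <;> rw [h]
      rw [← hneg, Subgroup.zpowers_inv]
  obtain ⟨w, hw⟩ := conj_trace_zero h2 ta (show trc (-a) = 0 by rw [trc_neg', ta, neg_zero])
  set C := Subgroup.centralizer ({a} : Set SL(2, F)) with hC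
  have hCle : C ≤ CfsgLib.Known.SL2ClassSizes.pre a := CfsgLib.Known.SL2ClassSizes.centralizer_le_pre a
  have hN2 : Nat.card (Subgroup.normalizer (A : Set SL(2, F))) = 2 * Nat.card C := by
    rw [hnorm]
    have hidx : (C.subgroupOf (CfsgLib.Known.SL2ClassSizes.pre a)).index = 2 := by
      refine Subgroup.index_eq_two_iff.2 ⟨⟨w, CfsgLib.Known.SL2ClassSizes.mem_pre.2 (Or.inr hw)⟩, fun b => ?_⟩
      simp only [Subgroup.mem_subgroupOf, Subgroup.coe_mul, hC, Subgroup.mem_centralizer_singleton_iff,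
        ← mul_inv_eq_iff_eq_mul]
      have key : (b : SL(2, F)) * w * a * ((b : SL(2, F)) * w)⁻¹ = -((b : SL(2, F)) * a * (b : SL(2, F))⁻¹) := by
        rw [show (b : SL(2, F)) * w * a * ((b : SL(2, F)) * w)⁻¹ =
          (b : SL(2, F)) * (w * a * w⁻¹) * (b : SL(2, F))⁻¹ by group, hw, mul_neg, neg_mul]
      rw [key]
      rcases CfsgLib.Known.SL2ClassSizes.mem_pre.1 b.2 with h | h <;> rw [h]
      · exact Or.inr ⟨rfl, neg_ne_self h2 a⟩
      · exact Or.inl ⟨neg_neg a, neg_ne_self h2 a⟩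
    rw [← (C.subgroupOf (CfsgLib.Known.SL2ClassSizes.pre a)).index_mul_card, hidx,
      Nat.card_congr (Subgroup.subgroupOfEquivOfLe hCle).toEquiv]
  have hq2 : 2 ≤ q := hF ▸ Fintype.one_lt_card
  have hval : (q % 4 = 1 → Nat.card C = q - 1) ∧ (q % 4 = 3 → Nat.card C = q + 1) := by
    have hneg1 : IsSquare (-1 : F) ↔ q % 4 ≠ 3 := hF ▸ FiniteField.isSquare_neg_one_iff
    rcases CfsgLib.Known.SL2ClassSizes.cases_conj a with h | ⟨h, b, -, hc⟩ | ⟨h, x, hx, hc⟩ | he
    · exfalso
      rcases h with rfl | rfl <;> simp [trc] at ta <;>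
        first | exact h2 (by linear_combination ta) | exact h2 (by linear_combination -ta)
    · exfalso
      have e : trc (h * a * h⁻¹) = 0 := by rw [Trace.trc_conj, ta]
      rcases hc with hc | hc <;> rw [hc] at e <;> simp [trc] at e <;>
        first | exact h2 (by linear_combination e) | exact h2 (by linear_combination -e)
    · have e : trc (h * a * h⁻¹) = 0 := by rw [Trace.trc_conj, ta]
      rw [hc] at e
      simp [trc] at e
      have hsq : IsSquare (-1 : F) := ⟨x, by
        have hx0 : (x : F) ≠ 0 := x.ne_zero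
        have : (x : F) * ((x : F) + ((x : F))⁻¹) = 0 := by rw [e, mul_zero]
        field_simp at this
        linear_combination -this⟩
      have hcard : Nat.card C = q - 1 := by
        rw [hC, Nat.card_congr ((Subgroup.centralizer ({a} : Set SL(2, F))).equivMapOfInjective
          (MulAut.conj h).toMonoidHom (MulAut.conj h).injective).toEquiv]
        have := CfsgLib.SL2Char.map_conj_centralizer h a
        rw [this, hc, CfsgLib.Known.SL2ClassSizes.card_diagS hx, hF]
      exact ⟨fun _ => hcard, fun h3 => absurd h3 (hneg1.1 hsq)⟩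
    · refine ⟨fun h1 => ?_, fun _ => by rw [hC, CfsgLib.SL2Char.card_centralizer_SL he, hF]⟩
      exfalso
      obtain ⟨i, hi⟩ := hneg1.2 (by omega)
      have hd := Trace.det_eq a
      have h11 : a.1 1 1 = -a.1 0 0 := by rw [trc] at ta; linear_combination ta
      rw [h11] at hd
      by_cases h01 : a.1 0 1 = 0
      · refine he (a.1 1 1) ![0, 1] (by intro h; simpa using congrFun h 1) ?_
        ext k; fin_cases k <;> simp [Matrix.mulVec, dotProduct, Fin.sum_univ_two, h01]
      · refine he i ![a.1 0 1, i - a.1 0 0] (by intro h; exact h01 (by simpa using congrFun h 0)) ?_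
        ext k; fin_cases k <;> simp [Matrix.mulVec, dotProduct, Fin.sum_univ_two, h11]
        · ring
        · linear_combination -hd + hi
  refine ⟨fun h => by rw [hN2, hval.1 h], fun h => by rw [hN2, hval.2 h], fun x y hx hy => ?_⟩
  have lift : ∀ z : ProjectiveSpecialLinearGroup (Fin 2) F, orderOf z = 2 →
      ∃ Z : SL(2, F), (Z : ProjectiveSpecialLinearGroup (Fin 2) F) = z ∧ trc Z = 0 := fun z hz => by
    obtain ⟨Z, rfl⟩ := QuotientGroup.mk_surjective z
    refine ⟨Z, rfl, trc_zero_of_invol (fun h => ?_) (by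
      have h' := pow_orderOf_eq_one (Z : ProjectiveSpecialLinearGroup (Fin 2) F)
      rwa [hz] at h')⟩
    rw [h, orderOf_one] at hz; norm_num at hz
  obtain ⟨X, rfl, tX⟩ := lift x hx
  obtain ⟨Y, rfl, tY⟩ := lift y hy
  obtain ⟨g, hg⟩ := conj_trace_zero h2 tX tY
  exact isConj_iff.2 ⟨g, by rw [← QuotientGroup.mk_inv, ← QuotientGroup.mk_mul, ← QuotientGroup.mk_mul, hg]⟩

end CfsgLib.Classical.Dickson
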