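import Cfsg.Agent.Lib.Classical.Dickson.Classify

/-!
Four-groups of `PSL(2, q)` and subgroups of order four of `SL(2, q)`, `q` odd.
-/

set_option autoImplicit false

namespace CfsgLib.Classical.Dickson

open Matrix
open CfsgLib.Classical.Trace (trc IsScalar NormSurj)
open scoped LinearAlgebra.Projectivization MatrixGroups commutatorElement

variable {F : Type*} [Field F]

/-! ### Trace zero -/

/-- The standard element of order four. -/
def rot : SL(2, F) := ⟨!![0, 1; -1, 0], by simp [Matrix.det_fin_two_of]⟩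

theorem rot_coe : (rot (F := F)).1 = !![0, 1; -1, 0] := rfl

theorem trc_rot : trc (rot (F := F)) = 0 := by simp [rot, trc]

theorem normSurj_zero [Fintype F] (h2 : (2 : F) ≠ 0) : NormSurj (0 : F) := fun d => by
  have hodd : Fintype.card F % 2 = 1 := FiniteField.odd_card_of_char_ne_two fun h => h2 (by
    have : CharP F 2 := ringChar.eq_iff.1 h
    exact_mod_cast CharP.cast_eq_zero F 2)
  obtain ⟨a, b, h⟩ := FiniteField.exists_root_sum_quadratic (R := F) (f := Polynomial.X ^ 2)
    (g := Polynomial.X ^ 2 - Polynomial.C d) (Polynomial.degree_X_pow 2)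
    (Polynomial.degree_X_pow_sub_C two_pos d) hodd
  refine ⟨a, b, ?_⟩
  simp at h
  linear_combination h

theorem conj_trace_zero [Fintype F] (h2 : (2 : F) ≠ 0) {A B : SL(2, F)} (hA : trc A = 0) (hB : trc B = 0) :
    ∃ g : SL(2, F), g * A * g⁻¹ = B := by
  have h4 : (4 : F) ≠ 0 := by rw [show (4 : F) = 2 * 2 by norm_num]; exact mul_ne_zero h2 h2
  refine Trace.exists_conj (Trace.not_isScalar_of_trc ?_) (Trace.not_isScalar_of_trc ?_) (hB.trans hA.symm)
    (hA ▸ normSurj_zero h2)
  · rw [hA]; simpa using h4.symm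
  · rw [hB]; simpa using h4.symm

theorem neg_ne_self (h2 : (2 : F) ≠ 0) (A : SL(2, F)) : -A ≠ A := fun h => by
  have hd := Trace.det_eq A
  have e : ∀ i j, A.1 i j = 0 := fun i j => by
    have := congrArg (fun M : SL(2, F) => M.1 i j) h
    simp at this
    exact (mul_eq_zero.1 (show (2 : F) * A.1 i j = 0 by linear_combination -this)).resolve_left h2
  simp [e] at hd

theorem eq_or_neg_of_mk {A B : SL(2, F)}
    (h : (A : ProjectiveSpecialLinearGroup (Fin 2) F) = (B : ProjectiveSpecialLinearGroup (Fin 2) F)) :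
    B = A ∨ B = -A := by
  rw [QuotientGroup.eq] at h
  rcases (CfsgLib.Known.SL2ClassSizes.mem_center_iff' _).1 h with e | e
  · exact Or.inl (inv_mul_eq_one.1 e).symm
  · exact Or.inr (by rw [inv_mul_eq_iff_eq_mul.1 e, mul_neg, mul_one])

theorem trc_mul_self (A : SL(2, F)) : trc (A * A) = trc A ^ 2 - 2 := by
  rw [trc, coe_mul', sl_sq]
  simp [trc]
  ring

/-- Pairs of anticommuting elements of trace zero. -/
abbrev TracePair (F : Type*) [Field F] :=
  {x : SL(2, F) × SL(2, F) // trc x.1 = 0 ∧ trc x.2 = 0 ∧ trc (x.1 * x.2) = 0}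

theorem card_trace_pair [Fintype F] (h2 : (2 : F) ≠ 0) :
    Nat.card (TracePair F) = Nat.card SL(2, F) := by
  classical
  obtain ⟨x₀, y₀, h₀⟩ := exists_sq_add_sq_eq_neg_one (F := F)
  -- the centraliser of the standard element
  let C : Subgroup SL(2, F) := Subgroup.centralizer ({rot} : Set SL(2, F))
  have hC : ∀ y, y ∈ C → y.1 1 1 = y.1 0 0 ∧ y.1 1 0 = -y.1 0 1 := fun y hy => by
    have h := congrArg (fun M : SL(2, F) => M.1) (Subgroup.mem_centralizer_singleton_iff.1 hy)
    have e0 := congrFun (congrFun h 0) 0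
    have e1 := congrFun (congrFun h 0) 1
    simp [rot_coe, Matrix.mul_apply, Fin.sum_univ_two] at e0 e1
    exact ⟨by linear_combination -e1, by linear_combination -e0⟩
  have htrc : ∀ M : SL(2, F), trc (rot * M) = M.1 1 0 - M.1 0 1 := fun M => by
    simp [trc, rot_coe, Matrix.mul_apply, Fin.sum_univ_two]
    ring
  have hcm : ∀ M : SL(2, F), M.1 1 1 = M.1 0 0 → M.1 1 0 = -M.1 0 1 → M * rot = rot * M := fun M h1 h3 =>
    Subtype.ext (Matrix.ext fun i j => by
      fin_cases i <;> fin_cases j <;> simp [rot_coe, Matrix.mul_apply, Fin.sum_univ_two, h1, h3])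
  -- the fibre over the standard element
  let Fib := {B : SL(2, F) // trc B = 0 ∧ trc (rot * B) = 0}
  have hfib : ∀ B : Fib, B.1.1 1 1 = -B.1.1 0 0 ∧ B.1.1 1 0 = B.1.1 0 1 := fun ⟨B, hB, hWB⟩ => by
    simp [trc, rot_coe, Matrix.mul_apply, Fin.sum_univ_two] at hB hWB
    exact ⟨by linear_combination hB, by linear_combination hWB⟩
  let fw : C → Fib := fun y => ⟨⟨!![y.1.1 0 0 * x₀ - y.1.1 0 1 * y₀, y.1.1 0 0 * y₀ + y.1.1 0 1 * x₀;
      y.1.1 0 0 * y₀ + y.1.1 0 1 * x₀, -(y.1.1 0 0 * x₀ - y.1.1 0 1 * y₀)], by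
      have hd := Trace.det_eq y.1
      rw [(hC y.1 y.2).1, (hC y.1 y.2).2] at hd
      rw [Matrix.det_fin_two_of]
      linear_combination hd + (-1 : F) * (y.1.1 0 0 * y.1.1 0 0 + y.1.1 0 1 * y.1.1 0 1) * h₀⟩,
    by simp [trc], (htrc _).trans (sub_eq_zero.2 rfl)⟩
  have hbij : Function.Bijective fw := by
    constructor
    · intro y y' h
      have e0 := congrArg (fun B : Fib => B.1.1 0 0) h
      have e1 := congrArg (fun B : Fib => B.1.1 0 1) h
      simp [fw] at e0 e1
      have ea : y.1.1 0 0 = y'.1.1 0 0 := by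
        linear_combination -x₀ * e0 - y₀ * e1 + (y.1.1 0 0 - y'.1.1 0 0) * h₀
      have eb : y.1.1 0 1 = y'.1.1 0 1 := by
        linear_combination y₀ * e0 - x₀ * e1 + (y.1.1 0 1 - y'.1.1 0 1) * h₀
      obtain ⟨a1, a2⟩ := hC y.1 y.2
      obtain ⟨b1, b2⟩ := hC y'.1 y'.2
      refine Subtype.ext (Subtype.ext (Matrix.ext fun i j => ?_))
      fin_cases i <;> fin_cases j
      · exact ea
      · exact eb
      · exact a2.trans (by rw [eb]; exact b2.symm)
      · exact a1.trans (by rw [ea]; exact b1.symm)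
    · intro B
      obtain ⟨f1, f2⟩ := hfib B
      have hd := Trace.det_eq B.1
      rw [f1, f2] at hd
      set u := B.1.1 0 0
      set v := B.1.1 0 1
      let y : SL(2, F) := ⟨!![-(u * x₀ + v * y₀), u * y₀ - v * x₀; -(u * y₀ - v * x₀), -(u * x₀ + v * y₀)], by
        rw [Matrix.det_fin_two_of]
        linear_combination hd + (u * u + v * v) * h₀⟩
      have hy : y ∈ C := Subgroup.mem_centralizer_singleton_iff.2 (hcm y (by simp [y]) (by simp [y]))
      refine ⟨⟨y, hy⟩, Subtype.ext (Subtype.ext (Matrix.ext fun i j => ?_))⟩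
      fin_cases i <;> fin_cases j
      · show y.1 0 0 * x₀ - y.1 0 1 * y₀ = B.1.1 0 0
        simp [y]; linear_combination -u * h₀
      · show y.1 0 0 * y₀ + y.1 0 1 * x₀ = B.1.1 0 1
        simp [y]; linear_combination -v * h₀
      · show y.1 0 0 * y₀ + y.1 0 1 * x₀ = B.1.1 1 0
        rw [f2]; simp [y]; linear_combination -v * h₀
      · show -(y.1 0 0 * x₀ - y.1 0 1 * y₀) = B.1.1 1 1
        rw [f1]; simp [y]; linear_combination u * h₀
  -- the trace zero elements
  let T := {A : SL(2, F) // trc A = 0}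
  let orb : SL(2, F) ⧸ C → T := fun q => Quotient.liftOn' q
    (fun g => ⟨g * rot * g⁻¹, by rw [Trace.trc_conj, trc_rot]⟩) (fun a b h => by
      rw [QuotientGroup.leftRel_apply] at h
      have e := Subgroup.mem_centralizer_singleton_iff.1 h
      apply Subtype.ext
      show a * rot * a⁻¹ = b * rot * b⁻¹
      calc a * rot * a⁻¹ = a * (rot * (a⁻¹ * b)) * b⁻¹ := by group
        _ = a * ((a⁻¹ * b) * rot) * b⁻¹ := by rw [e]
        _ = b * rot * b⁻¹ := by group)
  have horb : Function.Bijective orb := by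
    constructor
    · intro a b h
      induction a using QuotientGroup.induction_on with | H a =>
      induction b using QuotientGroup.induction_on with | H b =>
      have e : a * rot * a⁻¹ = b * rot * b⁻¹ := congrArg Subtype.val h
      refine QuotientGroup.eq.2 (Subgroup.mem_centralizer_singleton_iff.2 ?_)
      calc a⁻¹ * b * rot = a⁻¹ * (b * rot * b⁻¹) * b := by group
        _ = a⁻¹ * (a * rot * a⁻¹) * b := by rw [e]
        _ = rot * (a⁻¹ * b) := by group
    · intro A
      obtain ⟨g, hg⟩ := conj_trace_zero h2 (trc_rot (F := F)) A.2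
      exact ⟨(g : SL(2, F) ⧸ C), Subtype.ext hg⟩
  choose c hc using fun A : T => conj_trace_zero h2 (trc_rot (F := F)) A.2
  let sw : T × Fib → TracePair F := fun x => ⟨(x.1.1, c x.1 * x.2.1 * (c x.1)⁻¹), x.1.2,
    by rw [Trace.trc_conj]; exact x.2.2.1, by
      show trc (x.1.1 * (c x.1 * x.2.1 * (c x.1)⁻¹)) = 0
      nth_rewrite 1 [← hc x.1]
      rw [show c x.1 * rot * (c x.1)⁻¹ * (c x.1 * x.2.1 * (c x.1)⁻¹) = c x.1 * (rot * x.2.1) * (c x.1)⁻¹ by group,
        Trace.trc_conj]
      exact x.2.2.2⟩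
  have hsw : Function.Bijective sw := by
    constructor
    · rintro ⟨A, B⟩ ⟨A', B'⟩ h
      have e1 : A = A' := Subtype.ext (congrArg (fun x : TracePair F => x.1.1) h)
      subst e1
      have e2 := congrArg (fun x : TracePair F => x.1.2) h
      simp [sw] at e2
      exact Prod.ext rfl (Subtype.ext e2)
    · rintro ⟨⟨A, B⟩, hA, hB, hAB⟩
      refine ⟨(⟨A, hA⟩, ⟨(c ⟨A, hA⟩)⁻¹ * B * c ⟨A, hA⟩, ?_, ?_⟩), Subtype.ext (Prod.ext rfl ?_)⟩
      · simpa [hB] using Trace.trc_conj (c ⟨A, hA⟩)⁻¹ B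
      · have h := Trace.trc_conj (c ⟨A, hA⟩) (rot * ((c ⟨A, hA⟩)⁻¹ * B * c ⟨A, hA⟩))
        rw [show c ⟨A, hA⟩ * (rot * ((c ⟨A, hA⟩)⁻¹ * B * c ⟨A, hA⟩)) * (c ⟨A, hA⟩)⁻¹ =
          (c ⟨A, hA⟩ * rot * (c ⟨A, hA⟩)⁻¹) * B by group, hc ⟨A, hA⟩] at h
        rw [← h]; exact hAB
      · show c ⟨A, hA⟩ * ((c ⟨A, hA⟩)⁻¹ * B * c ⟨A, hA⟩) * (c ⟨A, hA⟩)⁻¹ = B
        group
  rw [← Nat.card_congr (Equiv.ofBijective _ hsw), Nat.card_prod,
    ← Nat.card_congr (Equiv.ofBijective _ horb), ← Nat.card_congr (Equiv.ofBijective _ hbij),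
    ← C.index_mul_card]
  rfl

/-! ### Four-groups -/

/-- Ordered pairs of distinct commuting involutions. -/
abbrev InvolPair (G : Type*) [Group G] :=
  {x : G × G // x.1 ≠ 1 ∧ x.2 ≠ 1 ∧ x.1 ≠ x.2 ∧ x.1 ^ 2 = 1 ∧ x.2 ^ 2 = 1 ∧ (x.1 * x.2) ^ 2 = 1}

theorem four_mul_card_involPair [Fintype F] (h2 : (2 : F) ≠ 0) :
    4 * Nat.card (InvolPair (ProjectiveSpecialLinearGroup (Fin 2) F)) = Nat.card SL(2, F) := by
  classical
  have hsgn : ∀ A B : SL(2, F), trc A = 0 → B = A ∨ B = -A → trc B = 0 := by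
    rintro A B hA (rfl | rfl)
    · exact hA
    · rw [trc_neg', hA, neg_zero]
  have hlift : ∀ s : InvolPair (ProjectiveSpecialLinearGroup (Fin 2) F),
      trc s.1.1.out = 0 ∧ trc s.1.2.out = 0 ∧ trc (s.1.1.out * s.1.2.out) = 0 := by
    rintro ⟨⟨s, t⟩, hs, ht, hst, hs2, ht2, hst2⟩
    refine ⟨trc_zero_of_invol ?_ ?_, trc_zero_of_invol ?_ ?_, trc_zero_of_invol ?_ ?_⟩ <;>
      simp only [QuotientGroup.mk_mul, QuotientGroup.out_eq']
    all_goals try assumption
    intro h
    exact hst (mul_right_cancel (h.trans ((pow_two t).symm.trans ht2).symm))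
  let sg : Bool → SL(2, F) → SL(2, F) := fun b A => if b then -A else A
  have hmk : ∀ b A, (sg b A : ProjectiveSpecialLinearGroup (Fin 2) F) = A := fun b A => by
    cases b <;> simp [sg, Trace.mk_neg_eq]
  have hsgA : ∀ b A, sg b A = A ∨ sg b A = -A := fun b A => by cases b <;> simp [sg]
  let fw : InvolPair (ProjectiveSpecialLinearGroup (Fin 2) F) × Bool × Bool → TracePair F := fun x =>
    ⟨(sg x.2.1 x.1.1.1.out, sg x.2.2 x.1.1.2.out), hsgn _ _ (hlift x.1).1 (hsgA _ _),
      hsgn _ _ (hlift x.1).2.1 (hsgA _ _), by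
        refine hsgn _ _ (hlift x.1).2.2 ?_
        rcases hsgA x.2.1 x.1.1.1.out with e | e <;> rcases hsgA x.2.2 x.1.1.2.out with e' | e' <;>
          simp only [e, e', neg_mul, mul_neg, neg_neg, true_or, or_true]⟩
  have hbij : Function.Bijective fw := by
    constructor
    · rintro ⟨s, i, j⟩ ⟨s', i', j'⟩ h
      have e1 : sg i s.1.1.out = sg i' s'.1.1.out := congrArg (fun x : TracePair F => x.1.1) h
      have e2 : sg j s.1.2.out = sg j' s'.1.2.out := congrArg (fun x : TracePair F => x.1.2) h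
      have hs : s = s' := by
        refine Subtype.ext (Prod.ext ?_ ?_)
        · simpa [hmk] using congrArg (fun A : SL(2, F) => (A : ProjectiveSpecialLinearGroup (Fin 2) F)) e1
        · simpa [hmk] using congrArg (fun A : SL(2, F) => (A : ProjectiveSpecialLinearGroup (Fin 2) F)) e2
      subst hs
      have hb : ∀ (i i' : Bool) (A : SL(2, F)), sg i A = sg i' A → i = i' := fun i i' A e => by
        cases i <;> cases i' <;> simp [sg] at e ⊢
        · exact neg_ne_self h2 A e.symm
        · exact neg_ne_self h2 A e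
      rw [hb i i' _ e1, hb j j' _ e2]
    · rintro ⟨⟨A, B⟩, hA, hB, hAB⟩
      have h4 : ∀ X : SL(2, F), trc X = 0 → (X : ProjectiveSpecialLinearGroup (Fin 2) F) ≠ 1 := fun X hX e => by
        obtain ⟨e01, e10, e00⟩ := Trace.mk_eq_one_iff.1 e
        have hd := Trace.det_eq X
        rw [trc, e00, ← two_mul] at hX
        rw [e01, e00, (mul_eq_zero.1 hX).resolve_left h2] at hd
        simp at hd
      let s : InvolPair (ProjectiveSpecialLinearGroup (Fin 2) F) :=
        ⟨(A, B), h4 A hA, h4 B hB, fun e => by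
          have hAA : trc (A * A) = 0 := by
            rcases eq_or_neg_of_mk e with rfl | rfl
            · exact hAB
            · simpa [trc_neg'] using hAB
          rw [trc_mul_self, hA] at hAA
          exact h2 (by linear_combination -hAA),
          Trace.mk_sq_eq_one hA, Trace.mk_sq_eq_one hB, by
            rw [← QuotientGroup.mk_mul]; exact Trace.mk_sq_eq_one hAB⟩
      have hpick : ∀ A : SL(2, F), ∃ i, sg i (A : ProjectiveSpecialLinearGroup (Fin 2) F).out = A := fun A => by
        rcases eq_or_neg_of_mk (A := (A : ProjectiveSpecialLinearGroup (Fin 2) F).out) (B := A)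
          (QuotientGroup.out_eq' _) with e | e
        · exact ⟨false, by simp [sg, ← e]⟩
        · exact ⟨true, by simp [sg, ← e]⟩
      obtain ⟨i, hi⟩ := hpick A
      obtain ⟨j, hj⟩ := hpick B
      exact ⟨(s, i, j), Subtype.ext (Prod.ext hi hj)⟩
  rw [← card_trace_pair h2, ← Nat.card_congr (Equiv.ofBijective _ hbij), Nat.card_prod, Nat.card_prod]
  simp [mul_comm]

theorem six_mul_card_kleinFour {G : Type*} [Group G] [Finite G] :
    6 * Nat.card {V : Subgroup G // IsKleinFour V} = Nat.card (InvolPair G) := by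
  classical
  have hsix : ∀ V : {V : Subgroup G // IsKleinFour V},
      Nat.card {x : V.1 × V.1 // x.1 ≠ 1 ∧ x.2 ≠ 1 ∧ x.1 ≠ x.2} = 6 := fun ⟨V, hV⟩ => by
    have : Fintype V := Fintype.ofFinite V
    rw [Nat.card_eq_fintype_card, Fintype.card_subtype]
    have e : (Finset.univ.filter fun x : V × V => x.1 ≠ 1 ∧ x.2 ≠ 1 ∧ x.1 ≠ x.2) =
        (Finset.univ.erase (1 : V)).offDiag := by
      ext x; simp
    rw [e, Finset.offDiag_card, Finset.card_erase_of_mem (Finset.mem_univ _), Finset.card_univ,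
      IsKleinFour.card_four']
  let fw : (Σ V : {V : Subgroup G // IsKleinFour V}, {x : V.1 × V.1 // x.1 ≠ 1 ∧ x.2 ≠ 1 ∧ x.1 ≠ x.2}) →
      InvolPair G := fun σ => ⟨(σ.2.1.1.1, σ.2.1.2.1), by
    obtain ⟨⟨V, hV⟩, ⟨⟨a, b⟩, ha, hb, hab⟩⟩ := σ
    refine ⟨fun e => ha (Subtype.ext e), fun e => hb (Subtype.ext e), fun e => hab (Subtype.ext e), ?_, ?_, ?_⟩
    · rw [pow_two]; exact congrArg Subtype.val (IsKleinFour.mul_self a)
    · rw [pow_two]; exact congrArg Subtype.val (IsKleinFour.mul_self b)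
    · rw [pow_two]; exact congrArg Subtype.val (IsKleinFour.mul_self (a * b))⟩
  have hbij : Function.Bijective fw := by
    constructor
    · rintro ⟨⟨V, hV⟩, ⟨⟨a, b⟩, ha, hb, hab⟩⟩ ⟨⟨W, hW⟩, ⟨⟨c, d⟩, hc, hd, hcd⟩⟩ h
      have e1 : (a : G) = c := congrArg (fun x : InvolPair G => x.1.1) h
      have e2 : (b : G) = d := congrArg (fun x : InvolPair G => x.1.2) h
      have sub : ∀ (V W : Subgroup G) [IsKleinFour V] (a b : V), a ≠ 1 → b ≠ 1 → a ≠ b →
          (a : G) ∈ W → (b : G) ∈ W → V ≤ W := by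
        intro V W _ a b ha hb hab haW hbW z hz
        by_cases h1 : (⟨z, hz⟩ : V) = 1
        · rw [show z = 1 from congrArg Subtype.val h1]; exact W.one_mem
        by_cases h2 : (⟨z, hz⟩ : V) = a
        · rw [show z = a from congrArg Subtype.val h2]; exact haW
        by_cases h3 : (⟨z, hz⟩ : V) = b
        · rw [show z = b from congrArg Subtype.val h3]; exact hbW
        rw [show z = (a : G) * b from congrArg Subtype.val (IsKleinFour.eq_mul_of_ne_all ha hb hab h1 h2 h3)]
        exact W.mul_mem haW hbW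
      have hVW : V = W := le_antisymm (sub V W a b ha hb hab (e1 ▸ c.2) (e2 ▸ d.2))
        (sub W V c d hc hd hcd (e1.symm ▸ a.2) (e2.symm ▸ b.2))
      subst hVW
      have := Subtype.ext e1
      have := Subtype.ext e2
      subst_vars
      rfl
    · rintro ⟨⟨s, t⟩, hs, ht, hst, hs2, ht2, hst2⟩
      simp only at hs ht hst hs2 ht2 hst2
      rw [pow_two] at hs2 ht2 hst2
      have hsi : s⁻¹ = s := inv_eq_of_mul_eq_one_right hs2
      have hti : t⁻¹ = t := inv_eq_of_mul_eq_one_right ht2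
      have hcomm : t * s = s * t := by
        rw [← inv_eq_of_mul_eq_one_right hst2, _root_.mul_inv_rev, hsi, hti]
      let V : Subgroup G :=
        { carrier := {1, s, t, s * t}
          one_mem' := Or.inl rfl
          mul_mem' := by
            have e1 : s * (s * t) = t := by rw [← mul_assoc, hs2, one_mul]
            have e2 : t * (s * t) = s := by rw [← mul_assoc, hcomm, mul_assoc, ht2, mul_one]
            have e3 : s * t * s = t := by rw [mul_assoc, hcomm, e1]
            have e4 : s * t * t = s := by rw [mul_assoc, ht2, mul_one]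
            rintro a b (rfl | rfl | rfl | rfl) (rfl | rfl | rfl | rfl) <;>
              simp [hs2, ht2, hst2, hcomm, e1, e2, e3, e4]
          inv_mem' := by
            rintro a (rfl | rfl | rfl | rfl) <;> simp [hsi, hti, _root_.mul_inv_rev, hcomm] }
      have hcard : Nat.card V = 4 := by
        have e : ((V : Subgroup G) : Set G) = (({1, s, t, s * t} : Finset G) : Set G) := by
          ext x
          show x ∈ ({1, s, t, s * t} : Set G) ↔ _
          simp
        rw [show Nat.card V = Nat.card ((V : Subgroup G) : Set G) from rfl, e, Nat.card_coe_set_eq,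
          Set.ncard_coe_finset, Finset.card_eq_of_equiv_fin]
        refine (Finset.equivFinOfCardEq ?_)
        have h1 : s * t ≠ 1 := fun h => hst (by rw [← hti]; exact eq_inv_of_mul_eq_one_left h)
        have h2 : s * t ≠ s := fun h => ht (mul_left_cancel (a := s) (h.trans (mul_one s).symm))
        have h3 : s * t ≠ t := fun h => hs (mul_right_cancel (b := t) (h.trans (one_mul t).symm))
        simp [Ne.symm hs, Ne.symm ht, hst, Ne.symm h1, Ne.symm h2, Ne.symm h3]
      have hne : Nontrivial V := Finite.one_lt_card_iff_nontrivial.1 (by rw [hcard]; norm_num)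
      have hexp : Monoid.exponent V = 2 := by
        refine Monoid.exponent_eq_prime_iff Nat.prime_two |>.2 fun x hx => orderOf_eq_prime ?_ hx
        obtain ⟨x, hx'⟩ := x
        apply Subtype.ext
        show x ^ 2 = 1
        rcases hx' with rfl | rfl | rfl | rfl <;> simp [pow_two, hs2, ht2, hst2]
      refine ⟨⟨⟨V, ⟨hcard, hexp⟩⟩, ⟨(⟨s, Or.inr (Or.inl rfl)⟩, ⟨t, Or.inr (Or.inr (Or.inl rfl))⟩), ?_, ?_, ?_⟩⟩, rfl⟩
      · exact fun h => hs (congrArg Subtype.val h)
      · exact fun h => ht (congrArg Subtype.val h)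
      · exact fun h => hst (congrArg Subtype.val h)
  have : Fintype {V : Subgroup G // IsKleinFour V} := Fintype.ofFinite _
  rw [← Nat.card_congr (Equiv.ofBijective _ hbij), Nat.card_sigma, Finset.sum_congr rfl fun V _ => hsix V,
    Finset.sum_const, Finset.card_univ, smul_eq_mul, Nat.card_eq_fintype_card, mul_comm]

theorem two_ne_zero_of_odd [Fintype F] (hodd : Odd (Fintype.card F)) : (2 : F) ≠ 0 := fun h => by
  have : CharP F 2 := CharTwo.of_one_ne_zero_of_two_eq_zero one_ne_zero h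
  have : Fact (Nat.Prime 2) := ⟨Nat.prime_two⟩
  obtain ⟨f, hf, hq⟩ := exists_char_pow (F := F) 2
  rw [hq, Nat.odd_iff] at hodd
  have : 2 ∣ 2 ^ f := dvd_pow_self 2 (by omega)
  omega

theorem twelve_mul_card_kleinFour [Fintype F] {q : ℕ} (hF : Fintype.card F = q) (hodd : Odd q) :
    12 * Nat.card {V : Subgroup (ProjectiveSpecialLinearGroup (Fin 2) F) // IsKleinFour V} =
      Nat.card (ProjectiveSpecialLinearGroup (Fin 2) F) := by
  classical
  have h2 := two_ne_zero_of_odd (F := F) (hF ▸ hodd)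
  have h1 := four_mul_card_involPair (F := F) h2
  rw [← six_mul_card_kleinFour, Two.card_SL_two, ← gcd_mul_card_psl (F := F) rfl,
    Nat.gcd_eq_left (Nat.dvd_of_mod_eq_zero (by have := Nat.odd_iff.1 hodd; omega))] at h1
  omega

end CfsgLib.Classical.Dickson
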