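import Cfsg.Agent.Lib.Classical.SmallIso
import Mathlib.FieldTheory.IsAlgClosed.Basic
import Mathlib.FieldTheory.Perfect
import Mathlib.LinearAlgebra.Eigenspace.Triangularizable
import Mathlib.RingTheory.IntegralDomain

/-!
Local theory of Möbius transformations: point stabilisers, fixed points, two-point stabilisers.
-/

set_option autoImplicit false

namespace CfsgLib.Classical.Dickson

open Matrix
open CfsgLib.Classical.Two
open scoped LinearAlgebra.Projectivization MatrixGroups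

variable {L : Type*} [Field L]

/-- The projective line. -/
abbrev Pt (L : Type*) [Field L] := ℙ L (Fin 2 → L)

/-- The group of Möbius transformations. -/
abbrev Mob (L : Type*) [Field L] := ProjGenLinGroup (Fin 2) L

/-- The point at infinity. -/
abbrev inf (L : Type*) [Field L] : Pt L := basePoint L 0

/-- A finite point. -/
def pt (x : L) : Pt L :=
  Projectivization.mk L ![x, 1] (fun h => by simpa using congrFun h 1)

theorem pt_eq (v : Fin 2 → L) (hv : v ≠ 0) (h : v 1 ≠ 0) :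
    Projectivization.mk L v hv = pt (v 0 / v 1) := by
  rw [pt, Projectivization.mk_eq_mk_iff']
  exact ⟨v 1, funext fun i => by fin_cases i <;> simp [mul_div_cancel₀ _ h]⟩

theorem inf_eq (v : Fin 2 → L) (hv : v ≠ 0) (h : v 1 = 0) :
    Projectivization.mk L v hv = inf L := by
  rw [inf, basePoint, Projectivization.mk_eq_mk_iff']
  exact ⟨v 0, funext fun i => by fin_cases i <;> simp [h]⟩

theorem pt_injective : Function.Injective (pt : L → Pt L) := by
  intro x y h
  rw [pt, pt, Projectivization.mk_eq_mk_iff'] at h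
  obtain ⟨a, ha⟩ := h
  have h1 := congrFun ha 1
  have h0 := congrFun ha 0
  simp at h1 h0
  rw [h1, one_mul] at h0
  exact h0.symm

theorem pt_ne_inf (x : L) : pt x ≠ inf L := by
  intro h
  rw [pt, inf, basePoint, Projectivization.mk_eq_mk_iff'] at h
  obtain ⟨a, ha⟩ := h
  simpa using congrFun ha 1

theorem eq_inf_or_pt (z : Pt L) : z = inf L ∨ ∃ x, z = pt x := by
  induction z using Projectivization.ind with | _ v hv =>
  by_cases h : v 1 = 0
  · exact Or.inl (inf_eq v hv h)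
  · exact Or.inr ⟨_, pt_eq v hv h⟩

theorem mk_eq_of_smul {g g' : GL (Fin 2) L} (u : Lˣ)
    (h : (g' : Matrix (Fin 2) (Fin 2) L) = (u : L) • (g : Matrix (Fin 2) (Fin 2) L)) :
    (ProjGenLinGroup.mk g : Mob L) = ProjGenLinGroup.mk g' := by
  rw [ProjGenLinGroup.mk_eq_mk_iff]
  refine ⟨u, Units.ext ?_⟩
  rw [h, Units.val_mul, GeneralLinearGroup.coe_scalar, Matrix.scalar_apply,
    ← Matrix.smul_one_eq_diagonal, Matrix.mul_smul, mul_one]

/-- `z ↦ a z + b`. -/
def aff (a : Lˣ) (b : L) : Mob L :=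
  ProjGenLinGroup.mk (GeneralLinearGroup.mkOfDetNeZero !![(a : L), b; 0, 1] (by simp [det_fin_two]))

/-- `z ↦ c / z`. -/
def swp (c : Lˣ) : Mob L :=
  ProjGenLinGroup.mk (GeneralLinearGroup.mkOfDetNeZero !![0, (c : L); 1, 0] (by simp [det_fin_two]))

theorem aff_mul (a a' : Lˣ) (b b' : L) : aff a b * aff a' b' = aff (a * a') (a * b' + b) := by
  rw [aff, aff, aff, ← map_mul]
  congr 1
  apply Units.ext
  simp [Matrix.mul_fin_two]

theorem aff_one_zero : aff (1 : Lˣ) 0 = 1 := by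
  rw [aff, ← map_one (ProjGenLinGroup.mk (n := Fin 2) (R := L))]
  congr 1
  apply Units.ext
  simp [Matrix.one_fin_two]

theorem aff_inv (a : Lˣ) (b : L) : (aff a b)⁻¹ = aff a⁻¹ (-((a⁻¹ : Lˣ) : L) * b) :=
  inv_eq_of_mul_eq_one_right (by
    rw [aff_mul, mul_inv_cancel, show (a : L) * (-((a⁻¹ : Lˣ) : L) * b) + b = 0 by simp,
      aff_one_zero])

theorem aff_smul_inf (a : Lˣ) (b : L) : aff a b • inf L = inf L := by
  rw [aff, inf, basePoint, Projectivization.PGL.mk_smul_mk, Projectivization.mk_eq_mk_iff']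
  exact ⟨a, funext fun i => by fin_cases i <;> simp [Units.smul_def]⟩

theorem aff_smul_pt (a : Lˣ) (b x : L) : aff a b • pt x = pt ((a : L) * x + b) := by
  rw [aff, pt, pt, Projectivization.PGL.mk_smul_mk, Projectivization.mk_eq_mk_iff']
  exact ⟨1, funext fun i => by fin_cases i <;> simp [Units.smul_def, mul_comm]⟩

theorem aff_eq_iff {a a' : Lˣ} {b b' : L} : aff a b = aff a' b' ↔ a = a' ∧ b = b' := by
  refine ⟨fun h => ?_, fun h => by rw [h.1, h.2]⟩
  have h0 := congrArg (· • pt (0 : L)) h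
  have h1 := congrArg (· • pt (1 : L)) h
  simp only [aff_smul_pt] at h0 h1
  have e0 := pt_injective h0
  have e1 := pt_injective h1
  simp at e0 e1
  exact ⟨Units.ext (by linear_combination e1 - e0), e0⟩

theorem swp_smul_inf (c : Lˣ) : swp c • inf L = pt 0 := by
  rw [swp, inf, basePoint, pt, Projectivization.PGL.mk_smul_mk, Projectivization.mk_eq_mk_iff']
  exact ⟨1, funext fun i => by fin_cases i <;> simp [Units.smul_def]⟩

theorem swp_smul_zero (c : Lˣ) : swp c • pt (0 : L) = inf L := by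
  rw [swp, inf, basePoint, pt, Projectivization.PGL.mk_smul_mk, Projectivization.mk_eq_mk_iff']
  exact ⟨c, funext fun i => by fin_cases i <;> simp [Units.smul_def]⟩

theorem swp_smul_pt (c : Lˣ) {x : L} (hx : x ≠ 0) : swp c • pt x = pt ((c : L) / x) := by
  rw [swp, pt, pt, Projectivization.PGL.mk_smul_mk, Projectivization.mk_eq_mk_iff']
  exact ⟨x, funext fun i => by fin_cases i <;> simp [Units.smul_def, mul_div_cancel₀ _ hx]⟩

theorem swp_mul_self (c : Lˣ) : swp c * swp c = 1 := by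
  rw [swp, ← map_mul, ProjGenLinGroup.mk_eq_one, GeneralLinearGroup.center_eq_range_scalar]
  refine ⟨c, ?_⟩
  apply Units.ext
  simp [Matrix.mul_fin_two, GeneralLinearGroup.coe_scalar, Matrix.scalar_apply]
  ext i j
  fin_cases i <;> fin_cases j <;> simp

theorem swp_conj (c a : Lˣ) : swp c * aff a 0 * (swp c)⁻¹ = aff a⁻¹ 0 := by
  rw [mul_inv_eq_iff_eq_mul, swp, aff, aff, ← map_mul, ← map_mul]
  refine mk_eq_of_smul a⁻¹ ?_
  ext i j
  fin_cases i <;> fin_cases j <;> simp [Matrix.mul_apply, mul_comm]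

theorem exists_aff_of_fix {g : Mob L} (h : g • inf L = inf L) : ∃ a b, g = aff a b := by
  induction g using ProjGenLinGroup.induction_on with | mk g =>
  rw [inf, basePoint, Projectivization.PGL.mk_smul_mk, Projectivization.mk_eq_mk_iff'] at h
  obtain ⟨r, hr⟩ := h
  have h10 : g 1 0 = 0 := by simpa [Units.smul_def] using (congrFun hr 1).symm
  have hd : g 0 0 * g 1 1 ≠ 0 := by
    have := GeneralLinearGroup.det_ne_zero g
    rw [det_fin_two, h10] at this
    simpa using this
  refine ⟨Units.mk0 (g 0 0 / g 1 1) (div_ne_zero (left_ne_zero_of_mul hd) (right_ne_zero_of_mul hd)),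
    g 0 1 / g 1 1, ?_⟩
  rw [aff]
  refine mk_eq_of_smul (Units.mk0 _ (right_ne_zero_of_mul hd))⁻¹ ?_
  ext i j
  fin_cases i <;> fin_cases j <;>
    simp [div_eq_mul_inv, h10, mul_comm, right_ne_zero_of_mul hd]

theorem exists_swp_of_swap {g : Mob L} (h : g • inf L = pt 0) (h' : g • pt (0 : L) = inf L) :
    ∃ c, g = swp c := by
  have h1 : (swp 1 * g) • inf L = inf L := by rw [mul_smul, h, swp_smul_zero]
  obtain ⟨a, b, hab⟩ := exists_aff_of_fix h1
  have hb : b = 0 := by
    have h2 : (swp 1 * g) • pt (0 : L) = pt 0 := by rw [mul_smul, h', swp_smul_inf]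
    rw [hab, aff_smul_pt] at h2
    simpa using pt_injective h2
  refine ⟨a⁻¹, ?_⟩
  have hg : g = swp 1 * aff a b := by rw [← hab, ← mul_assoc, swp_mul_self, one_mul]
  rw [hg, hb, swp, swp, aff, ← map_mul]
  refine mk_eq_of_smul a⁻¹ ?_
  ext i j
  fin_cases i <;> fin_cases j <;> simp [Matrix.mul_apply]

theorem exists_move_two {x y : Pt L} (hxy : x ≠ y) :
    ∃ h : Mob L, h • x = inf L ∧ h • y = pt 0 := by
  obtain ⟨z, hzx, hzy⟩ : ∃ z : Pt L, z ≠ x ∧ z ≠ y := by
    have h01 : pt (0 : L) ≠ pt 1 := fun h => zero_ne_one (pt_injective h)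
    by_contra! h
    rcases em (inf L = x) with rfl | h1
    · exact h01 ((h (pt 0) (pt_ne_inf 0)).trans (h (pt 1) (pt_ne_inf 1)).symm)
    have hy := h (inf L) h1
    subst hy
    by_cases h2 : pt (0 : L) = x
    · exact pt_ne_inf 1 (h (pt 1) fun e => h01 (h2.trans e.symm))
    · exact pt_ne_inf 0 (h (pt 0) h2)
  obtain ⟨g, g0, g1, -⟩ := exists_gl_of_triple x y z hxy hzx.symm hzy.symm
  have e0 : (ProjGenLinGroup.mk g : Mob L) • basePoint L 0 = x := g0
  have e1 : (ProjGenLinGroup.mk g : Mob L) • basePoint L 1 = y := g1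
  refine ⟨(ProjGenLinGroup.mk g)⁻¹, by rw [inv_smul_eq_iff, e0], ?_⟩
  rw [inv_smul_eq_iff]
  have : pt (0 : L) = basePoint L 1 := by
    rw [pt, basePoint, Projectivization.mk_eq_mk_iff']
    exact ⟨1, funext fun i => by fin_cases i <;> simp⟩
  rw [this, e1]

theorem exists_move (x : Pt L) : ∃ h : Mob L, h • x = inf L := by
  by_cases hx : x = inf L
  · exact ⟨1, by rw [one_smul, hx]⟩
  · obtain ⟨h, h1, -⟩ := exists_move_two hx
    exact ⟨h, h1⟩

theorem exists_fix [IsAlgClosed L] (g : Mob L) : ∃ x : Pt L, g • x = x := by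
  induction g using ProjGenLinGroup.induction_on with | mk g =>
  obtain ⟨c, hc⟩ := Module.End.exists_eigenvalue (Matrix.toLin' (g : Matrix (Fin 2) (Fin 2) L))
  obtain ⟨v, hv⟩ := hc.exists_hasEigenvector
  refine ⟨Projectivization.mk L v hv.2, ?_⟩
  rw [Projectivization.PGL.mk_smul_mk, Projectivization.mk_eq_mk_iff']
  refine ⟨c, ?_⟩
  rw [← hv.apply_eq_smul, Matrix.toLin'_apply, Units.smul_def, Matrix.smul_eq_mulVec]

variable (p : ℕ) [Fact p.Prime] [CharP L p]

theorem aff_pow_char (b : L) : aff (1 : Lˣ) b ^ p = 1 := by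
  have h : ∀ n : ℕ, aff (1 : Lˣ) b ^ n = aff 1 ((n : L) * b) := fun n => by
    induction n with
    | zero => rw [pow_zero, Nat.cast_zero, zero_mul, aff_one_zero]
    | succ n ih =>
      rw [pow_succ, ih, aff_mul, mul_one]
      push_cast
      ring_nf
  rw [h, CharP.cast_eq_zero, zero_mul, aff_one_zero]

theorem aff_pow_fst (a : Lˣ) (b : L) (n : ℕ) : ∃ b', aff a b ^ n = aff (a ^ n) b' := by
  induction n with
  | zero => exact ⟨0, by rw [pow_zero, pow_zero, aff_one_zero]⟩
  | succ n ih =>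
    obtain ⟨b', hb'⟩ := ih
    exact ⟨_, by rw [pow_succ, hb', aff_mul, ← pow_succ]⟩

theorem aff_pow_eq_one_iff (a : Lˣ) (b : L) : aff a b ^ p = 1 ↔ a = 1 := by
  refine ⟨fun h => ?_, fun h => by rw [h]; exact aff_pow_char p b⟩
  obtain ⟨b', hb'⟩ := aff_pow_fst a b p
  rw [h, ← aff_one_zero, aff_eq_iff] at hb'
  have h1 : ((a : L)) ^ p = 1 ^ p := by
    rw [one_pow, ← Units.val_pow_eq_pow_val, ← hb'.1, Units.val_one]
  exact Units.ext (frobenius_inj L p h1)

/-- An element other than one with `g ^ p = 1` fixes exactly one point, others exactly two. -/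
theorem fix_cases [IsAlgClosed L] {g : Mob L} (hg : g ≠ 1) :
    ∃ x : Pt L, g • x = x ∧ ((g ^ p = 1 ∧ ∀ z, g • z = z → z = x) ∨
      (g ^ p ≠ 1 ∧ ∃ y, y ≠ x ∧ g • y = y ∧ ∀ z, g • z = z → z = x ∨ z = y)) := by
  obtain ⟨x, hx⟩ := exists_fix g
  refine ⟨x, hx, ?_⟩
  obtain ⟨h, hh⟩ := exists_move x
  obtain ⟨a, b, hab⟩ := exists_aff_of_fix (g := h * g * h⁻¹) (by
    rw [← hh, mul_smul, mul_smul, inv_smul_smul, hx])
  have hpow : (h * g * h⁻¹) ^ p = 1 ↔ g ^ p = 1 := by rw [conj_pow, conj_eq_one_iff]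
  have hfix : ∀ z : Pt L, g • z = z ↔ aff a b • (h • z) = h • z := fun z => by
    rw [← hab, mul_smul, mul_smul, inv_smul_smul, smul_left_cancel_iff]
  rw [hab, aff_pow_eq_one_iff] at hpow
  by_cases ha : a = 1
  · refine Or.inl ⟨hpow.1 ha, fun z hz => ?_⟩
    rcases eq_inf_or_pt (h • z) with e | ⟨w, e⟩
    · exact smul_left_cancel h (e.trans hh.symm)
    · exfalso
      have h1 := (hfix z).1 hz
      rw [e, aff_smul_pt, ha, Units.val_one, one_mul] at h1
      have hb : b = 0 := by simpa using pt_injective h1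
      rw [ha, hb, aff_one_zero, conj_eq_one_iff] at hab
      exact hg hab
  · refine Or.inr ⟨fun e => ha (hpow.2 e), h⁻¹ • pt (b / (1 - a)), fun e => ?_, ?_, fun z hz => ?_⟩
    · rw [inv_smul_eq_iff, hh] at e
      exact pt_ne_inf _ e
    · rw [hfix, smul_inv_smul, aff_smul_pt]
      congr 1
      have : (1 : L) - a ≠ 0 := fun e => ha (Units.ext (sub_eq_zero.1 e).symm)
      field_simp
      ring
    · rcases eq_inf_or_pt (h • z) with e | ⟨w, e⟩
      · exact Or.inl (smul_left_cancel h (e.trans hh.symm))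
      · right
        have h1 := (hfix z).1 hz
        rw [e, aff_smul_pt] at h1
        have h2 := pt_injective h1
        rw [eq_inv_smul_iff, e]
        congr 1
        have : (1 : L) - a ≠ 0 := fun e => ha (Units.ext (sub_eq_zero.1 e).symm)
        field_simp
        linear_combination -h2

theorem pow_ne_one_of_fix_two [IsAlgClosed L] {g : Mob L} (hg : g ≠ 1) {x y : Pt L} (hxy : x ≠ y)
    (hx : g • x = x) (hy : g • y = y) : g ^ p ≠ 1 := by
  obtain ⟨z, -, ⟨-, h⟩ | ⟨h, -⟩⟩ := fix_cases p hg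
  · exact absurd ((h x hx).trans (h y hy).symm) hxy
  · exact h

theorem conj_aff_of_fix_two {h g : Mob L} {x y : Pt L} (hh : h • x = inf L) (hh' : h • y = pt 0)
    (hx : g • x = x) (hy : g • y = y) : ∃ a, h * g * h⁻¹ = aff a 0 := by
  obtain ⟨a, b, hab⟩ := exists_aff_of_fix (g := h * g * h⁻¹) (by
    rw [← hh, mul_smul, mul_smul, inv_smul_smul, hx])
  have h2 : (h * g * h⁻¹) • pt (0 : L) = pt 0 := by rw [← hh', mul_smul, mul_smul, inv_smul_smul, hy]
  rw [hab, aff_smul_pt] at h2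
  have hb : b = 0 := by simpa using pt_injective h2
  exact ⟨a, by rw [hab, hb]⟩

theorem commute_of_fix_two {g g' : Mob L} {x y : Pt L} (hxy : x ≠ y) (hx : g • x = x)
    (hy : g • y = y) (hx' : g' • x = x) (hy' : g' • y = y) : Commute g g' := by
  obtain ⟨h, hh, hh'⟩ := exists_move_two hxy
  obtain ⟨a, ha⟩ := conj_aff_of_fix_two hh hh' hx hy
  obtain ⟨a', ha'⟩ := conj_aff_of_fix_two hh hh' hx' hy'
  refine (Commute.conj_iff h).1 ?_
  rw [ha, ha']
  show aff a 0 * aff a' 0 = aff a' 0 * aff a 0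
  rw [aff_mul, aff_mul, mul_comm a a', mul_zero, mul_zero]

/-- An element exchanging two points is an involution inverting their common stabiliser. -/
theorem swap_inverts {g w : Mob L} {x y : Pt L} (hxy : x ≠ y) (hx : g • x = x) (hy : g • y = y)
    (hwx : w • x = y) (hwy : w • y = x) : w * w = 1 ∧ w * g * w⁻¹ = g⁻¹ := by
  obtain ⟨h, hh, hh'⟩ := exists_move_two hxy
  obtain ⟨a, ha⟩ := conj_aff_of_fix_two hh hh' hx hy
  obtain ⟨c, hc⟩ := exists_swp_of_swap (g := h * w * h⁻¹)
    (by rw [← hh, mul_smul, mul_smul, inv_smul_smul, hwx, hh'])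
    (by rw [← hh', mul_smul, mul_smul, inv_smul_smul, hwy, hh])
  have hg : g = h⁻¹ * aff a 0 * h := by rw [← ha]; group
  have hw : w = h⁻¹ * swp c * h := by rw [← hc]; group
  constructor
  · rw [hw, show h⁻¹ * swp c * h * (h⁻¹ * swp c * h) = h⁻¹ * (swp c * swp c) * h by group,
      swp_mul_self]
    group
  · rw [hw, hg, show h⁻¹ * swp c * h * (h⁻¹ * aff a 0 * h) * (h⁻¹ * swp c * h)⁻¹ =
        h⁻¹ * (swp c * aff a 0 * (swp c)⁻¹) * h by group, swp_conj,
      show (h⁻¹ * aff a 0 * h)⁻¹ = h⁻¹ * (aff a 0)⁻¹ * h by group, aff_inv, mul_zero]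

/-- A finite subgroup fixing two points is cyclic. -/
theorem isCyclic_of_fix_two (C : Subgroup (Mob L)) [Finite C] {x y : Pt L} (hxy : x ≠ y)
    (hx : ∀ g ∈ C, g • x = x) (hy : ∀ g ∈ C, g • y = y) : IsCyclic C := by
  obtain ⟨h, hh, hh'⟩ := exists_move_two hxy
  have hex : ∀ g : C, ∃ a, h * (g : Mob L) * h⁻¹ = aff a 0 := fun g =>
    conj_aff_of_fix_two hh hh' (hx _ g.2) (hy _ g.2)
  choose μ hμ using hex
  let f : C →* Lˣ := MonoidHom.mk' μ fun g g' => by
    have e : aff (μ (g * g')) (0 : L) = aff (μ g) 0 * aff (μ g') 0 := by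
      rw [← hμ, ← hμ, ← hμ, Subgroup.coe_mul]; group
    rw [aff_mul] at e
    exact (aff_eq_iff.1 e).1
  have hf : Function.Injective f := by
    rw [injective_iff_map_eq_one]
    intro g hg
    have e := hμ g
    rw [show μ g = 1 from hg, aff_one_zero, conj_eq_one_iff] at e
    exact Subtype.ext e
  exact isCyclic_of_subgroup_isDomain ((Units.coeHom L).comp f) (Units.val_injective.comp hf)

/-- The multiplier on the stabiliser of a point. -/
theorem exists_multiplier (x : Pt L) :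
    ∃ μ : MulAction.stabilizer (Mob L) x →* Lˣ, ∀ (p : ℕ) [Fact p.Prime] [CharP L p],
      ∀ g : MulAction.stabilizer (Mob L) x, μ g = 1 ↔ (g : Mob L) ^ p = 1 := by
  obtain ⟨h, hh⟩ := exists_move x
  have hex : ∀ g : MulAction.stabilizer (Mob L) x, ∃ a b, h * (g : Mob L) * h⁻¹ = aff a b :=
    fun g => exists_aff_of_fix (by
      rw [← hh, mul_smul, mul_smul, inv_smul_smul, MulAction.mem_stabilizer_iff.1 g.2])
  choose μ ν hμ using hex
  refine ⟨MonoidHom.mk' μ fun g g' => ?_, fun p _ _ g => ?_⟩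
  · have e : aff (μ (g * g')) (ν (g * g')) = aff (μ g) (ν g) * aff (μ g') (ν g') := by
      rw [← hμ, ← hμ, ← hμ, Subgroup.coe_mul]; group
    rw [aff_mul] at e
    exact (aff_eq_iff.1 e).1
  · show μ g = 1 ↔ _
    rw [← aff_pow_eq_one_iff p (μ g) (ν g), ← hμ, conj_pow, conj_eq_one_iff]

end CfsgLib.Classical.Dickson
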