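import Cfsg.Agent.Lib.Classical.Dickson.MaxExist

/-!
Maximal subfield subgroups, for an abstract pair of fields.
-/

set_option autoImplicit false

namespace CfsgLib.Classical.Dickson

open Matrix
open scoped MatrixGroups

theorem isSquare_of_odd_degree {K F : Type*} [Field K] [Fintype K] [Field F] [Fintype F]
    (f : K →+* F) {r : ℕ} (hr : Odd r) (hq : Fintype.card K ^ r = Fintype.card F) {a : K}
    (ha : IsSquare (f a)) : IsSquare a := by
  by_cases h2 : (2 : K) = 0
  · exact isSquare_of_two_eq_zero h2 a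
  by_cases ha0 : a = 0
  · exact ha0 ▸ IsSquare.zero
  have hc2 : ringChar K ≠ 2 := fun h => h2 (by
    have : CharP K 2 := ringChar.eq_iff.1 h
    exact_mod_cast CharP.cast_eq_zero K 2)
  have hodd := FiniteField.odd_card_of_char_ne_two hc2
  rw [FiniteField.isSquare_iff hc2 ha0]
  obtain ⟨S, hS, hS2⟩ := exists_pow_sub_one (Nat.odd_iff.2 hodd) r
  obtain ⟨s, hs⟩ := ha
  have hs0 : s ≠ 0 := by rintro rfl; simp [ha0] at hs
  have h1 : a ^ ((Fintype.card K / 2) * S) = 1 := by
    apply f.injective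
    rw [map_pow, map_one, hs, ← pow_two, ← pow_mul, ← FiniteField.pow_card_sub_one_eq_one s hs0]
    congr 1
    rw [← hq, hS, Nat.add_sub_cancel, ← mul_assoc]
    congr 1
    omega
  rcases FiniteField.pow_dichotomy hc2 ha0 with h | h
  · exact h
  · rw [pow_mul, h, (Nat.odd_iff.2 (hS2.trans (Nat.odd_iff.1 hr))).neg_one_pow] at h1
    exact absurd h1 fun e => h2 (by linear_combination -e)

variable {F K : Type*} [Field F] [Fintype F] [Field K] [Fintype K]

theorem exists_maximal_pglImage {k r : ℕ} (hK : Fintype.card K = k) (hk3 : 3 ≤ k) (hr : r.Prime)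
    (hq : k ^ r = Fintype.card F) :
    ∃ (f : K →+* F) (H : Subgroup (ProjectiveSpecialLinearGroup (Fin 2) F)),
      H = pglImage f ∧ IsCoatom H := by
  obtain ⟨p, hp⟩ := CharP.exists F
  have : Fact p.Prime := ⟨CharP.char_is_prime F p⟩
  obtain ⟨f⟩ := exists_ringHom_of_card_pow (F := F) (K := K) hr.one_lt.le (hK.symm ▸ hq)
  refine ⟨f, _, rfl, ?_⟩
  let j : K ≃+* f.fieldRange := RingEquiv.ofBijective f.rangeRestrictField f.rangeRestrictField_bijective
  have e : pglImage f = pglImage f.fieldRange.subtype := by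
    refine le_antisymm ?_ ?_
    · exact pglImage_comp_le (j : K →+* f.fieldRange) f.fieldRange.subtype
    · have e' : f.fieldRange.subtype = f.comp (j.symm : f.fieldRange →+* K) := RingHom.ext fun x => by
        show (x : F) = f (j.symm x)
        conv_lhs => rw [← j.apply_symm_apply x]
        rfl
      rw [e']
      exact pglImage_comp_le _ _
  rw [e]
  refine pglImage_maximal p (k := k) (r := r) ?_ hk3 hr hq
  rw [← hK, ← Nat.card_eq_fintype_card]
  exact (Nat.card_congr j.toEquiv).symm

theorem pgl_subfield_maximal {q : ℕ} (hK : Fintype.card K = q) (hF : Fintype.card F = q ^ 2)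
    (hq : Odd q) : ∃ H : Subgroup (ProjectiveSpecialLinearGroup (Fin 2) F),
      IsCoatom H ∧ Nonempty (H ≃* ProjGenLinGroup (Fin 2) K) := by
  have h3 : 3 ≤ q := by
    have := Fintype.one_lt_card (α := K)
    obtain ⟨t, rfl⟩ := hq
    omega
  obtain ⟨f, H, rfl, hH⟩ := exists_maximal_pglImage (F := F) hK h3 Nat.prime_two hF.symm
  refine ⟨_, hH, nonempty_pglImage_equiv f fun a ha => ?_⟩
  exact isSquare_map_of_even f hF (hq.pow) (by rw [hK]) even_two ha

theorem psl_subfield_maximal {q r : ℕ} (hK : Fintype.card K = q) (hF : Fintype.card F = q ^ r)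
    (h3 : 3 ≤ q) (hr : r.Prime) (hsq : Odd r ∨ (2 : K) = 0) :
    ∃ H : Subgroup (ProjectiveSpecialLinearGroup (Fin 2) F),
      IsCoatom H ∧ Nonempty (H ≃* ProjectiveSpecialLinearGroup (Fin 2) K) := by
  obtain ⟨f, H, rfl, hH⟩ := exists_maximal_pglImage (F := F) hK h3 hr hF.symm
  refine ⟨_, hH, ?_⟩
  rw [pglImage_eq_pslImage f fun a ha => ?_]
  · exact nonempty_pslImage_equiv f
  · rcases hsq with h | h
    · exact isSquare_of_odd_degree f h (by rw [hK, hF]) ha
    · exact isSquare_of_two_eq_zero h a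

end CfsgLib.Classical.Dickson
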