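import Cfsg.Agent.Lib.Classical.Dickson.Conj
import Cfsg.Agent.Lib.Classical.SL2TracePSL

/-!
Pairs of elements of `SL₂` are determined up to `GL₂`-conjugacy by their traces; consequently the
subgroups `A₄`, `S₄`, `A₅` of `PSL(2, q)` are conjugate under `PGL(2, q)`.
-/

set_option autoImplicit false

namespace CfsgLib.Classical.Dickson

open Matrix
open CfsgLib.Classical.Trace (trc IsScalar)
open scoped MatrixGroups

section Pair

variable {F : Type*} [Field F]

theorem coe_mul' (A B : SL(2, F)) : (A * B).1 = A.1 * B.1 := rfl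

theorem sl_sq (A : SL(2, F)) : A.1 * A.1 = trc A • A.1 - 1 := by
  have hd := Trace.det_eq A
  ext i j
  fin_cases i <;> fin_cases j <;> simp [trc, Matrix.mul_apply, Fin.sum_univ_two] <;>
    first | linear_combination hd | linear_combination -hd | ring1

theorem sl_swap (A B : SL(2, F)) :
    B.1 * A.1 + A.1 * B.1 = trc A • B.1 + trc B • A.1 + (trc (A * B) - trc A * trc B) • 1 := by
  ext i j
  fin_cases i <;> fin_cases j <;>
    simp [trc, Matrix.mul_apply, Fin.sum_univ_two, coe_mul'] <;> ring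

theorem eigen_root {A : SL(2, F)} {v : Fin 2 → F} (hv : v ≠ 0) {c : F} (h : A.1.mulVec v = c • v) :
    c * c - trc A * c + 1 = 0 := by
  have h2 : (A.1 * A.1).mulVec v = (c * c) • v := by
    rw [← Matrix.mulVec_mulVec, h, Matrix.mulVec_smul, h, smul_smul]
  rw [sl_sq, Matrix.sub_mulVec, Matrix.smul_mulVec, h, Matrix.one_mulVec, smul_smul] at h2
  obtain ⟨i, hi⟩ : ∃ i, v i ≠ 0 := by
    by_contra! hn
    exact hv (funext hn)
  have h3 := congrFun h2 i
  simp at h3
  refine (mul_eq_zero.1 (show (c * c - trc A * c + 1) * v i = 0 by linear_combination -h3)).resolve_right hi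

theorem no_common_eigen {A B : SL(2, F)} (hA : trc A = 0)
    (hd : trc (A * B) ^ 2 + trc B ^ 2 ≠ 4) (v : Fin 2 → F) (hv : v ≠ 0) (a b : F)
    (ha : A.1.mulVec v = a • v) : B.1.mulVec v ≠ b • v := by
  intro hb
  have ra := eigen_root hv ha
  have rb := eigen_root hv hb
  have hab : (A * B).1.mulVec v = (a * b) • v := by
    rw [coe_mul', ← Matrix.mulVec_mulVec, hb, Matrix.mulVec_smul, ha, smul_smul,
      mul_comm]
  have rab := eigen_root hv hab
  rw [hA] at ra
  set s := trc B
  set t := trc (A * B)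
  have hb0 : b ≠ 0 := by rintro rfl; simp at rb
  apply hd
  have e : t * (a * b) = 1 - b * b := by linear_combination -rab + (b * b) * ra
  have e2 : (t * (a * b)) * (t * (a * b)) = (1 - b * b) * (1 - b * b) := by rw [e]
  refine mul_left_cancel₀ (mul_ne_zero hb0 hb0) ?_
  linear_combination -e2 + (t * t * b * b) * ra + (b * b + 1 + s * b) * (-rb)

theorem exists_frame_pair {A B : SL(2, F)} (hA : trc A = 0)
    (hd : trc (A * B) ^ 2 + trc B ^ 2 ≠ 4) {β : F} (hβ : β * β - trc B * β + 1 = 0) :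
    ∃ P : Matrix (Fin 2) (Fin 2) F, P.det ≠ 0 ∧ A.1 * P = P * !![0, -1; 1, 0] ∧
      B.1 * P = P * !![β, trc (A * B); 0, trc B - β] := by
  have hd0 : (B.1 - β • 1).det = 0 := by
    have h := Trace.det_eq B
    rw [Matrix.det_fin_two]
    simp [trc] at hβ ⊢
    linear_combination hβ + h
  obtain ⟨v, hv, hv'⟩ := Matrix.exists_mulVec_eq_zero_iff.2 hd0
  have hb : B.1.mulVec v = β • v := by
    rw [Matrix.sub_mulVec, Matrix.smul_mulVec, Matrix.one_mulVec, sub_eq_zero] at hv'
    exact hv'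
  set w := A.1.mulVec v with hw
  have hAw : A.1.mulVec w = -v := by
    rw [hw, Matrix.mulVec_mulVec, sl_sq, hA, zero_smul, zero_sub, Matrix.neg_mulVec, Matrix.one_mulVec]
  have hBw : B.1.mulVec w = trc (A * B) • v + (trc B - β) • w := by
    have h := congrArg (fun M => Matrix.mulVec M v) (sl_swap A B)
    simp only [hA, Matrix.add_mulVec, Matrix.smul_mulVec, ← Matrix.mulVec_mulVec, hb,
      Matrix.mulVec_smul, Matrix.one_mulVec, ← hw, zero_smul, zero_add, zero_mul, sub_zero] at h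
    rw [eq_sub_iff_add_eq.2 h, sub_smul]
    abel
  refine ⟨!![v 0, w 0; v 1, w 1], ?_, ?_, ?_⟩
  · intro h0
    rw [Matrix.det_fin_two] at h0
    simp at h0
    obtain ⟨a, ha⟩ : ∃ a : F, w = a • v := by
      by_cases h00 : v 0 = 0
      · have h1 : v 1 ≠ 0 := fun h1 => hv (funext fun i => by fin_cases i <;> assumption)
        refine ⟨w 1 / v 1, funext fun i => ?_⟩
        fin_cases i
        · have : w 0 = 0 := by simpa [h00, h1] using h0
          simp [h00, this]
        · simp [h1]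
      · refine ⟨w 0 / v 0, funext fun i => ?_⟩
        fin_cases i
        · simp [h00]
        · show w 1 = w 0 / v 0 * v 1
          field_simp
          linear_combination h0
    exact no_common_eigen hA hd v hv a β ha hb
  · ext i j
    have e0 := congrFun hAw i
    have e1 := congrFun hw i
    simp [Matrix.mulVec, dotProduct, Fin.sum_univ_two] at e0 e1
    fin_cases i <;> fin_cases j <;>
      simp [Matrix.mul_apply, Fin.sum_univ_two] at e0 e1 ⊢ <;>
      first | linear_combination e0 | linear_combination -e1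
  · ext i j
    have e0 := congrFun hBw i
    have e1 := congrFun hb i
    simp [Matrix.mulVec, dotProduct, Fin.sum_univ_two] at e0 e1
    fin_cases i <;> fin_cases j <;>
      simp [Matrix.mul_apply, Fin.sum_univ_two] at e0 e1 ⊢ <;>
      first | linear_combination e0 | linear_combination e1

theorem exists_conj_pair {A A' B B' : SL(2, F)} (hA : trc A = 0) (hA' : trc A' = 0)
    (hB : trc B' = trc B) (hAB : trc (A' * B') = trc (A * B))
    (hd : trc (A * B) ^ 2 + trc B ^ 2 ≠ 4) :
    ∃ P : GL (Fin 2) F, A'.1 * (P : Matrix (Fin 2) (Fin 2) F) = P * A.1 ∧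
      B'.1 * (P : Matrix (Fin 2) (Fin 2) F) = P * B.1 := by
  let L := AlgebraicClosure F
  let f := algebraMap F L
  let m : SL(2, F) →* SL(2, L) := SpecialLinearGroup.map f
  have htr : ∀ X : SL(2, F), trc (m X) = f (trc X) := fun X => by simp [trc, m]
  obtain ⟨β, hβ⟩ : ∃ β : L, β * β - trc (m B) * β + 1 = 0 := by
    obtain ⟨l, hl⟩ := IsAlgClosed.exists_root
      (Polynomial.X ^ 2 - Polynomial.C (trc (m B)) * Polynomial.X + 1 : Polynomial L) (by
        have : (Polynomial.X ^ 2 - Polynomial.C (trc (m B)) * Polynomial.X + 1 : Polynomial L).degree = 2 := by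
          compute_degree!
        rw [this]; decide)
    exact ⟨l, by simpa [Polynomial.IsRoot, pow_two] using hl⟩
  have hA0 : trc (m A) = 0 := by rw [htr, hA, map_zero]
  have hA0' : trc (m A') = 0 := by rw [htr, hA', map_zero]
  have hd1 : trc (m A * m B) ^ 2 + trc (m B) ^ 2 ≠ 4 := by
    rw [← map_mul, htr, htr, ← map_pow, ← map_pow, ← map_add, show (4 : L) = f 4 from (map_ofNat f 4).symm]
    exact fun h => hd (f.injective h)
  have hB1 : trc (m B') = trc (m B) := by rw [htr, htr, hB]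
  have hAB1 : trc (m A' * m B') = trc (m A * m B) := by rw [← map_mul, ← map_mul, htr, htr, hAB]
  obtain ⟨P, hP, hPA, hPB⟩ := exists_frame_pair hA0 hd1 hβ
  obtain ⟨P', hP', hPA', hPB'⟩ := exists_frame_pair (A := m A') (B := m B') hA0'
    (by rw [hAB1, hB1]; exact hd1) (β := β) (by rw [hB1]; exact hβ)
  rw [hAB1, hB1] at hPB'
  have hu : IsUnit P.det := isUnit_iff_ne_zero.2 hP
  have key : ∀ (M M' N : Matrix (Fin 2) (Fin 2) L), M * P = P * N → M' * P' = P' * N →
      M' * (P' * P⁻¹) = P' * P⁻¹ * M := by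
    intro M M' N h h'
    have : P⁻¹ * M = N * P⁻¹ := by
      calc P⁻¹ * M = P⁻¹ * (M * P) * P⁻¹ := by
            rw [← mul_assoc, mul_assoc _ P P⁻¹, Matrix.mul_nonsing_inv P hu, mul_one]
        _ = N * P⁻¹ := by rw [h, ← mul_assoc P⁻¹, Matrix.nonsing_inv_mul P hu, one_mul]
    rw [← mul_assoc, h', mul_assoc, ← this, ← mul_assoc]
  refine exists_intertwiner f (no_common_eigen hA hd) (P' * P⁻¹) ?_ (key _ _ _ hPA hPA') (key _ _ _ hPB hPB')
  intro h0
  apply hP'
  have : P' = 0 := by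
    calc P' = P' * P⁻¹ * P := by rw [mul_assoc, Matrix.nonsing_inv_mul P hu, mul_one]
      _ = 0 := by rw [h0, zero_mul]
  rw [this]; simp

theorem exists_pslConj_of_lifts {A A' B B' : SL(2, F)} (hA : trc A = 0) (hA' : trc A' = 0)
    (hB : trc B' = trc B) (hAB : trc (A' * B') = trc (A * B))
    (hd : trc (A * B) ^ 2 + trc B ^ 2 ≠ 4) :
    ∃ g : GL (Fin 2) F,
      pslConj g (A : ProjectiveSpecialLinearGroup (Fin 2) F) = (A' : ProjectiveSpecialLinearGroup (Fin 2) F) ∧
      pslConj g (B : ProjectiveSpecialLinearGroup (Fin 2) F) = (B' : ProjectiveSpecialLinearGroup (Fin 2) F) := by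
  obtain ⟨P, h1, h2⟩ := exists_conj_pair hA hA' hB hAB hd
  have key : ∀ X X' : SL(2, F), X'.1 * (P : Matrix (Fin 2) (Fin 2) F) = P * X.1 → slConj P X = X' := by
    intro X X' h
    apply Subtype.ext
    show (P : Matrix (Fin 2) (Fin 2) F) * X.1 * (P⁻¹ : GL (Fin 2) F) = X'.1
    rw [← h, mul_assoc, Units.mul_inv, mul_one]
  exact ⟨P, congrArg QuotientGroup.mk (key A A' h1), congrArg QuotientGroup.mk (key B B' h2)⟩

end Pair

/-! ### Traces and orders in `PSL₂` -/

section Orders

variable {F : Type*} [Field F]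

theorem isScalar_or_coeff {M : SL(2, F)} (hM : ¬ IsScalar M) {n : ℕ} {c d : F}
    (h : (M ^ n : SL(2, F)).1 = c • M.1 - d • 1)
    (h1 : ((M : ProjectiveSpecialLinearGroup (Fin 2) F)) ^ n = 1) : c = 0 := by
  rw [← QuotientGroup.mk_pow, Trace.mk_eq_one_iff] at h1
  obtain ⟨e01, e10, e00⟩ := h1
  rw [h] at e01 e10 e00
  simp at e01 e10 e00
  by_contra hc
  refine hM ⟨(e01.resolve_left hc), e10.resolve_left hc, ?_⟩
  exact e00.resolve_right hc

theorem pow_three_coe (M : SL(2, F)) :
    (M ^ 3 : SL(2, F)).1 = (trc M ^ 2 - 1) • M.1 - trc M • 1 := by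
  rw [pow_succ, pow_two, coe_mul', coe_mul', sl_sq, sub_mul,
    smul_mul_assoc, sl_sq, one_mul]
  module

theorem pow_four_coe (M : SL(2, F)) :
    (M ^ 4 : SL(2, F)).1 = (trc M ^ 3 - 2 * trc M) • M.1 - (trc M ^ 2 - 1) • 1 := by
  rw [pow_succ, coe_mul', pow_three_coe, sub_mul, smul_mul_assoc, smul_mul_assoc,
    sl_sq, one_mul]
  module

theorem pow_five_coe (M : SL(2, F)) :
    (M ^ 5 : SL(2, F)).1 = (trc M ^ 4 - 3 * trc M ^ 2 + 1) • M.1 - (trc M ^ 3 - 2 * trc M) • 1 := by
  rw [pow_succ, coe_mul', pow_four_coe, sub_mul, smul_mul_assoc, smul_mul_assoc,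
    sl_sq, one_mul]
  module

/-- The square of the trace of a lift. -/
noncomputable def psq (x : ProjectiveSpecialLinearGroup (Fin 2) F) : F := trc x.out ^ 2

theorem psq_mk (A : SL(2, F)) : psq (A : ProjectiveSpecialLinearGroup (Fin 2) F) = trc A ^ 2 :=
  Trace.trc_sq_eq_of_isConj (y := ((A : ProjectiveSpecialLinearGroup (Fin 2) F)).out) (x := A) (by
    rw [QuotientGroup.out_eq'])

theorem psq_conj (h x : ProjectiveSpecialLinearGroup (Fin 2) F) : psq (h * x * h⁻¹) = psq x := by
  obtain ⟨H, rfl⟩ := QuotientGroup.mk_surjective h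
  obtain ⟨X, rfl⟩ := QuotientGroup.mk_surjective x
  rw [← QuotientGroup.mk_inv, ← QuotientGroup.mk_mul, ← QuotientGroup.mk_mul, psq_mk, psq_mk,
    Trace.trc_conj]

theorem psq_sq (x : ProjectiveSpecialLinearGroup (Fin 2) F) : psq (x ^ 2) = (psq x - 2) ^ 2 := by
  obtain ⟨X, rfl⟩ := QuotientGroup.mk_surjective x
  rw [← QuotientGroup.mk_pow, psq_mk, psq_mk]
  congr 1
  rw [trc, pow_two X, coe_mul', sl_sq]
  simp [trc]
  ring

theorem not_isScalar_of_ne_one {A : SL(2, F)}
    (h : (A : ProjectiveSpecialLinearGroup (Fin 2) F) ≠ 1) : ¬ IsScalar A :=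
  fun h' => h (Trace.mk_eq_one_iff.2 h')

theorem trc_zero_of_invol {A : SL(2, F)} (h : (A : ProjectiveSpecialLinearGroup (Fin 2) F) ≠ 1)
    (h2 : (A : ProjectiveSpecialLinearGroup (Fin 2) F) ^ 2 = 1) : trc A = 0 :=
  isScalar_or_coeff (not_isScalar_of_ne_one h) (d := 1)
    (by rw [pow_two, coe_mul', sl_sq, one_smul]) h2

theorem psq_three {x : ProjectiveSpecialLinearGroup (Fin 2) F} (h : x ≠ 1) (h3 : x ^ 3 = 1) :
    psq x = 1 := by
  obtain ⟨X, rfl⟩ := QuotientGroup.mk_surjective x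
  rw [psq_mk]
  exact sub_eq_zero.1 (isScalar_or_coeff (not_isScalar_of_ne_one h) (pow_three_coe X) h3)

theorem psq_four {x : ProjectiveSpecialLinearGroup (Fin 2) F} (h : x ^ 2 ≠ 1) (h4 : x ^ 4 = 1) :
    psq x = 2 := by
  have h1 : x ≠ 1 := fun e => h (by rw [e, one_pow])
  obtain ⟨X, rfl⟩ := QuotientGroup.mk_surjective x
  rw [psq_mk]
  have h' := isScalar_or_coeff (not_isScalar_of_ne_one h1) (pow_four_coe X) h4
  have ht : trc X ≠ 0 := fun e => h (Trace.mk_sq_eq_one e)
  exact sub_eq_zero.1 ((mul_eq_zero.1 (show trc X * (trc X ^ 2 - 2) = 0 by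
    linear_combination h')).resolve_left ht)

theorem psq_five {x : ProjectiveSpecialLinearGroup (Fin 2) F} (h : x ≠ 1) (h5 : x ^ 5 = 1) :
    psq x * psq x - 3 * psq x + 1 = 0 := by
  obtain ⟨X, rfl⟩ := QuotientGroup.mk_surjective x
  rw [psq_mk]
  linear_combination isScalar_or_coeff (not_isScalar_of_ne_one h) (pow_five_coe X) h5

theorem trc_neg' (A : SL(2, F)) : trc (-A) = -trc A := by simp [trc]; ring

/-- Pairs of an involution and an element of order three are conjugate when the products agree. -/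
theorem exists_pslConj_of_pair {a b a' b' : ProjectiveSpecialLinearGroup (Fin 2) F} (ha : a ≠ 1)
    (ha2 : a ^ 2 = 1) (ha' : a' ≠ 1) (ha2' : a' ^ 2 = 1) (hb : b ≠ 1) (hb3 : b ^ 3 = 1)
    (hb' : b' ≠ 1) (hb3' : b' ^ 3 = 1) (hu : psq (a' * b') = psq (a * b)) (hd : psq (a * b) ≠ 3) :
    ∃ g : GL (Fin 2) F, pslConj g a = a' ∧ pslConj g b = b' := by
  have lift : ∀ {c : ProjectiveSpecialLinearGroup (Fin 2) F}, c ≠ 1 → c ^ 3 = 1 →
      ∃ C : SL(2, F), (C : ProjectiveSpecialLinearGroup (Fin 2) F) = c ∧ trc C = 1 := by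
    intro c hc hc3
    obtain ⟨C, rfl⟩ := QuotientGroup.mk_surjective c
    have h := psq_three hc hc3
    rw [psq_mk] at h
    rcases sq_eq_one_iff.1 h with e | e
    · exact ⟨C, rfl, e⟩
    · exact ⟨-C, Trace.mk_neg_eq C, by rw [trc_neg', e, neg_neg]⟩
  obtain ⟨A, rfl⟩ := QuotientGroup.mk_surjective a
  obtain ⟨A', rfl⟩ := QuotientGroup.mk_surjective a'
  obtain ⟨B, rfl, hB⟩ := lift hb hb3
  obtain ⟨B', rfl, hB'⟩ := lift hb' hb3'
  rw [← QuotientGroup.mk_mul, ← QuotientGroup.mk_mul, psq_mk, psq_mk] at hu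
  rw [← QuotientGroup.mk_mul, psq_mk] at hd
  have hd' : trc (A * B) ^ 2 + trc B ^ 2 ≠ 4 := by
    rw [hB]; exact fun h => hd (by linear_combination h)
  have tA := trc_zero_of_invol ha ha2
  have tA' := trc_zero_of_invol ha' ha2'
  rcases sq_eq_sq_iff_eq_or_eq_neg.1 hu with e | e
  · exact exists_pslConj_of_lifts tA tA' (hB'.trans hB.symm) e hd'
  · obtain ⟨g, g1, g2⟩ := exists_pslConj_of_lifts (A' := -A') tA (by rw [trc_neg', tA', neg_zero])
      (hB'.trans hB.symm) (by rw [neg_mul, trc_neg', e, neg_neg]) hd'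
    exact ⟨g, g1.trans (Trace.mk_neg_eq A'), g2⟩

end Orders

/-! ### The platonic groups -/

section Platonic

/-- Products of at most `n` factors from a pair. -/
def ball {G : Type*} [Group G] [DecidableEq G] (a b : G) : ℕ → Finset G
  | 0 => {1}
  | n + 1 => ball a b n ∪ (ball a b n).image (a * ·) ∪ (ball a b n).image (b * ·)

theorem closure_eq_top_of_ball {G : Type*} [Group G] [DecidableEq G] (a b : G) (n : ℕ)
    (h : ∀ g, g ∈ ball a b n) : Subgroup.closure ({a, b} : Set G) = ⊤ := by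
  refine eq_top_iff.2 fun g _ => ?_
  suffices H : ∀ m, ∀ g ∈ ball a b m, g ∈ Subgroup.closure ({a, b} : Set G) from H n g (h g)
  intro m
  induction m with
  | zero => intro g hg; simp [ball] at hg; rw [hg]; exact one_mem _
  | succ m ih =>
    intro g hg
    simp only [ball, Finset.mem_union, Finset.mem_image] at hg
    rcases hg with (hg | ⟨x, hx, rfl⟩) | ⟨x, hx, rfl⟩
    · exact ih g hg
    · exact mul_mem (Subgroup.subset_closure (by simp)) (ih x hx)
    · exact mul_mem (Subgroup.subset_closure (by simp)) (ih x hx)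

variable {F : Type*} [Field F]

theorem exists_pslConj_of_hom {Γ : Type*} [Group Γ] {a b : Γ}
    (hgen : Subgroup.closure ({a, b} : Set Γ) = ⊤) (ha : a ≠ 1) (ha2 : a ^ 2 = 1) (hb : b ≠ 1)
    (hb3 : b ^ 3 = 1) (e e₀ : Γ →* ProjectiveSpecialLinearGroup (Fin 2) F)
    (he : Function.Injective e) (he₀ : Function.Injective e₀)
    (hu : psq (e (a * b)) = psq (e₀ (a * b))) (hd : psq (e₀ (a * b)) ≠ 3) :
    ∃ g : GL (Fin 2) F, ∀ x, e x = pslConj g (e₀ x) := by
  have h1 : ∀ (f : Γ →* ProjectiveSpecialLinearGroup (Fin 2) F), Function.Injective f →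
      ∀ {c : Γ}, c ≠ 1 → f c ≠ 1 := fun f hf c hc h => hc (hf (h.trans (map_one f).symm))
  obtain ⟨g, g1, g2⟩ := exists_pslConj_of_pair (h1 e₀ he₀ ha) (by rw [← map_pow, ha2, map_one])
    (h1 e he ha) (by rw [← map_pow, ha2, map_one]) (h1 e₀ he₀ hb) (by rw [← map_pow, hb3, map_one])
    (h1 e he hb) (by rw [← map_pow, hb3, map_one]) (by rw [← map_mul, ← map_mul]; exact hu)
    (by rw [← map_mul]; exact hd)
  refine ⟨g, fun x => ?_⟩
  have heq : Set.EqOn e ((pslConj g).toMonoidHom.comp e₀) ({a, b} : Set Γ) := by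
    rintro x (rfl | rfl)
    exacts [g1.symm, g2.symm]
  exact MonoidHom.eqOn_closure heq (hgen ▸ Subgroup.mem_top x)

theorem alt_four_conj (h2 : (2 : F) ≠ 0)
    (e e₀ : alternatingGroup (Fin 4) →* ProjectiveSpecialLinearGroup (Fin 2) F)
    (he : Function.Injective e) (he₀ : Function.Injective e₀) :
    ∃ g : GL (Fin 2) F, ∀ x, e x = pslConj g (e₀ x) := by
  let a : alternatingGroup (Fin 4) :=
    ⟨Equiv.swap 0 1 * Equiv.swap 2 3, Equiv.Perm.mem_alternatingGroup.2 (by decide)⟩
  let b : alternatingGroup (Fin 4) :=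
    ⟨Equiv.swap 0 1 * Equiv.swap 1 2, Equiv.Perm.mem_alternatingGroup.2 (by decide)⟩
  have hab : a * b ≠ 1 ∧ (a * b) ^ 3 = 1 := by decide +kernel
  have h : ∀ f : alternatingGroup (Fin 4) →* ProjectiveSpecialLinearGroup (Fin 2) F,
      Function.Injective f → psq (f (a * b)) = 1 := fun f hf =>
    psq_three (fun h => hab.1 (hf (h.trans (map_one f).symm))) (by rw [← map_pow, hab.2, map_one])
  exact exists_pslConj_of_hom (closure_eq_top_of_ball a b 8 (by decide +kernel)) (by decide +kernel)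
    (by decide +kernel) (by decide +kernel) (by decide +kernel) e e₀ he he₀
    ((h e he).trans (h e₀ he₀).symm) (by rw [h e₀ he₀]; exact fun h3 => h2 (by linear_combination -h3))

theorem perm_four_conj (e e₀ : Equiv.Perm (Fin 4) →* ProjectiveSpecialLinearGroup (Fin 2) F)
    (he : Function.Injective e) (he₀ : Function.Injective e₀) :
    ∃ g : GL (Fin 2) F, ∀ x, e x = pslConj g (e₀ x) := by
  let a : Equiv.Perm (Fin 4) := Equiv.swap 0 1
  let b : Equiv.Perm (Fin 4) := Equiv.swap 1 2 * Equiv.swap 2 3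
  have hab : (a * b) ^ 2 ≠ 1 ∧ (a * b) ^ 4 = 1 := by decide +kernel
  have h : ∀ f : Equiv.Perm (Fin 4) →* ProjectiveSpecialLinearGroup (Fin 2) F,
      Function.Injective f → psq (f (a * b)) = 2 := fun f hf =>
    psq_four (fun h => hab.1 (hf (by rw [map_pow, h, map_one]))) (by rw [← map_pow, hab.2, map_one])
  exact exists_pslConj_of_hom (closure_eq_top_of_ball a b 10 (by decide +kernel)) (by decide +kernel)
    (by decide +kernel) (by decide +kernel) (by decide +kernel) e e₀ he he₀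
    ((h e he).trans (h e₀ he₀).symm)
    (by rw [h e₀ he₀]; exact fun h3 => one_ne_zero (show (1 : F) = 0 by linear_combination -h3))

theorem alt_five_conj (e e₀ : alternatingGroup (Fin 5) →* ProjectiveSpecialLinearGroup (Fin 2) F)
    (he : Function.Injective e) (he₀ : Function.Injective e₀) :
    ∃ (g : GL (Fin 2) F) (θ : MulAut (alternatingGroup (Fin 5))),
      ∀ x, e x = pslConj g (e₀ (θ x)) := by
  let a : alternatingGroup (Fin 5) :=
    ⟨Equiv.swap 0 1 * Equiv.swap 2 3, Equiv.Perm.mem_alternatingGroup.2 (by decide)⟩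
  let b : alternatingGroup (Fin 5) :=
    ⟨Equiv.swap 0 2 * Equiv.swap 2 4, Equiv.Perm.mem_alternatingGroup.2 (by decide)⟩
  let θ : MulAut (alternatingGroup (Fin 5)) :=
    MulAut.conjNormal (Equiv.swap (0 : Fin 5) 1)
  have hab : a * b ≠ 1 ∧ (a * b) ^ 5 = 1 := by decide +kernel
  obtain ⟨x, hx⟩ : ∃ x : alternatingGroup (Fin 5), θ (a * b) = x * (a * b) ^ 2 * x⁻¹ := by
    decide +kernel
  have hgen := closure_eq_top_of_ball a b 14 (by decide +kernel)
  have r : ∀ f : alternatingGroup (Fin 5) →* ProjectiveSpecialLinearGroup (Fin 2) F,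
      Function.Injective f → psq (f (a * b)) * psq (f (a * b)) - 3 * psq (f (a * b)) + 1 = 0 :=
    fun f hf => psq_five (fun h => hab.1 (hf (h.trans (map_one f).symm)))
      (by rw [← map_pow, hab.2, map_one])
  have hd : ∀ f : alternatingGroup (Fin 5) →* ProjectiveSpecialLinearGroup (Fin 2) F,
      Function.Injective f → psq (f (a * b)) ≠ 3 := fun f hf h => by
    have h' := r f hf
    rw [h] at h'
    exact one_ne_zero (show (1 : F) = 0 by linear_combination h')
  have key : ∀ f : alternatingGroup (Fin 5) →* ProjectiveSpecialLinearGroup (Fin 2) F,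
      Function.Injective f → psq (e (a * b)) = psq (f (a * b)) →
      ∃ g : GL (Fin 2) F, ∀ y, e y = pslConj g (f y) := fun f hf hu =>
    exists_pslConj_of_hom hgen (by decide +kernel) (by decide +kernel) (by decide +kernel)
      (by decide +kernel) e f he hf hu (hd f hf)
  set u := psq (e (a * b))
  set u₀ := psq (e₀ (a * b)) with hu₀
  by_cases huu : u = u₀
  · obtain ⟨g, hg⟩ := key e₀ he₀ huu
    exact ⟨g, 1, hg⟩
  · have hsum : u = 3 - u₀ := by
      have h1 : (u - u₀) * (u + u₀ - 3) = 0 := by linear_combination r e he - r e₀ he₀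
      linear_combination (mul_eq_zero.1 h1).resolve_left (sub_ne_zero.2 huu)
    obtain ⟨g, hg⟩ := key (e₀.comp θ.toMonoidHom) (he₀.comp θ.injective) (by
      show u = psq (e₀ (θ (a * b)))
      rw [hx, map_mul, map_mul, map_inv, psq_conj, map_pow, psq_sq, ← hu₀, hsum]
      linear_combination -(r e₀ he₀))
    exact ⟨g, θ, hg⟩

end Platonic

end CfsgLib.Classical.Dickson
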