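import Cfsg.Agent.Lib.Classical.Dickson.PlatonicTables
import Cfsg.Agent.Lib.Classical.Dickson.PSL
import Mathlib.NumberTheory.LegendreSymbol.QuadraticChar.GaussSum

/-!
The tetrahedral, octahedral and icosahedral groups inside `PSL(2, F)`, realised by quaternions.
-/

set_option autoImplicit false

namespace CfsgLib.Classical.Dickson

open Matrix
open scoped MatrixGroups

/-! ### Homomorphisms given by a table -/

theorem mem_of_steps {H : Type*} [Group H] {N ng : ℕ} [NeZero N] (f : Fin N → H)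
    (gi : Fin ng → Fin N) (nxt : Fin N → Fin ng → Fin N) (f0 : f 0 = 1)
    (hf : ∀ i g, f (gi g) * f i = f (nxt i g))
    (hgen : ∀ i, i ≠ 0 → ∃ g k, k < i ∧ nxt k g = i)
    (K : Subgroup H) (hK : ∀ g, f (gi g) ∈ K) (i : Fin N) : f i ∈ K := by
  induction i using WellFoundedLT.induction with
  | ind i ih =>
    by_cases h : i = 0
    · rw [h, f0]; exact one_mem K
    · obtain ⟨g, k, hk, rfl⟩ := hgen i h
      rw [← hf]
      exact mul_mem (hK g) (ih k hk)

theorem exists_hom_of_steps {Γ H : Type*} [Group Γ] [Group H] {N ng : ℕ} [NeZero N]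
    (e : Fin N → Γ) (hb : Function.Bijective e) (f : Fin N → H) (gi : Fin ng → Fin N)
    (nxt : Fin N → Fin ng → Fin N) (e0 : e 0 = 1) (f0 : f 0 = 1)
    (he : ∀ i g, e (gi g) * e i = e (nxt i g)) (hf : ∀ i g, f (gi g) * f i = f (nxt i g))
    (hgen : ∀ i, i ≠ 0 → ∃ g k, k < i ∧ nxt k g = i) :
    ∃ φ : Γ →* H, ∀ i, φ (e i) = f i := by
  let E := Equiv.ofBijective e hb
  have hE : ∀ i, E.symm (e i) = i := fun i => E.symm_apply_apply i
  have key : ∀ i j, f (E.symm (e i * e j)) = f i * f j := by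
    intro i
    induction i using WellFoundedLT.induction with
    | ind i ih =>
      intro j
      by_cases h : i = 0
      · rw [h, e0, one_mul, f0, one_mul, hE]
      · obtain ⟨g, k, hk, rfl⟩ := hgen i h
        obtain ⟨m, hm⟩ := hb.2 (e k * e j)
        rw [← he k g, ← hf k g, mul_assoc, mul_assoc, ← ih k hk, ← hm, hE, he, hE, hf]
  refine ⟨MonoidHom.mk' (fun x => f (E.symm x)) fun x y => ?_, fun i => congrArg f (hE i)⟩
  obtain ⟨i, rfl⟩ := hb.2 x
  obtain ⟨j, rfl⟩ := hb.2 y
  show f (E.symm (e i * e j)) = f (E.symm (e i)) * f (E.symm (e j))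
  rw [key, hE, hE]

/-! ### Quaternions as matrices -/

section Quaternions

variable {R : Type*} [CommRing R]

/-- Multiplication of quaternions. -/
def qmul (x y : Quat R) : Quat R :=
  (x.1 * y.1 - x.2.1 * y.2.1 - x.2.2.1 * y.2.2.1 - x.2.2.2 * y.2.2.2,
   x.1 * y.2.1 + x.2.1 * y.1 + x.2.2.1 * y.2.2.2 - x.2.2.2 * y.2.2.1,
   x.1 * y.2.2.1 - x.2.1 * y.2.2.2 + x.2.2.1 * y.1 + x.2.2.2 * y.2.1,
   x.1 * y.2.2.2 + x.2.1 * y.2.2.1 - x.2.2.1 * y.2.1 + x.2.2.2 * y.1)

/-- Scalar multiple of a quaternion. -/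
def qsmul (c : R) (x : Quat R) : Quat R := (c * x.1, c * x.2.1, c * x.2.2.1, c * x.2.2.2)

/-- Norm of a quaternion. -/
def qnorm (x : Quat R) : R := x.1 * x.1 + x.2.1 * x.2.1 + x.2.2.1 * x.2.2.1 + x.2.2.2 * x.2.2.2

/-- Image of a quaternion under a ring homomorphism. -/
def qmap {S : Type*} [CommRing S] (ev : R →+* S) (x : Quat R) : Quat S :=
  (ev x.1, ev x.2.1, ev x.2.2.1, ev x.2.2.2)

theorem qmap_qmul {S : Type*} [CommRing S] (ev : R →+* S) (x y : Quat R) :
    qmap ev (qmul x y) = qmul (qmap ev x) (qmap ev y) := by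
  simp [qmap, qmul, map_add, map_sub, map_mul]

theorem qmap_qsmul {S : Type*} [CommRing S] (ev : R →+* S) (c : R) (x : Quat R) :
    qmap ev (qsmul c x) = qsmul (ev c) (qmap ev x) := by simp [qmap, qsmul]

theorem qnorm_qmap {S : Type*} [CommRing S] (ev : R →+* S) (x : Quat R) :
    qnorm (qmap ev x) = ev (qnorm x) := by simp [qmap, qnorm, map_add, map_mul]

/-- The matrix of a quaternion, for a solution of `a² + b² = -1`. -/
def qmat (a b : R) (x : Quat R) : Matrix (Fin 2) (Fin 2) R :=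
  !![x.1 + x.2.1 * a - x.2.2.2 * b, x.2.1 * b + x.2.2.1 + x.2.2.2 * a;
     x.2.1 * b - x.2.2.1 + x.2.2.2 * a, x.1 - x.2.1 * a + x.2.2.2 * b]

variable {a b : R} (hab : a * a + b * b = -1)
include hab

theorem qmat_mul (x y : Quat R) : qmat a b x * qmat a b y = qmat a b (qmul x y) := by
  ext i j
  fin_cases i <;> fin_cases j <;> simp [qmat, qmul, Matrix.mul_apply, Fin.sum_univ_two]
  · linear_combination (x.2.1 * y.2.1 + x.2.2.2 * y.2.2.2) * hab
  · linear_combination (x.2.1 * y.2.2.2 - x.2.2.2 * y.2.1) * hab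
  · linear_combination (x.2.2.2 * y.2.1 - x.2.1 * y.2.2.2) * hab
  · linear_combination (x.2.1 * y.2.1 + x.2.2.2 * y.2.2.2) * hab

theorem det_qmat (x : Quat R) : (qmat a b x).det = qnorm x := by
  simp [qmat, qnorm, Matrix.det_fin_two]
  linear_combination -(x.2.1 * x.2.1 + x.2.2.2 * x.2.2.2) * hab

omit hab in
theorem qmat_qsmul (c : R) (x : Quat R) : qmat a b (qsmul c x) = c • qmat a b x := by
  ext i j
  fin_cases i <;> fin_cases j <;> simp [qmat, qsmul] <;> ring

end Quaternions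

section Mobius

variable {F : Type*} [Field F] {a b : F} (hab : a * a + b * b = -1)

/-- The Möbius transformation of a quaternion. -/
noncomputable def qmob (a b : F) (x : Quat F) : Mob F :=
  @dite _ ((qmat a b x).det ≠ 0) (Classical.propDecidable _)
    (fun h => ProjGenLinGroup.mk (GeneralLinearGroup.mkOfDetNeZero _ h)) fun _ => 1

theorem qmob_eq {x : Quat F} (h : (qmat a b x).det ≠ 0) :
    qmob a b x = ProjGenLinGroup.mk (GeneralLinearGroup.mkOfDetNeZero _ h) := by
  classical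
  exact dif_pos h

include hab

theorem qmob_one : qmob a b ((1, 0, 0, 0) : Quat F) = 1 := by
  have h : (qmat a b ((1, 0, 0, 0) : Quat F)).det ≠ 0 := by rw [det_qmat hab]; simp [qnorm]
  rw [qmob_eq h, ← map_one (ProjGenLinGroup.mk (n := Fin 2) (R := F))]
  congr 1
  apply Units.ext
  ext i j
  fin_cases i <;> fin_cases j <;> simp [qmat]

theorem qmob_qsmul {c : F} (hc : c ≠ 0) {x : Quat F} (hx : qnorm x ≠ 0) :
    qmob a b (qsmul c x) = qmob a b x := by
  have h1 : (qmat a b x).det ≠ 0 := by rwa [det_qmat hab]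
  have h2 : (qmat a b (qsmul c x)).det ≠ 0 := by
    rw [qmat_qsmul, Matrix.det_smul]
    exact mul_ne_zero (pow_ne_zero _ hc) h1
  rw [qmob_eq h1, qmob_eq h2]
  exact (mk_eq_of_smul (Units.mk0 c hc) (qmat_qsmul c x)).symm

theorem qmob_mul {x y : Quat F} (hx : qnorm x ≠ 0) (hy : qnorm y ≠ 0) :
    qmob a b x * qmob a b y = qmob a b (qmul x y) := by
  have h1 : (qmat a b x).det ≠ 0 := by rwa [det_qmat hab]
  have h2 : (qmat a b y).det ≠ 0 := by rwa [det_qmat hab]
  have h3 : (qmat a b (qmul x y)).det ≠ 0 := by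
    rw [← qmat_mul hab, Matrix.det_mul]; exact mul_ne_zero h1 h2
  rw [qmob_eq h1, qmob_eq h2, qmob_eq h3, ← map_mul]
  congr 1
  exact Units.ext (qmat_mul hab x y)

theorem qmob_mem_range {x : Quat F} (hx : qnorm x ≠ 0) {r : F} (hr : qnorm x = r * r) :
    qmob a b x ∈ (ProjectiveSpecialLinearGroup.toPGL (n := Fin 2) (R := F)).range := by
  have h1 : (qmat a b x).det ≠ 0 := by rwa [det_qmat hab]
  have hr0 : r ≠ 0 := by rintro rfl; simp [hr] at hx
  have hdet : (r⁻¹ • qmat a b x).det = 1 := by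
    rw [Matrix.det_smul, det_qmat hab, hr, Fintype.card_fin]; field_simp
  let A : SL(2, F) := ⟨r⁻¹ • qmat a b x, hdet⟩
  refine ⟨QuotientGroup.mk A, ?_⟩
  rw [qmob_eq h1, ProjectiveSpecialLinearGroup.toPGL_mk]
  refine mk_eq_of_smul (Units.mk0 r hr0) ?_
  show qmat a b x = r • (r⁻¹ • qmat a b x)
  simp [smul_smul, mul_inv_cancel₀ hr0]

theorem eq_zero_of_qmob_eq_one (h2 : (2 : F) ≠ 0) {x : Quat F} (hx : qnorm x ≠ 0)
    (h : qmob a b x = 1) : x.2.1 = 0 ∧ x.2.2.1 = 0 ∧ x.2.2.2 = 0 := by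
  have h1 : (qmat a b x).det ≠ 0 := by rwa [det_qmat hab]
  rw [qmob_eq h1, ProjGenLinGroup.mk_eq_one, GeneralLinearGroup.center_eq_range_scalar] at h
  obtain ⟨u, hu⟩ := h
  have e := congrArg (fun g : GL (Fin 2) F => (g : Matrix (Fin 2) (Fin 2) F)) hu
  have e01 := congrFun (congrFun e 0) 1
  have e10 := congrFun (congrFun e 1) 0
  have e00 := congrFun (congrFun e 0) 0
  have e11 := congrFun (congrFun e 1) 1
  simp [GeneralLinearGroup.coe_scalar, Matrix.scalar_apply, qmat] at e01 e10 e00 e11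
  obtain ⟨x0, x1, x2, x3⟩ := x
  simp at e01 e10 e00 e11 ⊢
  have hx2 : x2 = 0 := by
    refine (mul_eq_zero.1 (show (2 : F) * x2 = 0 by linear_combination e10 - e01)).resolve_left h2
  have k1 : x1 * b + x3 * a = 0 := by linear_combination -e01 - hx2
  have k2 : x1 * a - x3 * b = 0 := by
    refine (mul_eq_zero.1 (show (2 : F) * (x1 * a - x3 * b) = 0 by
      linear_combination e11 - e00)).resolve_left h2
  exact ⟨by linear_combination -a * k2 - b * k1 + x1 * hab, hx2,
    by linear_combination -a * k1 + b * k2 + x3 * hab⟩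

end Mobius

section Embed

variable {F : Type*} [Field F]

/-- A table of quaternions satisfying the group law up to scalars gives a subgroup of `PGL(2, F)`. -/
theorem exists_mob_embedding {R : Type*} [CommRing R] (ev : R →+* F) {a b : F}
    (hab : a * a + b * b = -1) (h2 : (2 : F) ≠ 0) {Γ : Type*} [Group Γ] {N ng : ℕ} [NeZero N]
    (e : Fin N → Γ) (hb : Function.Bijective e) (z : Fin N → Quat R) (gi : Fin ng → Fin N)
    (nxt : Fin N → Fin ng → Fin N) (cf : Fin N → Fin ng → ℤ) (e0 : e 0 = 1)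
    (z0 : z 0 = (1, 0, 0, 0)) (he : ∀ i g, e (gi g) * e i = e (nxt i g))
    (hz : ∀ i g, qmul (z (gi g)) (z i) = qsmul (cf i g : R) (z (nxt i g)))
    (hcf : ∀ i g, (cf i g).natAbs = 1 ∨ (cf i g).natAbs = 2 ∨ (cf i g).natAbs = 4)
    (hn : ∀ i, qnorm (z i) = 1 ∨ qnorm (z i) = 2 ∨ qnorm (z i) = 4)
    (ws : List R)
    (hv : ∀ i, i ≠ 0 → ∃ w ∈ ws, (z i).2.1 * w = 1 ∨ (z i).2.2.1 * w = 1 ∨ (z i).2.2.2 * w = 1)
    (hgen : ∀ i, i ≠ 0 → ∃ g k, k < i ∧ nxt k g = i) :
    ∃ φ : Γ →* Mob F, Function.Injective φ ∧ ∀ i, φ (e i) = qmob a b (qmap ev (z i)) := by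
  have h4 : (4 : F) ≠ 0 := by
    rw [show (4 : F) = 2 * 2 by norm_num]; exact mul_ne_zero h2 h2
  have hne : ∀ i, qnorm (qmap ev (z i)) ≠ 0 := fun i => by
    rw [qnorm_qmap]
    rcases hn i with h | h | h <;> rw [h]
    · rw [map_one]; exact one_ne_zero
    · rw [map_ofNat]; exact h2
    · rw [map_ofNat]; exact h4
  let f : Fin N → Mob F := fun i => qmob a b (qmap ev (z i))
  have f0 : f 0 = 1 := by
    show qmob a b (qmap ev (z 0)) = 1
    rw [z0]
    simpa [qmap] using qmob_one hab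
  have hf : ∀ i g, f (gi g) * f i = f (nxt i g) := fun i g => by
    show qmob a b _ * qmob a b _ = qmob a b _
    rw [qmob_mul hab (hne _) (hne _), ← qmap_qmul, hz, qmap_qsmul, qmob_qsmul hab ?_ (hne _)]
    rw [map_intCast]
    rcases Int.natAbs_eq (cf i g) with h | h <;> rcases hcf i g with hc | hc | hc <;>
      rw [h, hc] <;> push_cast <;> first
        | exact one_ne_zero | exact h2 | exact h4 | exact neg_ne_zero.2 one_ne_zero
        | exact neg_ne_zero.2 h2 | exact neg_ne_zero.2 h4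
  obtain ⟨φ, hφ⟩ := exists_hom_of_steps e hb f gi nxt e0 f0 he hf hgen
  refine ⟨φ, ?_, hφ⟩
  rw [injective_iff_map_eq_one]
  intro x hx
  obtain ⟨i, rfl⟩ := hb.2 x
  have hfi : f i = 1 := (hφ i).symm.trans hx
  by_contra hne1
  have hi : i ≠ 0 := fun h => hne1 (h ▸ e0)
  obtain ⟨v1, v2, v3⟩ := eq_zero_of_qmob_eq_one hab h2 (hne i) hfi
  simp only [qmap] at v1 v2 v3
  obtain ⟨w, -, h | h | h⟩ := hv i hi <;> have h' := congrArg ev h <;>
    simp [map_mul, v1, v2, v3] at h'

/-- A table of quaternions satisfying the group law up to scalars gives a subgroup of `PSL(2, F)`. -/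
theorem exists_embedding {R : Type*} [CommRing R] (ev : R →+* F) {a b : F}
    (hab : a * a + b * b = -1) (h2 : (2 : F) ≠ 0) {Γ : Type*} [Group Γ] {N ng : ℕ} [NeZero N]
    (e : Fin N → Γ) (hb : Function.Bijective e) (z : Fin N → Quat R) (gi : Fin ng → Fin N)
    (nxt : Fin N → Fin ng → Fin N) (cf : Fin N → Fin ng → ℤ) (e0 : e 0 = 1)
    (z0 : z 0 = (1, 0, 0, 0)) (he : ∀ i g, e (gi g) * e i = e (nxt i g))
    (hz : ∀ i g, qmul (z (gi g)) (z i) = qsmul (cf i g : R) (z (nxt i g)))
    (hcf : ∀ i g, (cf i g).natAbs = 1 ∨ (cf i g).natAbs = 2 ∨ (cf i g).natAbs = 4)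
    (hn : ∀ i, qnorm (z i) = 1 ∨ qnorm (z i) = 2 ∨ qnorm (z i) = 4)
    (ws : List R)
    (hv : ∀ i, i ≠ 0 → ∃ w ∈ ws, (z i).2.1 * w = 1 ∨ (z i).2.2.1 * w = 1 ∨ (z i).2.2.2 * w = 1)
    (hsq : ∀ g, qnorm (z (gi g)) = 2 → IsSquare (2 : F))
    (hgen : ∀ i, i ≠ 0 → ∃ g k, k < i ∧ nxt k g = i) :
    ∃ φ : Γ →* ProjectiveSpecialLinearGroup (Fin 2) F, Function.Injective φ := by
  have h4 : (4 : F) ≠ 0 := by
    rw [show (4 : F) = 2 * 2 by norm_num]; exact mul_ne_zero h2 h2
  have hne : ∀ i, qnorm (qmap ev (z i)) ≠ 0 := fun i => by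
    rw [qnorm_qmap]
    rcases hn i with h | h | h <;> rw [h]
    · rw [map_one]; exact one_ne_zero
    · rw [map_ofNat]; exact h2
    · rw [map_ofNat]; exact h4
  let f : Fin N → Mob F := fun i => qmob a b (qmap ev (z i))
  have f0 : f 0 = 1 := by
    show qmob a b (qmap ev (z 0)) = 1
    rw [z0]
    simpa [qmap] using qmob_one hab
  obtain ⟨φ, hinj, hφ⟩ := exists_mob_embedding ev hab h2 e hb z gi nxt cf e0 z0 he hz hcf hn ws hv hgen
  have hf : ∀ i g, f (gi g) * f i = f (nxt i g) := fun i g => by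
    show qmob a b (qmap ev (z (gi g))) * qmob a b (qmap ev (z i)) = qmob a b (qmap ev (z (nxt i g)))
    rw [← hφ, ← hφ, ← hφ, ← map_mul, he]
  have hK : ∀ g, f (gi g) ∈ (ProjectiveSpecialLinearGroup.toPGL (n := Fin 2) (R := F)).range := by
    intro g
    rcases hn (gi g) with h | h | h
    · exact qmob_mem_range hab (hne _) (r := 1) (by rw [qnorm_qmap, h, map_one, one_mul])
    · obtain ⟨r, hr⟩ := hsq g h
      exact qmob_mem_range hab (hne _) (r := r) (by rw [qnorm_qmap, h, map_ofNat, hr])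
    · exact qmob_mem_range hab (hne _) (r := 2) (by rw [qnorm_qmap, h, map_ofNat]; norm_num)
  have hrange : ∀ x : Γ, φ x ∈ (ProjectiveSpecialLinearGroup.toPGL (n := Fin 2) (R := F)).range := by
    intro x
    obtain ⟨i, rfl⟩ := hb.2 x
    rw [hφ]
    exact mem_of_steps f gi nxt f0 hf hgen _ hK i
  let ι := MonoidHom.ofInjective (ProjectiveSpecialLinearGroup.toPGL_injective (n := Fin 2) (R := F))
  exact ⟨ι.symm.toMonoidHom.comp (φ.codRestrict _ hrange),
    ι.symm.injective.comp fun x y h => hinj (congrArg Subtype.val h)⟩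

end Embed

/-! ### The three tables -/

section Tables

/-- Lookup in a table of permutations. -/
def look {d : ℕ} [NeZero d] (T : List (List (Fin d))) (i : ℕ) (x : Fin d) : Fin d :=
  (T.getD i []).getD x 0

/-- Entry of a table, as an index. -/
def idx (N : ℕ) [NeZero N] (T : List (List ℕ)) (i g : ℕ) : Fin N := Fin.ofNat N ((T.getD i []).getD g 0)

/-- The permutations of the tetrahedral table. -/
def tetPerm (i : Fin 12) : Equiv.Perm (Fin 4) where
  toFun := look tetImg i
  invFun := look tetImg (tetInv.getD i 0)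
  left_inv := by revert i; decide +kernel
  right_inv := by revert i; decide +kernel

/-- The permutations of the octahedral table. -/
def octPerm (i : Fin 24) : Equiv.Perm (Fin 4) where
  toFun := look octImg i
  invFun := look octImg (octInv.getD i 0)
  left_inv := by revert i; decide +kernel
  right_inv := by revert i; decide +kernel

/-- The permutations of the icosahedral table. -/
def icoPerm (i : Fin 60) : Equiv.Perm (Fin 5) where
  toFun := look icoImg i
  invFun := look icoImg (icoInv.getD i 0)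
  left_inv := by revert i; decide +kernel
  right_inv := by revert i; decide +kernel

theorem tetPerm_sign : ∀ i, tetPerm i ∈ alternatingGroup (Fin 4) := by
  simp only [Equiv.Perm.mem_alternatingGroup]; decide +kernel

theorem icoPerm_sign : ∀ i, icoPerm i ∈ alternatingGroup (Fin 5) := by
  simp only [Equiv.Perm.mem_alternatingGroup]; decide +kernel

theorem tetPerm_injective : Function.Injective tetPerm := by
  unfold Function.Injective; decide +kernel

theorem octPerm_injective : Function.Injective octPerm := by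
  unfold Function.Injective; decide +kernel

theorem icoPerm_injective : Function.Injective icoPerm := by
  unfold Function.Injective; decide +kernel

variable {F : Type*} [Field F]

/-- `A₄` lies in `PSL(2, F)` in odd characteristic. -/
theorem exists_alt_four {a b : F} (hab : a * a + b * b = -1) (h2 : (2 : F) ≠ 0) :
    ∃ φ : alternatingGroup (Fin 4) →* ProjectiveSpecialLinearGroup (Fin 2) F,
      Function.Injective φ := by
  refine exists_embedding (Int.castRingHom F) hab h2 (N := 12) (ng := 3)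
    (fun i => ⟨tetPerm i, tetPerm_sign i⟩) ?_ (fun i => tetQuat.getD i (1, 0, 0, 0))
    (fun g => Fin.ofNat 12 (g + 1)) (fun i g => idx 12 tetNext i g)
    (fun i g => (tetCoef.getD i []).getD g 0) ?_ ?_ ?_ ?_ ?_ ?_ [1, -1] ?_ ?_ ?_
  · rw [Fintype.bijective_iff_injective_and_card]
    refine ⟨fun i j h => tetPerm_injective (congrArg Subtype.val h), ?_⟩
    decide +kernel
  · exact Subtype.ext (by decide +kernel)
  · decide +kernel
  · exact fun i g => Subtype.ext ((by decide +kernel :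
      ∀ (i : Fin 12) (g : Fin 3), tetPerm (Fin.ofNat 12 (g + 1)) * tetPerm i =
        tetPerm (idx 12 tetNext i g)) i g)
  · decide +kernel
  · decide +kernel
  · decide +kernel
  · decide +kernel
  · intro g h
    exact absurd h ((by decide +kernel : ∀ g : Fin 3,
      qnorm (tetQuat.getD (Fin.ofNat 12 (g + 1) : Fin 12) (1, 0, 0, 0)) ≠ 2) g)
  · decide +kernel

/-- `S₄` lies in `PSL(2, F)` in odd characteristic when `2` is a square. -/
theorem exists_perm_four {a b : F} (hab : a * a + b * b = -1) (h2 : (2 : F) ≠ 0)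
    (hs : IsSquare (2 : F)) :
    ∃ φ : Equiv.Perm (Fin 4) →* ProjectiveSpecialLinearGroup (Fin 2) F, Function.Injective φ := by
  refine exists_embedding (Int.castRingHom F) hab h2 (N := 24) (ng := 4)
    octPerm ?_ (fun i => octQuat.getD i (1, 0, 0, 0))
    (fun g => Fin.ofNat 24 (g + 1)) (fun i g => idx 24 octNext i g)
    (fun i g => (octCoef.getD i []).getD g 0) ?_ ?_ ?_ ?_ ?_ ?_ [1, -1] ?_ (fun _ _ => hs) ?_
  · rw [Fintype.bijective_iff_injective_and_card]
    exact ⟨octPerm_injective, by decide +kernel⟩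
  all_goals decide +kernel

/-- `S₄` lies in `PGL(2, F)` in odd characteristic. -/
theorem exists_perm_four_mob {a b : F} (hab : a * a + b * b = -1) (h2 : (2 : F) ≠ 0) :
    ∃ φ : Equiv.Perm (Fin 4) →* Mob F, Function.Injective φ := by
  obtain ⟨φ, hφ, -⟩ := exists_mob_embedding (Int.castRingHom F) hab h2 (N := 24) (ng := 4)
    octPerm (by
      rw [Fintype.bijective_iff_injective_and_card]
      exact ⟨octPerm_injective, by decide +kernel⟩)
    (fun i => octQuat.getD i (1, 0, 0, 0))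
    (fun g => Fin.ofNat 24 (g + 1)) (fun i g => idx 24 octNext i g)
    (fun i g => (octCoef.getD i []).getD g 0) (by decide +kernel) (by decide +kernel)
    (by decide +kernel) (by decide +kernel) (by decide +kernel) (by decide +kernel) [1, -1]
    (by decide +kernel) (by decide +kernel)
  exact ⟨φ, hφ⟩

/-- `A₅` lies in `PSL(2, F)` in odd characteristic when `x² = x + 1` has a root. -/
theorem exists_alt_five {a b : F} (hab : a * a + b * b = -1) (h2 : (2 : F) ≠ 0) {u : F}
    (hu : u * u = u + 1) :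
    ∃ φ : alternatingGroup (Fin 5) →* ProjectiveSpecialLinearGroup (Fin 2) F,
      Function.Injective φ := by
  refine exists_embedding
    (QuadraticAlgebra.lift (R := ℤ) (a := 1) (b := 1) ⟨u, by simp [hu, add_comm]⟩).toRingHom hab h2
    (N := 60) (ng := 4) (fun i => ⟨icoPerm i, icoPerm_sign i⟩) ?_
    (fun i => icoQuat.getD i (1, 0, 0, 0))
    (fun g => Fin.ofNat 60 (g + 1)) (fun i g => idx 60 icoNext i g)
    (fun i g => (icoCoef.getD i []).getD g 0) ?_ ?_ ?_ ?_ ?_ ?_
    [1, -1, ⟨0, 1⟩, ⟨0, -1⟩, ⟨-1, 1⟩, ⟨1, -1⟩] ?_ ?_ ?_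
  · rw [Fintype.bijective_iff_injective_and_card]
    refine ⟨fun i j h => icoPerm_injective (congrArg Subtype.val h), ?_⟩
    decide +kernel
  · exact Subtype.ext (by decide +kernel)
  · decide +kernel
  · exact fun i g => Subtype.ext ((by decide +kernel :
      ∀ (i : Fin 60) (g : Fin 4), icoPerm (Fin.ofNat 60 (g + 1)) * icoPerm i =
        icoPerm (idx 60 icoNext i g)) i g)
  · decide +kernel
  · decide +kernel
  · decide +kernel
  · decide +kernel
  · intro g h
    exact absurd h ((by decide +kernel : ∀ g : Fin 4,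
      qnorm (icoQuat.getD (Fin.ofNat 60 (g + 1) : Fin 60) (1, 0, 0, 0)) ≠ 2) g)
  · decide +kernel

end Tables

end CfsgLib.Classical.Dickson
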