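import Mathlib.Algebra.QuadraticAlgebra.Basic
import Mathlib.GroupTheory.SpecificGroups.Alternating

/-!
Tables of quaternions realising the tetrahedral, octahedral and icosahedral groups, together with
the permutations and multiplication by generators.
-/

set_option autoImplicit false

namespace CfsgLib.Classical.Dickson

/-- Quaternion coordinates. -/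
abbrev Quat (R : Type*) := R × R × R × R

/-- The ring generated by the golden ratio. -/
abbrev ZPhi := QuadraticAlgebra ℤ 1 1

/-- Table for the tetrahedral group. -/
def tetQuat : List (Quat ℤ) :=
 [(1, 0, 0, 0), (0, 1, 0, 0), (0, 0, 1, 0), (-1, 1, 1, 1), (0, 0, 0, -1), (-1, -1, 1, -1),
  (-1, -1, -1, 1), (-1, 1, -1, -1), (-1, -1, -1, -1), (1, -1, -1, 1), (1, 1, -1, -1),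
  (1, -1, 1, -1)]

/-- Table for the tetrahedral group. -/
def tetImg : List (List (Fin 4)) :=
 [[0, 1, 2, 3], [3, 2, 1, 0], [1, 0, 3, 2], [0, 3, 1, 2], [2, 3, 0, 1], [2, 1, 3, 0], [3, 0, 2, 1],
  [1, 2, 0, 3], [0, 2, 3, 1], [1, 3, 2, 0], [2, 0, 1, 3], [3, 1, 0, 2]]

/-- Table for the tetrahedral group. -/
def tetInv : List ℕ :=
 [0, 1, 2, 8, 4, 11, 9, 10, 3, 6, 7, 5]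

/-- Table for the tetrahedral group. -/
def tetNext : List (List ℕ) :=
 [[1, 2, 3], [0, 4, 5], [4, 0, 6], [6, 7, 8], [2, 1, 7], [7, 6, 9], [3, 5, 10], [5, 3, 11],
  [11, 9, 0], [10, 8, 1], [9, 11, 2], [8, 10, 4]]

/-- Table for the tetrahedral group. -/
def tetCoef : List (List ℤ) :=
 [[1, 1, 1], [-1, 1, 1], [-1, -1, 1], [1, 1, 2], [1, -1, -1], [-1, 1, 2], [-1, -1, 2], [1, -1, 2],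
  [1, 1, 4], [1, -1, 4], [-1, 1, 4], [-1, -1, -4]]

/-- Table for the tetrahedral group. -/
def tetPar : List (ℕ × ℕ) :=
 [(0, 0), (0, 0), (1, 0), (2, 0), (1, 1), (2, 1), (2, 2), (1, 3), (2, 3), (2, 5), (2, 6), (2, 7)]

/-- Table for the octahedral group. -/
def octQuat : List (Quat ℤ) :=
 [(1, 0, 0, 0), (0, 1, 0, 0), (0, 0, 1, 0), (-1, 1, 1, 1), (1, 1, 0, 0), (0, 0, 0, -1),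
  (-1, -1, 1, -1), (-1, 1, 0, 0), (-1, -1, -1, 1), (0, 0, 1, 1), (-1, 1, -1, -1), (-1, -1, -1, -1),
  (-1, 0, 0, 1), (0, 0, 1, -1), (-1, 0, 1, 0), (1, -1, -1, 1), (0, -1, 1, 0), (0, -1, 0, -1),
  (1, 1, -1, -1), (0, -1, -1, 0), (-1, 0, -1, 0), (1, -1, 1, -1), (-1, 0, 0, -1), (0, -1, 0, 1)]

/-- Table for the octahedral group. -/
def octImg : List (List (Fin 4)) :=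
 [[0, 1, 2, 3], [3, 2, 1, 0], [1, 0, 3, 2], [0, 3, 1, 2], [1, 3, 0, 2], [2, 3, 0, 1], [2, 1, 3, 0],
  [2, 0, 3, 1], [3, 0, 2, 1], [3, 1, 2, 0], [1, 2, 0, 3], [0, 2, 3, 1], [1, 2, 3, 0], [0, 2, 1, 3],
  [3, 2, 0, 1], [1, 3, 2, 0], [0, 3, 2, 1], [1, 0, 2, 3], [2, 0, 1, 3], [2, 1, 0, 3], [2, 3, 1, 0],
  [3, 1, 0, 2], [3, 0, 1, 2], [0, 1, 3, 2]]

/-- Table for the octahedral group. -/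
def octInv : List ℕ :=
 [0, 1, 2, 11, 7, 5, 21, 4, 15, 9, 18, 3, 22, 13, 20, 8, 16, 17, 10, 19, 14, 6, 12, 23]

/-- Table for the octahedral group. -/
def octNext : List (List ℕ) :=
 [[1, 2, 3, 4], [0, 5, 6, 7], [5, 0, 8, 9], [8, 10, 11, 12], [7, 13, 14, 1], [2, 1, 10, 13],
  [10, 8, 15, 16], [4, 9, 17, 0], [3, 6, 18, 19], [13, 7, 20, 5], [6, 3, 21, 22], [21, 15, 0, 17],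
  [19, 16, 9, 8], [9, 4, 23, 2], [23, 20, 19, 18], [18, 11, 1, 14], [22, 12, 13, 10],
  [20, 23, 22, 21], [15, 21, 2, 23], [12, 22, 4, 3], [17, 14, 12, 11], [11, 18, 5, 20],
  [16, 19, 7, 6], [14, 17, 16, 15]]

/-- Table for the octahedral group. -/
def octCoef : List (List ℤ) :=
 [[1, 1, 1, 1], [-1, 1, 1, 1], [-1, -1, 1, 1], [1, 1, 2, 2], [1, 1, 2, 2], [1, -1, -1, 1],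
  [-1, 1, 2, 2], [-1, -1, 2, -2], [-1, -1, 2, 2], [-1, 1, 2, -2], [1, -1, 2, 2], [1, 1, 4, 2],
  [1, -1, -2, 1], [1, -1, 2, 2], [1, 1, 2, -1], [1, -1, 4, -2], [-1, 1, -2, -1], [-1, 1, -2, 1],
  [-1, 1, 4, -2], [-1, -1, 2, -1], [1, -1, -2, 1], [-1, -1, -4, -2], [1, 1, -2, 1],
  [-1, -1, -2, 1]]

/-- Table for the octahedral group. -/
def octPar : List (ℕ × ℕ) :=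
 [(0, 0), (0, 0), (1, 0), (2, 0), (3, 0), (1, 1), (2, 1), (3, 1), (2, 2), (3, 2), (1, 3), (2, 3),
  (3, 3), (1, 4), (2, 4), (2, 6), (3, 6), (2, 7), (2, 8), (3, 8), (2, 9), (2, 10), (3, 10),
  (2, 13)]

/-- Table for the icosahedral group. -/
def icoQuat : List (Quat ZPhi) :=
 [(⟨1, 0⟩, ⟨0, 0⟩, ⟨0, 0⟩, ⟨0, 0⟩), (⟨0, 0⟩, ⟨1, 0⟩, ⟨0, 0⟩, ⟨0, 0⟩),
  (⟨0, 0⟩, ⟨0, 0⟩, ⟨1, 0⟩, ⟨0, 0⟩), (⟨-1, 0⟩, ⟨1, 0⟩, ⟨1, 0⟩, ⟨1, 0⟩),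
  (⟨0, 1⟩, ⟨-1, 1⟩, ⟨1, 0⟩, ⟨0, 0⟩), (⟨0, 0⟩, ⟨0, 0⟩, ⟨0, 0⟩, ⟨-1, 0⟩),
  (⟨-1, 0⟩, ⟨-1, 0⟩, ⟨1, 0⟩, ⟨-1, 0⟩), (⟨1, -1⟩, ⟨0, 1⟩, ⟨0, 0⟩, ⟨-1, 0⟩),
  (⟨-1, 0⟩, ⟨-1, 0⟩, ⟨-1, 0⟩, ⟨1, 0⟩), (⟨-1, 0⟩, ⟨0, 0⟩, ⟨0, 1⟩, ⟨-1, 1⟩),
  (⟨-1, 0⟩, ⟨1, 0⟩, ⟨-1, 0⟩, ⟨-1, 0⟩), (⟨-1, 0⟩, ⟨-1, 0⟩, ⟨-1, 0⟩, ⟨-1, 0⟩),
  (⟨0, -1⟩, ⟨1, 0⟩, ⟨0, 0⟩, ⟨-1, 1⟩), (⟨1, -1⟩, ⟨0, 1⟩, ⟨0, 0⟩, ⟨1, 0⟩),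
  (⟨-1, 0⟩, ⟨0, 0⟩, ⟨0, 1⟩, ⟨1, -1⟩), (⟨0, -1⟩, ⟨0, 0⟩, ⟨-1, 1⟩, ⟨1, 0⟩),
  (⟨-1, 1⟩, ⟨1, 0⟩, ⟨0, 1⟩, ⟨0, 0⟩), (⟨0, 0⟩, ⟨-1, 0⟩, ⟨-1, 1⟩, ⟨0, -1⟩),
  (⟨1, 0⟩, ⟨-1, 0⟩, ⟨-1, 0⟩, ⟨1, 0⟩), (⟨-1, 0⟩, ⟨0, -1⟩, ⟨-1, 1⟩, ⟨0, 0⟩),
  (⟨0, -1⟩, ⟨1, -1⟩, ⟨1, 0⟩, ⟨0, 0⟩), (⟨0, 0⟩, ⟨-1, 0⟩, ⟨1, -1⟩, ⟨0, -1⟩),
  (⟨0, 0⟩, ⟨0, -1⟩, ⟨1, 0⟩, ⟨1, -1⟩), (⟨-1, 0⟩, ⟨-1, 1⟩, ⟨0, 0⟩, ⟨0, -1⟩),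
  (⟨1, 0⟩, ⟨1, 0⟩, ⟨-1, 0⟩, ⟨-1, 0⟩), (⟨0, 0⟩, ⟨1, -1⟩, ⟨0, -1⟩, ⟨1, 0⟩),
  (⟨0, 0⟩, ⟨-1, 0⟩, ⟨1, -1⟩, ⟨0, 1⟩), (⟨0, -1⟩, ⟨-1, 1⟩, ⟨-1, 0⟩, ⟨0, 0⟩),
  (⟨1, 0⟩, ⟨-1, 0⟩, ⟨1, 0⟩, ⟨-1, 0⟩), (⟨1, -1⟩, ⟨0, 0⟩, ⟨-1, 0⟩, ⟨0, -1⟩),
  (⟨0, 0⟩, ⟨0, -1⟩, ⟨-1, 0⟩, ⟨1, -1⟩), (⟨-1, 0⟩, ⟨0, -1⟩, ⟨1, -1⟩, ⟨0, 0⟩),
  (⟨0, 0⟩, ⟨-1, 1⟩, ⟨0, -1⟩, ⟨-1, 0⟩), (⟨0, 0⟩, ⟨1, 0⟩, ⟨1, -1⟩, ⟨0, -1⟩),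
  (⟨-1, 0⟩, ⟨1, -1⟩, ⟨0, 0⟩, ⟨0, -1⟩), (⟨-1, 0⟩, ⟨0, 1⟩, ⟨1, -1⟩, ⟨0, 0⟩),
  (⟨0, 0⟩, ⟨0, -1⟩, ⟨-1, 0⟩, ⟨-1, 1⟩), (⟨1, -1⟩, ⟨1, 0⟩, ⟨0, -1⟩, ⟨0, 0⟩),
  (⟨0, 0⟩, ⟨1, -1⟩, ⟨0, -1⟩, ⟨-1, 0⟩), (⟨0, -1⟩, ⟨0, 0⟩, ⟨1, -1⟩, ⟨1, 0⟩),
  (⟨-1, 0⟩, ⟨-1, 1⟩, ⟨0, 0⟩, ⟨0, 1⟩), (⟨0, -1⟩, ⟨0, 0⟩, ⟨-1, 1⟩, ⟨-1, 0⟩),
  (⟨0, -1⟩, ⟨-1, 0⟩, ⟨0, 0⟩, ⟨-1, 1⟩), (⟨1, -1⟩, ⟨1, 0⟩, ⟨0, 1⟩, ⟨0, 0⟩),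
  (⟨1, 0⟩, ⟨0, 0⟩, ⟨0, 1⟩, ⟨-1, 1⟩), (⟨1, -1⟩, ⟨0, -1⟩, ⟨0, 0⟩, ⟨1, 0⟩),
  (⟨0, 1⟩, ⟨-1, 0⟩, ⟨0, 0⟩, ⟨-1, 1⟩), (⟨1, -1⟩, ⟨0, 0⟩, ⟨-1, 0⟩, ⟨0, 1⟩),
  (⟨-1, 0⟩, ⟨0, 0⟩, ⟨0, -1⟩, ⟨-1, 1⟩), (⟨0, 1⟩, ⟨0, 0⟩, ⟨-1, 1⟩, ⟨1, 0⟩),
  (⟨-1, 0⟩, ⟨1, -1⟩, ⟨0, 0⟩, ⟨0, 1⟩), (⟨-1, 1⟩, ⟨0, 0⟩, ⟨-1, 0⟩, ⟨0, 1⟩),
  (⟨0, 0⟩, ⟨0, -1⟩, ⟨1, 0⟩, ⟨-1, 1⟩), (⟨1, -1⟩, ⟨-1, 0⟩, ⟨0, 1⟩, ⟨0, 0⟩),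
  (⟨-1, 1⟩, ⟨0, 0⟩, ⟨-1, 0⟩, ⟨0, -1⟩), (⟨0, 1⟩, ⟨1, 0⟩, ⟨0, 0⟩, ⟨-1, 1⟩),
  (⟨-1, 1⟩, ⟨0, 1⟩, ⟨0, 0⟩, ⟨1, 0⟩), (⟨0, 0⟩, ⟨1, -1⟩, ⟨0, 1⟩, ⟨-1, 0⟩),
  (⟨1, 0⟩, ⟨0, -1⟩, ⟨1, -1⟩, ⟨0, 0⟩), (⟨0, -1⟩, ⟨-1, 1⟩, ⟨1, 0⟩, ⟨0, 0⟩)]

/-- Table for the icosahedral group. -/
def icoImg : List (List (Fin 5)) :=
 [[0, 1, 2, 3, 4], [0, 3, 4, 1, 2], [0, 2, 1, 4, 3], [0, 1, 3, 4, 2], [3, 2, 0, 4, 1],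
  [0, 4, 3, 2, 1], [0, 4, 2, 1, 3], [3, 4, 1, 2, 0], [0, 3, 1, 2, 4], [3, 0, 2, 1, 4],
  [0, 2, 4, 3, 1], [0, 1, 4, 2, 3], [3, 2, 4, 1, 0], [1, 4, 0, 2, 3], [4, 1, 0, 3, 2],
  [4, 3, 0, 2, 1], [4, 0, 3, 1, 2], [3, 1, 4, 0, 2], [0, 2, 3, 1, 4], [3, 1, 0, 2, 4],
  [1, 2, 3, 4, 0], [4, 3, 2, 1, 0], [4, 2, 1, 3, 0], [4, 1, 2, 0, 3], [0, 4, 1, 3, 2],
  [3, 4, 2, 0, 1], [1, 0, 4, 3, 2], [4, 0, 1, 2, 3], [0, 3, 2, 4, 1], [3, 0, 1, 4, 2],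
  [3, 2, 1, 0, 4], [1, 4, 2, 3, 0], [4, 1, 3, 2, 0], [2, 3, 0, 1, 4], [1, 2, 0, 3, 4],
  [2, 1, 3, 0, 4], [2, 1, 0, 4, 3], [3, 4, 0, 1, 2], [2, 4, 0, 3, 1], [1, 4, 3, 0, 2],
  [2, 0, 1, 3, 4], [3, 0, 4, 2, 1], [2, 0, 4, 1, 3], [1, 3, 4, 2, 0], [1, 3, 2, 0, 4],
  [4, 2, 3, 0, 1], [1, 3, 0, 4, 2], [4, 2, 0, 1, 3], [2, 1, 4, 3, 0], [2, 4, 3, 1, 0],
  [3, 1, 2, 4, 0], [2, 3, 1, 4, 0], [1, 0, 2, 4, 3], [2, 3, 4, 0, 1], [1, 2, 4, 0, 3],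
  [4, 3, 1, 0, 2], [2, 0, 3, 4, 1], [1, 0, 3, 2, 4], [4, 0, 2, 3, 1], [2, 4, 1, 0, 3]]

/-- Table for the icosahedral group. -/
def icoInv : List ℕ :=
 [0, 1, 2, 11, 59, 5, 28, 45, 18, 44, 24, 3, 55, 56, 48, 49, 43, 17, 8, 35, 27, 21, 22, 50, 10, 25,
  26, 20, 6, 54, 30, 58, 32, 33, 40, 19, 36, 53, 38, 41, 34, 39, 46, 16, 9, 7, 42, 51, 14, 15, 23,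
  47, 52, 37, 29, 12, 13, 57, 31, 4]

/-- Table for the icosahedral group. -/
def icoNext : List (List ℕ) :=
 [[1, 2, 3, 4], [0, 5, 6, 7], [5, 0, 8, 9], [8, 10, 11, 12], [13, 14, 15, 16], [2, 1, 10, 17],
  [10, 8, 18, 19], [20, 21, 22, 23], [3, 6, 24, 25], [26, 27, 16, 15], [6, 3, 28, 29],
  [28, 18, 0, 30], [31, 32, 21, 27], [4, 33, 34, 35], [33, 4, 36, 20], [36, 37, 38, 39],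
  [40, 41, 42, 43], [44, 45, 23, 22], [24, 11, 1, 41], [46, 47, 14, 45], [7, 48, 43, 42],
  [48, 7, 49, 13], [49, 50, 51, 52], [53, 30, 35, 34], [18, 28, 2, 50], [54, 55, 45, 14],
  [9, 56, 52, 51], [56, 9, 40, 44], [11, 24, 5, 37], [57, 58, 27, 21], [39, 23, 55, 58],
  [12, 51, 20, 36], [51, 12, 48, 54], [14, 13, 37, 5], [37, 36, 46, 56], [55, 54, 17, 10],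
  [15, 34, 19, 18], [34, 15, 47, 32], [47, 46, 4, 3], [30, 53, 54, 48], [16, 52, 29, 28],
  [52, 16, 58, 55], [58, 57, 9, 8], [50, 49, 31, 59], [17, 59, 39, 38], [59, 17, 53, 26],
  [19, 38, 13, 49], [38, 19, 33, 57], [21, 20, 50, 2], [22, 43, 12, 11], [43, 22, 32, 47],
  [32, 31, 7, 6], [41, 40, 57, 33], [23, 39, 25, 24], [25, 35, 44, 40], [35, 25, 59, 31],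
  [27, 26, 41, 1], [29, 42, 26, 53], [42, 29, 56, 46], [45, 44, 30, 0]]

/-- Table for the icosahedral group. -/
def icoCoef : List (List ℤ) :=
 [[1, 1, 1, 1], [-1, 1, 1, 1], [-1, -1, 1, 1], [1, 1, 2, 2], [1, 1, 2, 2], [1, -1, -1, 1],
  [-1, 1, 2, 2], [1, 1, 2, 2], [-1, -1, 2, 2], [1, 1, -2, 2], [1, -1, 2, 2], [1, 1, 4, 2],
  [1, 1, 2, 2], [-1, 1, 2, 2], [-1, -1, 2, 2], [1, 1, 2, 2], [1, 1, 2, 2], [1, 1, -2, 2],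
  [1, -1, 4, -2], [1, 1, -2, 2], [-1, 1, -2, 2], [-1, -1, 2, -2], [1, 1, 2, 2], [1, 1, -2, 2],
  [-1, 1, 4, -2], [1, 1, -2, -2], [-1, 1, -2, 2], [-1, -1, -2, -2], [-1, -1, -4, -2],
  [1, 1, -2, 2], [-1, -1, 2, 2], [-1, 1, -2, 2], [-1, -1, -2, 2], [1, -1, -2, 4], [-1, 1, 2, -2],
  [-1, 1, 2, 2], [-1, -1, -2, 2], [1, -1, -2, 2], [-1, 1, 2, -2], [1, -1, 2, 2], [-1, -1, 2, -2],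
  [1, -1, 2, -2], [1, -1, -2, 2], [1, -1, 2, 2], [-1, 1, 2, -2], [-1, -1, -2, 2], [-1, -1, 2, 2],
  [1, -1, 2, -2], [1, -1, -2, -4], [-1, 1, 2, -2], [-1, -1, 2, 2], [1, -1, 2, -2], [-1, 1, -2, -2],
  [-1, 1, 2, -2], [-1, -1, 2, -2], [1, -1, 2, -2], [1, -1, 2, 4], [-1, 1, 2, 2], [-1, -1, 2, 2],
  [1, -1, 2, -4]]

/-- Table for the icosahedral group. -/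
def icoPar : List (ℕ × ℕ) :=
 [(0, 0), (0, 0), (1, 0), (2, 0), (3, 0), (1, 1), (2, 1), (3, 1), (2, 2), (3, 2), (1, 3), (2, 3),
  (3, 3), (0, 4), (1, 4), (2, 4), (3, 4), (3, 5), (2, 6), (3, 6), (0, 7), (1, 7), (2, 7), (3, 7),
  (2, 8), (3, 8), (0, 9), (1, 9), (2, 10), (3, 10), (3, 11), (0, 12), (1, 12), (1, 13), (2, 13),
  (3, 13), (2, 14), (1, 15), (2, 15), (3, 15), (0, 16), (1, 16), (2, 16), (3, 16), (0, 17),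
  (1, 17), (0, 19), (1, 19), (1, 20), (2, 21), (1, 22), (2, 22), (3, 22), (0, 23), (0, 25),
  (1, 25), (1, 26), (0, 29), (1, 29), (3, 43)]
end CfsgLib.Classical.Dickson
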