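import Cfsg.Agent.Lib.Classical.Dickson.Stabilisers
import Cfsg.Agent.Lib.TwoGroups.Recognition
import Cfsg.Agent.Lib.Recog.SimpleSixty

/-!
The dihedral, tetrahedral, octahedral and icosahedral cases.
-/

set_option autoImplicit false

namespace CfsgLib.Classical.Dickson

open Matrix
open MulAction (orbit stabilizer)
open scoped LinearAlgebra.Projectivization MatrixGroups

section Sixty

variable {G : Type*} [Group G] [Finite G]

theorem five_dvd_of_free {t : G} (ht : orderOf t = 5)
    (hC : ∀ g : G, Commute g t → g ∈ Subgroup.zpowers t) (S : Set G)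
    (hinv : ∀ a ∈ Subgroup.zpowers t, ∀ g ∈ S, a * g * a⁻¹ ∈ S)
    (hdis : ∀ g ∈ S, g ∉ Subgroup.zpowers t) : 5 ∣ Nat.card S := by
  let A := Subgroup.zpowers t
  let _ : MulAction A S :=
    { smul := fun a g => ⟨(a : G) * g.1 * (a : G)⁻¹, hinv a a.2 g.1 g.2⟩
      one_smul := fun g => Subtype.ext (by show (1 : G) * g.1 * 1⁻¹ = g.1; group)
      mul_smul := fun a b g => Subtype.ext (by
        show ((a : G) * b) * g.1 * ((a : G) * b)⁻¹ = (a : G) * ((b : G) * g.1 * (b : G)⁻¹) * (a : G)⁻¹
        group) }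
  have h := ClassSizes.card_dvd_card_of_free (A := A) (X := S) fun g =>
    (Subgroup.eq_bot_iff_forall _).2 fun a ha => by
      by_contra hne
      have hcomm : (a : G) * g.1 = g.1 * a := mul_inv_eq_iff_eq_mul.1 (congrArg Subtype.val ha)
      have hprime : (Nat.card A).Prime := by rw [Nat.card_zpowers, ht]; norm_num
      have : Fact (Nat.card A).Prime := ⟨hprime⟩
      have hgen : Subgroup.zpowers a = ⊤ := zpowers_eq_top_of_prime_card rfl hne
      obtain ⟨k, hk⟩ := Subgroup.mem_zpowers_iff.1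
        (hgen ▸ Subgroup.mem_top (⟨t, Subgroup.mem_zpowers t⟩ : A))
      refine hdis g.1 g.2 (hC g.1 ?_)
      rw [show t = (a : G) ^ k from (congrArg Subtype.val hk).symm]
      exact (Commute.zpow_right hcomm.symm k)
  rwa [Nat.card_zpowers, ht] at h

/-- A group of order 60 with self-centralising, non-normal Sylow 5-subgroups is simple. -/
theorem isSimple_of_sixty (h : Nat.card G = 60)
    (hC : ∀ t : G, orderOf t = 5 → ∀ g : G, Commute g t → g ∈ Subgroup.zpowers t)
    (hn : Nat.card (Sylow 5 G) ≠ 1) : IsSimpleGroup G := by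
  have : Fact (Nat.Prime 5) := ⟨by norm_num⟩
  have : Fact (Nat.Prime 3) := ⟨by norm_num⟩
  have : Nontrivial G := Finite.one_lt_card_iff_nontrivial.1 (by omega)
  refine ⟨fun N hN => ?_⟩
  by_contra hc
  push Not at hc
  obtain ⟨hb, ht⟩ := hc
  have hd : Nat.card N ∣ 60 := h ▸ N.card_subgroup_dvd_card
  have h1 : Nat.card N ≠ 1 := fun e => hb (Subgroup.card_eq_one.1 e)
  have h60 : Nat.card N ≠ 60 := fun e => ht (Subgroup.eq_top_of_card_eq N (e.trans h.symm))
  by_cases h5 : 5 ∣ Nat.card N
  · have hN5 : Nat.card (Sylow 5 N) = 1 := by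
      obtain ⟨d, hd5⟩ := h5
      by_cases h30 : Nat.card N = 30
      · obtain ⟨M, hM, hM5⟩ := CfsgLib.Recog.Sixty.exists_normal_five h30
        obtain ⟨P, hP⟩ : ∃ P : Sylow 5 N, (P : Subgroup N) = M := by
          obtain ⟨P, hP⟩ := (IsPGroup.of_card (n := 1) (by rw [hM5, pow_one])).exists_le_sylow (G := N)
          refine ⟨P, (Subgroup.eq_of_le_of_card_ge hP ?_).symm⟩
          rw [CfsgLib.Perm.sylow_card_eq P (k := 1) (m := 6) (by rw [h30]; norm_num) (by norm_num), hM5]
          norm_num
        have : (P : Subgroup N).Normal := hP ▸ hM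
        have := Sylow.unique_of_normal P this
        exact Nat.card_unique
      · have hd12 : d ∣ 12 := Nat.dvd_of_mul_dvd_mul_left (by norm_num : 0 < 5) (by rw [← hd5]; exact hd)
        have hdd : Nat.card (Sylow 5 N) ∣ d :=
          CfsgLib.Perm.card_sylow_dvd_of_card_eq (k := 1) (by rw [hd5, pow_one])
        have hmod : Nat.card (Sylow 5 N) % 5 = 1 := card_sylow_modEq_one 5 N
        have hd0 : d ∈ Nat.divisors 12 := Nat.mem_divisors.2 ⟨hd12, by norm_num⟩
        rw [show Nat.divisors 12 = {1, 2, 3, 4, 6, 12} by decide] at hd0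
        simp only [Finset.mem_insert, Finset.mem_singleton] at hd0
        have hd4 : d ≤ 4 := by omega
        have hd1 : 1 ≤ d := by omega
        have hle' := Nat.le_of_dvd hd1 hdd
        omega
    obtain ⟨P⟩ := (inferInstance : Nonempty (Sylow 5 N))
    have := (Nat.card_eq_one_iff_unique.1 hN5).1
    have : (P : Subgroup N).Characteristic := P.characteristic_of_subsingleton
    have hnor : ((P : Subgroup N).map N.subtype).Normal := inferInstance
    have hP5 : Nat.card ((P : Subgroup N).map N.subtype) = 5 := by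
      rw [← Nat.card_congr ((P : Subgroup N).equivMapOfInjective _ N.subtype_injective).toEquiv]
      obtain ⟨d, hd5⟩ := h5
      refine (CfsgLib.Perm.sylow_card_eq P (k := 1) (m := d) (by rw [hd5, pow_one]) ?_).trans (pow_one 5)
      intro h5d
      have : 25 ∣ 60 := dvd_trans (by rw [hd5]; exact mul_dvd_mul_left 5 h5d) hd
      norm_num at this
    obtain ⟨Q, hQ⟩ := (IsPGroup.of_card (n := 1) (by rw [hP5, pow_one])).exists_le_sylow (G := G)
    have hQeq := Subgroup.eq_of_le_of_card_ge hQ (by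
      rw [CfsgLib.Perm.sylow_card_eq Q (k := 1) (m := 12) (by rw [h]; norm_num) (by norm_num), hP5]
      norm_num)
    have : (Q : Subgroup G).Normal := hQeq ▸ hnor
    have := Sylow.unique_of_normal Q this
    exact hn Nat.card_unique
  · obtain ⟨t, ht5⟩ := exists_prime_orderOf_dvd_card' (G := G) 5 (by rw [h]; norm_num)
    have hdisj : ∀ g ∈ N, g ≠ 1 → g ∉ Subgroup.zpowers t := by
      intro g hg hg1 hgt
      have hord : orderOf g = 5 := by
        have h' := orderOf_dvd_of_mem_zpowers hgt
        rw [ht5] at h'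
        exact ((Nat.dvd_prime (by norm_num)).1 h').resolve_left fun e => hg1 (orderOf_eq_one_iff.1 e)
      exact h5 (hord ▸ Subgroup.orderOf_mk g hg ▸ orderOf_dvd_natCard (⟨g, hg⟩ : N))
    have hdvd := five_dvd_of_free ht5 (hC t ht5) ((N : Set G) \ {1})
      (fun a _ g hg => ⟨hN.conj_mem g hg.1 a, fun e => hg.2 (conj_eq_one_iff.1 e)⟩)
      (fun g hg => hdisj g hg.1 hg.2)
    rw [Nat.card_coe_set_eq, Set.ncard_sdiff_singleton_of_mem N.one_mem, ← Nat.card_coe_set_eq,
      show Nat.card ((N : Set G) : Type _) = Nat.card N from rfl] at hdvd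
    have hdiv : Nat.card N ∈ Nat.divisors 60 := Nat.mem_divisors.2 ⟨hd, by norm_num⟩
    rw [show Nat.divisors 60 = {1, 2, 3, 4, 5, 6, 10, 12, 15, 20, 30, 60} by decide] at hdiv
    have h6 : Nat.card N = 6 := by
      simp only [Finset.mem_insert, Finset.mem_singleton] at hdiv
      omega
    obtain ⟨P⟩ := (inferInstance : Nonempty (Sylow 3 N))
    have hP3 : Nat.card (P : Subgroup N) = 3 :=
      (CfsgLib.Perm.sylow_card_eq P (k := 1) (m := 2) (by rw [h6]; norm_num) (by norm_num)).trans (pow_one 3)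
    have hP1 : Nat.card (Sylow 3 N) = 1 := by
      have hd : Nat.card (Sylow 3 N) ∣ 2 :=
        CfsgLib.Perm.card_sylow_dvd_of_card_eq (k := 1) (by rw [h6]; norm_num)
      have hmod : Nat.card (Sylow 3 N) % 3 = 1 := card_sylow_modEq_one 3 N
      rcases (Nat.dvd_prime Nat.prime_two).1 hd with e | e <;> omega
    have := (Nat.card_eq_one_iff_unique.1 hP1).1
    have : (P : Subgroup N).Characteristic := P.characteristic_of_subsingleton
    have hnor : ((P : Subgroup N).map N.subtype).Normal := inferInstance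
    have hle : (P : Subgroup N).map N.subtype ≤ N := Subgroup.map_subtype_le _
    have hdvd' := five_dvd_of_free ht5 (hC t ht5) (((P : Subgroup N).map N.subtype : Set G) \ {1})
      (fun a _ g hg => ⟨hnor.conj_mem g hg.1 a, fun e => hg.2 (conj_eq_one_iff.1 e)⟩)
      (fun g hg => hdisj g (hle hg.1) hg.2)
    rw [Nat.card_coe_set_eq, Set.ncard_sdiff_singleton_of_mem (one_mem _), ← Nat.card_coe_set_eq,
      show Nat.card (((P : Subgroup N).map N.subtype : Set G) : Type _) =
        Nat.card ((P : Subgroup N).map N.subtype) from rfl,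
      ← Nat.card_congr ((P : Subgroup N).equivMapOfInjective _ N.subtype_injective).toEquiv, hP3] at hdvd'
    norm_num at hdvd'

end Sixty

variable {L : Type*} [Field L] [IsAlgClosed L] {p : ℕ} [Fact p.Prime] [CharP L p]
  {G : Subgroup (Mob L)} [Finite G]

theorem nonempty_dihedral {y : Pt L} (hf : unCard G p y = 1) (hk : orbCard G y = 2)
    (hs : 2 ≤ stCard G y) :
    ∃ C : Subgroup G, IsCyclic C ∧ Nat.card C = stCard G y ∧ ¬ p ∣ stCard G y ∧
      Nonempty (G ≃* DihedralGroup (stCard G y)) := by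
  classical
  obtain ⟨hcyc, hcard, hp⟩ := stab_cyclic (p := p) (G := G) hf
  refine ⟨stabilizer G y, hcyc, hcard, hp, ?_⟩
  obtain ⟨⟨a, ha⟩, hgen⟩ := hcyc.exists_generator
  have hord : orderOf a = stCard G y := by
    rw [← hcard, ← orderOf_eq_card_of_forall_mem_zpowers hgen]
    exact (Subgroup.orderOf_mk a ha).symm
  rw [orbCard] at hk
  have : Finite (orbit G y) := Nat.finite_of_card_ne_zero (by omega)
  obtain ⟨⟨y', hy'⟩, hne⟩ := exists_ne_of_card (α := orbit G y) (by omega) ⟨y, MulAction.mem_orbit_self y⟩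
  have hne' : y' ≠ y := fun e => hne (Subtype.ext e)
  obtain ⟨b, hb⟩ := hy'
  have hset : ∀ z ∈ orbit G y, z = y ∨ z = y' := by
    intro z hz
    by_contra! hn
    have hu : ({y, y', z} : Finset (Pt L)) ⊆ (Set.toFinite (orbit G y)).toFinset := by
      intro w hw
      simp only [Finset.mem_insert, Finset.mem_singleton] at hw
      rw [Set.Finite.mem_toFinset]
      rcases hw with rfl | rfl | rfl
      exacts [MulAction.mem_orbit_self _, ⟨b, hb⟩, hz]
    have hc := Finset.card_le_card hu
    rw [Finset.card_insert_of_notMem (by simp [Ne.symm hne', Ne.symm hn.1]),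
      Finset.card_pair (Ne.symm hn.2), ← Nat.card_eq_card_finite_toFinset, hk] at hc
    omega
  have hay : a • y = y := ha
  have hay' : a • y' = y' := (hset _ (MulAction.mem_orbit_of_mem_orbit a ⟨b, hb⟩)).resolve_left
    fun e => hne' (smul_left_cancel a (e.trans hay.symm))
  have hby : b • y = y' := hb
  have hby' : b • y' = y := (hset _ (MulAction.mem_orbit_of_mem_orbit b ⟨b, hb⟩)).resolve_right
    fun e => hne' (smul_left_cancel b (e.trans hby.symm))
  obtain ⟨hb2, hba⟩ := swap_inverts (g := (a : Mob L)) (w := (b : Mob L)) hne'.symm hay hay' hby hby'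
  have : NeZero (stCard G y) := ⟨by omega⟩
  refine CfsgLib.TwoGroups.nonempty_mulEquiv_dihedralGroup hord (b := b) (Subtype.ext hb2) ?_
    (Subtype.ext hba) ?_
  · intro hmem
    have : b • y = y := (Subgroup.zpowers_le.2 (show a ∈ stabilizer G y from hay)) hmem
    exact hne' (hby.symm.trans this)
  · have h := orbCard_mul_stCard (G := G) y
    rw [orbCard, hk] at h
    exact h.symm

theorem nonempty_alternating_four (hN : Nat.card G = 12) {x : Pt L} (hx : orbCard G x = 4) :
    Nonempty (G ≃* alternatingGroup (Fin 4)) := by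
  obtain ⟨f, hf⟩ := orbit_perm (G := G) (m := 4) (by norm_num) hx
  have hidx : f.range.index = 2 := by
    have h := f.range.card_mul_index
    rw [← Nat.card_congr (MonoidHom.ofInjective hf).toEquiv, Nat.card_perm, Nat.card_fin, hN] at h
    simp [Nat.factorial] at h
    omega
  exact ⟨(MonoidHom.ofInjective hf).trans
    (MulEquiv.subgroupCongr (Equiv.Perm.eq_alternatingGroup_of_index_eq_two hidx))⟩

theorem nonempty_perm_four (hN : Nat.card G = 24) {x : Pt L} (hx : orbCard G x = 4) :
    Nonempty (G ≃* Equiv.Perm (Fin 4)) := by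
  obtain ⟨f, hf⟩ := orbit_perm (G := G) (m := 4) (by norm_num) hx
  exact ⟨MulEquiv.ofBijective f ((Nat.bijective_iff_injective_and_card f).2
    ⟨hf, by rw [hN, Nat.card_perm, Nat.card_fin]; rfl⟩)⟩

theorem nonempty_perm_four' (hN : Nat.card G = 24) {x : Pt L} (hx : orbCard G x = 8)
    (hs : stCard G x = 3) (hf : unCard G p x = 1) :
    Nonempty (G ≃* Equiv.Perm (Fin 4)) := by
  classical
  have : Fact (Nat.Prime 3) := ⟨by norm_num⟩
  have hstab : ∀ z ∈ orbit G x, Nat.card (stabilizer G z) = 3 ∧ unCard G p z = 1 := by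
    rintro z ⟨g, rfl⟩
    have e : unCard G p (g • x) = 1 := (unCard_smul p g x).trans hf
    exact ⟨(stab_cyclic (p := p) e).2.1.trans ((stCard_smul g x).trans hs), e⟩
  have hpair : ∀ z ∈ orbit G x, ∃ t : G, orderOf t = 3 ∧ t • z = z ∧
      stabilizer G z = Subgroup.zpowers t ∧ ∃ z', z' ≠ z ∧ t • z' = z' ∧
        ∀ w, t • w = w → w = z ∨ w = z' := by
    intro z hz
    obtain ⟨h3, hu⟩ := hstab z hz
    obtain ⟨t, ht⟩ := exists_prime_orderOf_dvd_card' (G := stabilizer G z) 3 (by rw [h3])
    have ht' : orderOf (t : G) = 3 := by rw [Subgroup.orderOf_coe]; exact ht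
    have hne : (t : G) ≠ 1 := fun e => by rw [e, orderOf_one] at ht'; omega
    refine ⟨t, ht', t.2, (Subgroup.eq_of_le_of_card_ge (Subgroup.zpowers_le.2 t.2)
      (by rw [Nat.card_zpowers, ht', h3])).symm, ?_⟩
    obtain ⟨w, hw, ⟨hp1, -⟩ | ⟨-, w', hww', hw', hall⟩⟩ := fixHyp (p := p) (t : G) hne
    · exfalso
      have : 2 ≤ unCard G p z := by
        refine Finite.one_lt_card_iff_nontrivial.2 ⟨⟨⟨t, t.2, hp1⟩, ⟨1, one_smul _ _, one_pow _⟩, ?_⟩⟩
        exact fun e => hne (congrArg Subtype.val e)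
      omega
    · rcases hall z t.2 with rfl | rfl
      · exact ⟨w', hww', hw', hall⟩
      · exact ⟨w, hww'.symm, hw, fun v hv => (hall v hv).symm⟩
  rw [orbCard] at hx
  have : Finite (orbit G x) := Nat.finite_of_card_ne_zero (by omega)
  have hQcard : ∀ Q : Sylow 3 G, Nat.card (Q : Subgroup G) = 3 := fun Q =>
    (CfsgLib.Perm.sylow_card_eq Q (k := 1) (m := 8) (by rw [hN]; norm_num) (by norm_num)).trans (pow_one 3)
  have hsyl : ∀ z ∈ orbit G x, ∃ Q : Sylow 3 G, (Q : Subgroup G) = stabilizer G z := by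
    intro z hz
    obtain ⟨Q, hQ⟩ := (IsPGroup.of_card (n := 1) (by rw [(hstab z hz).1, pow_one])).exists_le_sylow (G := G)
    exact ⟨Q, (Subgroup.eq_of_le_of_card_ge hQ (by rw [hQcard, (hstab z hz).1])).symm⟩
  -- two points of the orbit with different stabilisers
  obtain ⟨t, ht3, htx, htst, x', hx'x, htx', htall⟩ := hpair x (MulAction.mem_orbit_self x)
  obtain ⟨z₁, hz₁, hz₁x, hz₁x'⟩ : ∃ z ∈ orbit G x, z ≠ x ∧ z ≠ x' := by
    by_contra! h
    have hu : (Set.toFinite (orbit G x)).toFinset ⊆ ({x, x'} : Finset (Pt L)) := by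
      intro w hw
      rw [Set.Finite.mem_toFinset] at hw
      by_cases e : w = x
      · simp [e]
      · simp [h w hw e]
    have := Finset.card_le_card hu
    rw [← Nat.card_eq_card_finite_toFinset, hx, Finset.card_pair hx'x.symm] at this
    omega
  have hdiff : stabilizer G z₁ ≠ stabilizer G x := fun e => by
    have : t • z₁ = z₁ := by
      rw [← MulAction.mem_stabilizer_iff, e]; exact htx
    exact (htall z₁ this).elim hz₁x hz₁x'
  have hn4 : Nat.card (Sylow 3 G) = 4 := by
    have hd : Nat.card (Sylow 3 G) ∣ 8 :=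
      CfsgLib.Perm.card_sylow_dvd_of_card_eq (k := 1) (by rw [hN]; norm_num)
    have hmod : Nat.card (Sylow 3 G) % 3 = 1 := card_sylow_modEq_one 3 G
    obtain ⟨Q₀, hQ₀⟩ := hsyl x (MulAction.mem_orbit_self x)
    obtain ⟨Q₁, hQ₁⟩ := hsyl z₁ hz₁
    have hne : Q₁ ≠ Q₀ := fun e => hdiff (by rw [← hQ₁, e, hQ₀])
    have h2 : 2 ≤ Nat.card (Sylow 3 G) := Finite.one_lt_card_iff_nontrivial.2 ⟨⟨Q₁, Q₀, hne⟩⟩
    have hle := Nat.le_of_dvd (by norm_num) hd
    interval_cases (Nat.card (Sylow 3 G)) <;> omega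
  let φ : G →* Equiv.Perm (Sylow 3 G) := MulAction.toPermHom G (Sylow 3 G)
  have hker : ∀ g, φ g = 1 → g ≠ 1 → ∀ z ∈ orbit G x, g • z ≠ z ∧
      ∀ u, (∀ s ∈ stabilizer G z, s • u = u) → u ≠ z → g • z = u ∧ g • u = z := by
    intro g hg hg1 z hz
    obtain ⟨s, hs3, hsz, hsst, z', hz'z, hsz', hsall⟩ := hpair z hz
    have hperm : ∀ w ∈ orbit G x, stabilizer G (g • w) = stabilizer G w := by
      intro w hw
      obtain ⟨Q, hQ⟩ := hsyl w hw
      have h1 : g • Q = Q := DFunLike.congr_fun hg Q
      rw [MulAction.stabilizer_smul_eq_stabilizer_map_conj, ← hQ]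
      conv_rhs => rw [← h1]
      rfl
    have hgz : g • z = z ∨ g • z = z' := by
      refine hsall _ ?_
      rw [← MulAction.mem_stabilizer_iff, hperm z hz, hsst]
      exact Subgroup.mem_zpowers s
    have hgne : g • z ≠ z := by
      intro hgz'
      have hgs : g ∈ stabilizer G z := hgz'
      obtain ⟨w₁, hw₁, hw₁d⟩ : ∃ w ∈ orbit G x, stabilizer G w ≠ stabilizer G z := by
        by_cases e : stabilizer G x = stabilizer G z
        · exact ⟨z₁, hz₁, fun h => hdiff (h.trans e.symm)⟩
        · exact ⟨x, MulAction.mem_orbit_self x, e⟩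
      obtain ⟨r, hr3, hrw, hrst, w', hw'w, hrw', hrall⟩ := hpair w₁ hw₁
      have hgw : g • w₁ = w₁ ∨ g • w₁ = w' := by
        refine hrall _ ?_
        rw [← MulAction.mem_stabilizer_iff, hperm w₁ hw₁, hrst]
        exact Subgroup.mem_zpowers r
      have hg3 : orderOf g = 3 := by
        have h := Subgroup.orderOf_dvd_natCard (stabilizer G z) hgs
        rw [(hstab z hz).1] at h
        exact ((Nat.dvd_prime (by norm_num)).1 h).resolve_left fun e => hg1 (orderOf_eq_one_iff.1 e)
      have hfix : g • w₁ = w₁ := by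
        rcases hgw with e | e
        · exact e
        · exfalso
          have h2 : g • w' = w₁ := by
            rcases hrall (g • w') (by
              have h1 : r • (g • w₁) = g • w₁ := by
                rw [← MulAction.mem_stabilizer_iff, hperm w₁ hw₁]; exact hrw
              have h2 : g⁻¹ * r * g ∈ stabilizer G w₁ := by
                rw [MulAction.mem_stabilizer_iff, mul_smul, mul_smul, h1, inv_smul_smul]
              rw [hrst] at h2
              have h3 : (g⁻¹ * r * g) • w' = w' := MulAction.mem_stabilizer_iff.1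
                ((Subgroup.zpowers_le.2 (show r ∈ stabilizer G w' from hrw')) h2)
              rw [mul_smul, mul_smul, inv_smul_eq_iff] at h3
              exact h3) with h | h
            · exact h
            · exact absurd (smul_left_cancel g (h.trans e.symm)) hw'w
          have h3 : g • g • g • w₁ = w₁ := by
            rw [smul_smul, smul_smul, ← pow_three', ← hg3, pow_orderOf_eq_one, one_smul]
          rw [e, h2, e] at h3
          exact hw'w h3
      refine hw₁d (Subgroup.eq_of_le_of_card_ge ?_ (le_of_eq ((hstab z hz).1.trans (hstab w₁ hw₁).1.symm)))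
      have : Subgroup.zpowers g = stabilizer G w₁ := Subgroup.eq_of_le_of_card_ge
        (Subgroup.zpowers_le.2 hfix) (by rw [Nat.card_zpowers, hg3, (hstab w₁ hw₁).1])
      rw [← this]
      exact Subgroup.zpowers_le.2 hgs
    refine ⟨hgne, fun u hu huz => ?_⟩
    have hu' : u = z' := (hsall u (hu s hsz)).resolve_left huz
    subst hu'
    have e := hgz.resolve_left hgne
    refine ⟨e, ?_⟩
    have h1 : s • (g • u) = g • u := by
      have hst : stabilizer G (g • z) = stabilizer G z := hperm z hz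
      rw [e] at hst
      have hu2 : u ∈ orbit G x := e ▸ MulAction.mem_orbit_of_mem_orbit g hz
      rw [← MulAction.mem_stabilizer_iff, hperm u hu2, hst, hsst]
      exact Subgroup.mem_zpowers s
    exact (hsall _ h1).resolve_right fun h => huz (smul_left_cancel g (h.trans e.symm))
  have hinj : Function.Injective φ := by
    rw [injective_iff_map_eq_one]
    intro g hg
    by_contra hg1
    have hxmem := MulAction.mem_orbit_self (M := G) x
    have hu : ∀ s ∈ stabilizer G x, s • x' = x' := fun s hs => by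
      rw [htst] at hs
      exact MulAction.mem_stabilizer_iff.1
        ((Subgroup.zpowers_le.2 (show t ∈ stabilizer G x' from htx')) hs)
    obtain ⟨hgx, hgx'⟩ := (hker g hg hg1 x hxmem).2 x' hu hx'x
    -- the kernel is `{1, g}`, hence central
    have hconj : φ (t * g * t⁻¹) = 1 := by rw [map_mul, map_mul, hg, mul_one, ← map_mul, mul_inv_cancel, map_one]
    have heq : t * g * t⁻¹ = g := by
      by_contra hne
      have h1 : t * g * t⁻¹ ≠ 1 := fun e => hg1 (conj_eq_one_iff.1 e)
      obtain ⟨hk, -⟩ := (hker _ hconj h1 x hxmem).2 x' hu hx'x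
      have h2 : φ (g⁻¹ * (t * g * t⁻¹)) = 1 := by rw [map_mul, map_inv, hconj, hg]; simp
      refine (hker _ h2 (fun e => hne (inv_mul_eq_one.1 e).symm) x hxmem).1 ?_
      rw [mul_smul, hk, inv_smul_eq_iff, hgx]
    obtain ⟨-, hinv⟩ := swap_inverts (g := (t : Mob L)) (w := (g : Mob L)) hx'x.symm htx htx' hgx hgx'
    have hinv' : g * t * g⁻¹ = t⁻¹ := Subtype.ext hinv
    have hgt : g * t * g⁻¹ = t := by
      rw [mul_inv_eq_iff_eq_mul]; exact (mul_inv_eq_iff_eq_mul.1 heq).symm
    have h2 : t ^ 2 = 1 := by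
      rw [pow_two]
      nth_rewrite 1 [← hgt]
      rw [hinv', inv_mul_cancel]
    have := orderOf_dvd_of_pow_eq_one h2
    rw [ht3] at this
    norm_num at this
  exact ⟨(MulEquiv.ofBijective φ ((Nat.bijective_iff_injective_and_card φ).2
    ⟨hinj, by rw [hN, Nat.card_perm, hn4]; rfl⟩)).trans
      ((Finite.equivFin _).trans (finCongr hn4)).permCongrHom⟩

theorem nonempty_alternating_five (hN : Nat.card G = 60) {y : Pt L} (hy : orbCard G y = 12)
    (hs : stCard G y = 5) (hf : unCard G p y = 1) :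
    Nonempty (G ≃* alternatingGroup (Fin 5)) := by
  classical
  have : Fact (Nat.Prime 5) := ⟨by norm_num⟩
  have hscard : Nat.card (stabilizer G y) = 5 := (stab_cyclic (p := p) hf).2.1.trans hs
  obtain ⟨S, hS⟩ := (IsPGroup.of_card (n := 1) (by rw [hscard, pow_one])).exists_le_sylow (G := G)
  have hcard5 : ∀ Q : Sylow 5 G, Nat.card (Q : Subgroup G) = 5 := fun Q =>
    (CfsgLib.Perm.sylow_card_eq Q (k := 1) (m := 12) (by rw [hN]; norm_num) (by norm_num)).trans (pow_one 5)
  have hSeq : (S : Subgroup G) = stabilizer G y :=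
    (Subgroup.eq_of_le_of_card_ge hS (by rw [hcard5, hscard])).symm
  have key : ∀ t : G, orderOf t = 5 → ∃ z : Pt L, unCard G p z = 1 ∧ t • z = z ∧
      stabilizer G z = Subgroup.zpowers t := by
    intro t ht
    obtain ⟨Q, hQ⟩ := (IsPGroup.of_card (n := 1)
      (by rw [Nat.card_zpowers, ht, pow_one] : Nat.card (Subgroup.zpowers t) = 5 ^ 1)).exists_le_sylow
    obtain ⟨g, hg⟩ := MulAction.exists_smul_eq G S Q
    have hu : unCard G p (g • y) = 1 := (unCard_smul p g y).trans hf
    have hmem : Subgroup.zpowers t ≤ stabilizer G (g • y) := by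
      rw [MulAction.stabilizer_smul_eq_stabilizer_map_conj, ← hSeq]
      refine hQ.trans (le_of_eq ?_)
      rw [← hg]
      rfl
    refine ⟨g • y, hu, hmem (Subgroup.mem_zpowers t), (Subgroup.eq_of_le_of_card_ge hmem ?_).symm⟩
    rw [Nat.card_zpowers, ht, (stab_cyclic (p := p) hu).2.1, stCard_smul, hs]
  have hC : ∀ t : G, orderOf t = 5 → ∀ g : G, Commute g t → g ∈ Subgroup.zpowers t := by
    intro t ht g hgt
    obtain ⟨z, hu, htz, hst⟩ := key t ht
    have ht1 : t ≠ 1 := fun e => by rw [e, orderOf_one] at ht; omega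
    have ht2 : t * t ≠ 1 := fun e => by
      have := orderOf_dvd_of_pow_eq_one (pow_two t ▸ e)
      rw [ht] at this
      norm_num at this
    obtain ⟨z', hz', htz'⟩ : ∃ z', z' ≠ z ∧ t • z' = z' := by
      obtain ⟨w, hw, ⟨hp1, -⟩ | ⟨-, w', hww', hw', -⟩⟩ := fixHyp (p := p) t ht1
      · exfalso
        have : 2 ≤ unCard G p z :=
          Finite.one_lt_card_iff_nontrivial.2 ⟨⟨⟨t, htz, hp1⟩, ⟨1, one_smul _ _, one_pow _⟩,
            fun e => ht1 (congrArg Subtype.val e)⟩⟩
        omega
      · by_cases e : w = z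
        exacts [⟨w', e ▸ hww', hw'⟩, ⟨w, e, hw⟩]
    rw [← hst]
    exact (fix_of_commute ht2 hz'.symm htz htz' hgt).1
  have hn : Nat.card (Sylow 5 G) ≠ 1 := by
    intro h1
    have := (Nat.card_eq_one_iff_unique.1 h1).1
    obtain ⟨t, ht⟩ := exists_prime_orderOf_dvd_card' (G := stabilizer G y) 5 (by rw [hscard])
    have hne : (t : G) ≠ 1 := fun e => by
      rw [← Subgroup.orderOf_coe, e, orderOf_one] at ht; omega
    have hfix : ∀ z ∈ orbit G y, (t : G) • z = z := by
      rintro z ⟨g, rfl⟩
      have hgS : g • S = S := Subsingleton.elim _ _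
      have h : ((g • S : Sylow 5 G) : Subgroup G) = (S : Subgroup G) := by rw [hgS]
      have htS : (t : G) ∈ (S : Subgroup G) := hSeq.symm ▸ t.2
      have h' : stabilizer G (g • y) = (S : Subgroup G) := by
        rw [MulAction.stabilizer_smul_eq_stabilizer_map_conj, ← hSeq]
        exact h
      exact MulAction.mem_stabilizer_iff.1 (h'.symm ▸ htS)
    rw [orbCard] at hy
    have : Finite (orbit G y) := Nat.finite_of_card_ne_zero (by omega)
    let e : orbit G y ≃ Fin 12 := (Finite.equivFin _).trans (finCongr hy)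
    have hne' : ∀ i j : Fin 12, i ≠ j → (e.symm i : Pt L) ≠ e.symm j := fun i j hij h' =>
      hij (e.symm.injective (Subtype.ext h'))
    exact hne (eq_one_of_three (hne' 0 1 (by decide)) (hne' 0 2 (by decide)) (hne' 1 2 (by decide))
      (hfix _ (e.symm 0).2) (hfix _ (e.symm 1).2) (hfix _ (e.symm 2).2))
  have := isSimple_of_sixty hN hC hn
  exact CfsgLib.Recog.Sixty.iso_alt_five hN

end CfsgLib.Classical.Dickson
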