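import Cfsg.Agent.Lib.Classical.Dickson.Local
import Cfsg.Agent.Lib.Classical.Dickson.Counting
import Cfsg.Agent.Lib.ClassSizes.BurnsideAut

/-!
Point stabilisers in a finite group of Möbius transformations.
-/

set_option autoImplicit false

namespace CfsgLib.Classical.Dickson

open Matrix
open MulAction (orbit stabilizer)
open scoped LinearAlgebra.Projectivization MatrixGroups

variable {L : Type*} [Field L] [IsAlgClosed L] {p : ℕ} [Fact p.Prime] [CharP L p]
  {G : Subgroup (Mob L)} [Finite G]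

theorem fixHyp : FixHyp p G (Pt L) := fun g hg => by
  have hg' : (g : Mob L) ≠ 1 := fun h => hg (Subtype.ext h)
  obtain ⟨x, hx, h⟩ := fix_cases p hg'
  refine ⟨x, hx, ?_⟩
  rcases h with ⟨h1, h2⟩ | ⟨h1, h2⟩
  · exact Or.inl ⟨Subtype.ext (by rw [Subgroup.coe_pow, h1]; rfl), h2⟩
  · exact Or.inr ⟨fun e => h1 (by rw [← Subgroup.coe_pow, e]; rfl), h2⟩

theorem eq_one_of_three {g : G} {a b c : Pt L} (hab : a ≠ b) (hac : a ≠ c) (hbc : b ≠ c)
    (ha : g • a = a) (hb : g • b = b) (hc : g • c = c) : g = 1 :=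
  Subtype.ext (Two.eq_one_of_fix_three (g : Mob L) a b c hab hac hbc ha hb hc)

theorem coe_pow_eq_one_iff {H : Subgroup (Mob L)} {g : H} {n : ℕ} : g ^ n = 1 ↔ (g : Mob L) ^ n = 1 := by
  rw [← Subgroup.coe_pow, OneMemClass.coe_eq_one]

theorem unique_fix {g : G} (hg : g ≠ 1) (hp : g ^ p = 1) {x z : Pt L} (hx : g • x = x)
    (hz : g • z = z) : z = x := by
  by_contra hne
  exact pow_ne_one_of_fix_two p (fun h => hg (Subtype.ext h)) hne hz hx (coe_pow_eq_one_iff.1 hp)

/-- The orbit representation of an orbit with at least three points is faithful. -/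
theorem orbit_perm {x : Pt L} {m : ℕ} (hm : 3 ≤ m) (hx : orbCard G x = m) :
    ∃ f : G →* Equiv.Perm (Fin m), Function.Injective f := by
  have : Finite (orbit G x) := Nat.finite_of_card_ne_zero (by rw [orbCard] at hx; omega)
  let e : orbit G x ≃ Fin m := (Finite.equivFin _).trans (finCongr hx)
  refine ⟨e.permCongrHom.toMonoidHom.comp (MulAction.toPermHom G (orbit G x)),
    e.permCongrHom.injective.comp ((injective_iff_map_eq_one _).2 fun g hg => ?_)⟩
  have h : ∀ i : Fin m, g • (e.symm i : Pt L) = e.symm i := fun i => by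
    have h' := DFunLike.congr_fun hg (e.symm i)
    exact congrArg Subtype.val h'
  have hne : ∀ i j : Fin m, i ≠ j → (e.symm i : Pt L) ≠ e.symm j := fun i j hij h' =>
    hij (e.symm.injective (Subtype.ext h'))
  exact eq_one_of_three (hne ⟨0, by omega⟩ ⟨1, by omega⟩ (by simp))
    (hne ⟨0, by omega⟩ ⟨2, by omega⟩ (by simp)) (hne ⟨1, by omega⟩ ⟨2, by omega⟩ (by simp))
    (h _) (h _) (h _)

/-- Stabiliser = unipotent part times a cyclic group. -/
theorem exists_stab_hom (x : Pt L) :
    ∃ μ : stabilizer G x →* Lˣ,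
      (∀ g : stabilizer G x, μ g = 1 ↔ (g : G) ^ p = 1) ∧
      stCard G x = unCard G p x * Nat.card μ.range ∧ IsCyclic μ.range := by
  obtain ⟨μ₀, hμ₀⟩ := exists_multiplier x
  let ι : stabilizer G x →* stabilizer (Mob L) x :=
    { toFun := fun g => ⟨((g : G) : Mob L), g.2⟩
      map_one' := rfl
      map_mul' := fun _ _ => rfl }
  let μ := μ₀.comp ι
  have hμ : ∀ g : stabilizer G x, μ g = 1 ↔ (g : G) ^ p = 1 := fun g => by
    rw [coe_pow_eq_one_iff]
    exact hμ₀ p (ι g)
  have : Finite μ.range := Finite.of_surjective _ μ.rangeRestrict_surjective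
  refine ⟨μ, hμ, ?_, isCyclic_subgroup_units _⟩
  have h1 : stCard G x = Nat.card (stabilizer G x) :=
    Nat.card_congr (Equiv.subtypeEquivRight fun g => MulAction.mem_stabilizer_iff.symm)
  have h2 : unCard G p x = Nat.card μ.ker :=
    Nat.card_congr
      { toFun := fun g => ⟨⟨g.1, g.2.1⟩, (hμ _).2 g.2.2⟩
        invFun := fun g => ⟨g.1.1, g.1.2, (hμ _).1 g.2⟩
        left_inv := fun _ => rfl
        right_inv := fun _ => rfl }
  rw [h1, h2, ← Subgroup.index_ker]
  exact (Subgroup.card_mul_index μ.ker).symm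

/-- The unipotent part of a stabiliser. -/
def unip (G : Subgroup (Mob L)) (p : ℕ) [Fact p.Prime] [CharP L p] (x : Pt L) : Subgroup G where
  carrier := {g | g • x = x ∧ g ^ p = 1}
  one_mem' := ⟨one_smul _ _, one_pow _⟩
  inv_mem' := fun {g} hg => ⟨inv_smul_eq_iff.2 hg.1.symm, by rw [inv_pow, hg.2, inv_one]⟩
  mul_mem' := fun {g h} hg hh => by
    refine ⟨by rw [mul_smul, hh.1, hg.1], ?_⟩
    obtain ⟨μ, hμ⟩ := exists_multiplier x
    rw [coe_pow_eq_one_iff, Subgroup.coe_mul]
    have e1 : μ ⟨(g : Mob L), hg.1⟩ = 1 := (hμ p _).2 ((coe_pow_eq_one_iff (g := g)).1 hg.2)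
    have e2 : μ ⟨(h : Mob L), hh.1⟩ = 1 := (hμ p _).2 ((coe_pow_eq_one_iff (g := h)).1 hh.2)
    exact (hμ p (⟨(g : Mob L), hg.1⟩ * ⟨(h : Mob L), hh.1⟩)).1 (by rw [map_mul, e1, e2, one_mul])

theorem mem_unip {g : G} {x : Pt L} : g ∈ unip G p x ↔ g • x = x ∧ g ^ p = 1 := Iff.rfl

theorem card_unip (x : Pt L) : Nat.card (unip G p x) = unCard G p x :=
  Nat.card_congr (Equiv.refl _)

theorem unCard_prime_pow (x : Pt L) : ∃ a, unCard G p x = p ^ a := by
  have h : IsPGroup p (unip G p x) := fun g => ⟨1, Subtype.ext (by rw [pow_one]; exact g.2.2)⟩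
  obtain ⟨a, ha⟩ := IsPGroup.iff_card.1 h
  exact ⟨a, (card_unip x).symm.trans ha⟩

theorem not_dvd_card_range {x : Pt L} (μ : stabilizer G x →* Lˣ) : ¬ p ∣ Nat.card μ.range := by
  intro h
  have : Finite μ.range := Finite.of_surjective _ μ.rangeRestrict_surjective
  obtain ⟨g, hg⟩ := exists_prime_orderOf_dvd_card' p h
  have h1 : (((g : μ.range) : Lˣ) : L) ^ p = 1 ^ p := by
    rw [one_pow, ← Units.val_pow_eq_pow_val, ← Subgroup.coe_pow, ← hg, pow_orderOf_eq_one]
    rfl
  have h2 : g = 1 := Subtype.ext (Units.ext (frobenius_inj L p h1))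
  rw [h2, orderOf_one] at hg
  exact (Fact.out : p.Prime).one_lt.ne hg

theorem stab_cyclic {x : Pt L} (hx : unCard G p x = 1) :
    IsCyclic (stabilizer G x) ∧ Nat.card (stabilizer G x) = stCard G x ∧ ¬ p ∣ stCard G x := by
  obtain ⟨μ, hμ, hcard, hcyc⟩ := exists_stab_hom (p := p) (G := G) x
  have h1 : Nat.card (stabilizer G x) = stCard G x :=
    Nat.card_congr (Equiv.subtypeEquivRight fun g => MulAction.mem_stabilizer_iff)
  rw [hx, one_mul] at hcard
  have hinj : Function.Injective μ := by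
    rw [← MonoidHom.ker_eq_bot_iff, ← Subgroup.card_eq_one]
    have := μ.ker.card_mul_index
    rw [Subgroup.index_ker, h1, ← hcard] at this
    have hpos := stCard_pos (G := G) x
    exact Nat.eq_of_mul_eq_mul_right hpos (by rw [this, one_mul])
  exact ⟨(MonoidHom.ofInjective hinj).isCyclic.2 hcyc, h1, hcard ▸ not_dvd_card_range μ⟩

/-- A generator of a cyclic complement of the unipotent part. -/
theorem exists_complement (x : Pt L) :
    ∃ (e : ℕ) (c : G), stCard G x = unCard G p x * e ∧ ¬ p ∣ e ∧ c • x = x ∧ orderOf c = e ∧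
      (2 ≤ e → ∃ z, z ≠ x ∧ c • z = z) := by
  obtain ⟨μ, hμ, hcard, hcyc⟩ := exists_stab_hom (p := p) (G := G) x
  have : Finite μ.range := Finite.of_surjective _ μ.rangeRestrict_surjective
  obtain ⟨⟨-, ⟨c, rfl⟩⟩, hgen⟩ := hcyc.exists_generator
  have hord : orderOf (μ c) = Nat.card μ.range := by
    have h : orderOf (⟨μ c, ⟨c, rfl⟩⟩ : μ.range) = orderOf (μ c) := Subgroup.orderOf_mk _ _
    rw [← h]
    exact orderOf_eq_card_of_forall_mem_zpowers hgen
  by_cases he : 2 ≤ Nat.card μ.range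
  · have hc1 : μ c ≠ 1 := fun h => by rw [h, orderOf_one] at hord; omega
    have hcG : (c : G) ≠ 1 := fun h => hc1 (by rw [show c = 1 from Subtype.ext h, map_one])
    obtain ⟨z, hzx, hcz⟩ : ∃ z, z ≠ x ∧ (c : G) • z = z := by
      obtain ⟨y, hy, ⟨hp, -⟩ | ⟨-, y', hy'y, hy', -⟩⟩ := fixHyp (p := p) (c : G) hcG
      · exact absurd ((hμ c).2 hp) hc1
      · by_cases h : y = x
        exacts [⟨y', h ▸ hy'y, hy'⟩, ⟨y, h, hy⟩]
    refine ⟨_, c, hcard, not_dvd_card_range μ, c.2, ?_, fun _ => ⟨z, hzx, hcz⟩⟩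
    refine Nat.dvd_antisymm (orderOf_dvd_of_pow_eq_one ?_) ?_
    · by_contra hne
      have h1 : ((c : G) ^ Nat.card μ.range) ^ p = 1 := by
        rw [← Subgroup.coe_pow]
        exact (hμ _).1 (by rw [map_pow, ← hord, pow_orderOf_eq_one])
      refine hzx (unique_fix hne h1 ?_ ?_)
      · exact MulAction.mem_stabilizer_iff.1 (pow_mem (show (c : G) ∈ stabilizer G x from c.2) _)
      · exact MulAction.mem_stabilizer_iff.1
          (pow_mem (show (c : G) ∈ stabilizer G z from hcz) _)
    · rw [Subgroup.orderOf_coe, ← hord]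
      exact orderOf_map_dvd μ c
  · have h0 : Nat.card μ.range = 1 := by have := Nat.card_pos (α := μ.range); omega
    exact ⟨1, 1, by rw [hcard, h0], by simpa using (Fact.out : p.Prime).ne_one, one_smul _ _,
      orderOf_one, fun h => absurd h (by norm_num)⟩

/-- The unipotent part acts freely on the rest of an orbit. -/
theorem unCard_dvd_orbit {x : Pt L} [Finite (orbit G x)] :
    unCard G p x ∣ orbCard G x - 1 := by
  classical
  let A := unip G p x
  let X := {z : Pt L // z ∈ orbit G x ∧ z ≠ x}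
  let _ : MulAction A X :=
    { smul := fun u z => ⟨(u : G) • z.1, MulAction.mem_orbit_of_mem_orbit (u : G) z.2.1,
        fun h => z.2.2 (smul_left_cancel (u : G) (h.trans u.2.1.symm))⟩
      one_smul := fun z => Subtype.ext (one_smul G z.1)
      mul_smul := fun u v z => Subtype.ext (mul_smul (u : G) (v : G) z.1) }
  have hXeq : Nat.card X = orbCard G x - 1 := by
    show Nat.card ↥((orbit G x) \ {x} : Set (Pt L)) = _
    rw [Nat.card_coe_set_eq, Set.ncard_sdiff_singleton_of_mem (MulAction.mem_orbit_self x), orbCard,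
      Nat.card_coe_set_eq]
  have : Finite X :=
    Finite.of_injective (fun z : X => (⟨z.1, z.2.1⟩ : orbit G x)) fun a b h =>
      Subtype.ext (congrArg (fun w : orbit G x => w.1) h)
  rw [← card_unip x, ← hXeq]
  refine ClassSizes.card_dvd_card_of_free fun z => (Subgroup.eq_bot_iff_forall _).2 fun u hu => ?_
  by_contra hne
  exact z.2.2 (unique_fix (fun h => hne (Subtype.ext h)) u.2.2 u.2.1 (congrArg Subtype.val hu))

/-- The complement acts freely on the non-identity unipotent elements. -/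
theorem orderOf_dvd_unCard_sub_one {x z : Pt L} (hzx : z ≠ x) {c : G} (hx : c • x = x)
    (hz : c • z = z) : orderOf c ∣ unCard G p x - 1 := by
  classical
  let A := Subgroup.zpowers c
  let X := {u : G // u ∈ unip G p x ∧ u ≠ 1}
  have hA : ∀ a : A, (a : G) • x = x ∧ (a : G) • z = z := fun a =>
    ⟨MulAction.mem_stabilizer_iff.1
      ((Subgroup.zpowers_le.2 (show c ∈ stabilizer G x from hx)) a.2),
     MulAction.mem_stabilizer_iff.1
      ((Subgroup.zpowers_le.2 (show c ∈ stabilizer G z from hz)) a.2)⟩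
  let _ : MulAction A X :=
    { smul := fun a u => ⟨(a : G) * u.1 * (a : G)⁻¹,
        ⟨by rw [mul_smul, mul_smul, inv_smul_eq_iff.2 (hA a).1.symm, u.2.1.1, (hA a).1],
          by rw [conj_pow, u.2.1.2, mul_one, mul_inv_cancel]⟩,
        fun h => u.2.2 (conj_eq_one_iff.1 h)⟩
      one_smul := fun u => Subtype.ext (by show (1 : G) * u.1 * 1⁻¹ = u.1; group)
      mul_smul := fun a b u => Subtype.ext (by
        show ((a : G) * b) * u.1 * ((a : G) * b)⁻¹ = (a : G) * ((b : G) * u.1 * (b : G)⁻¹) * (a : G)⁻¹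
        group) }
  have hXeq : Nat.card X = unCard G p x - 1 := by
    show Nat.card ↥((unip G p x : Set G) \ {1}) = _
    rw [Nat.card_coe_set_eq, Set.ncard_sdiff_singleton_of_mem (one_mem _), ← Nat.card_coe_set_eq]
    exact congrArg (· - 1) (card_unip x)
  rw [← Nat.card_zpowers, ← hXeq]
  refine ClassSizes.card_dvd_card_of_free fun u => (Subgroup.eq_bot_iff_forall _).2 fun a ha => ?_
  by_contra hne
  have hcomm : (a : G) * u.1 = u.1 * a :=
    mul_inv_eq_iff_eq_mul.1 (congrArg Subtype.val ha)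
  have hne' : (a : G) ≠ 1 := fun h => hne (Subtype.ext h)
  have hau : (a : G) • (u.1 • z) = u.1 • z := by rw [← mul_smul, hcomm, mul_smul, (hA a).2]
  have huz : u.1 • z = z := by
    by_contra h
    by_cases h' : u.1 • z = x
    · exact hzx (smul_left_cancel u.1 (h'.trans u.2.1.1.symm))
    · exact hne' (eq_one_of_three hzx.symm (Ne.symm h') (Ne.symm h) (hA a).1 (hA a).2 hau)
  exact hzx (unique_fix u.2.2 u.2.1.2 u.2.1.1 huz)

/-- An element commuting with a semisimple element of order above two fixes its fixed points. -/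
theorem fix_of_commute {t g : G} (ht : t * t ≠ 1) {u v : Pt L} (huv : u ≠ v) (hu : t • u = u)
    (hv : t • v = v) (hc : Commute g t) : g • u = u ∧ g • v = v := by
  have ht1 : t ≠ 1 := fun h => ht (by rw [h, one_mul])
  have h1 : ∀ w, t • w = w → g • w = u ∨ g • w = v := fun w hw => by
    have h : t • (g • w) = g • w := by rw [← mul_smul, ← hc.eq, mul_smul, hw]
    by_contra! hn
    exact ht1 (eq_one_of_three huv (Ne.symm hn.1) (Ne.symm hn.2) hu hv h)
  rcases h1 u hu with h | h
  · refine ⟨h, ?_⟩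
    rcases h1 v hv with h' | h'
    · exact absurd (smul_left_cancel g (h.trans h'.symm)) huv
    · exact h'
  · exfalso
    rcases h1 v hv with h' | h'
    · have hinv := (swap_inverts (g := (t : Mob L)) (w := (g : Mob L)) huv hu hv h h').2
      refine ht (Subtype.ext ?_)
      rw [show (g : Mob L) * (t : Mob L) * (g : Mob L)⁻¹ = (t : Mob L) from by
        rw [← Subgroup.coe_mul, hc.eq, Subgroup.coe_mul, mul_inv_cancel_right]] at hinv
      rw [Subgroup.coe_mul]
      nth_rewrite 1 [hinv]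
      exact inv_mul_cancel _
    · exact huv (smul_left_cancel g (h.trans h'.symm))

end CfsgLib.Classical.Dickson
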