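import Cfsg.Agent.Lib.Classical.Dickson.Small

/-!
The possible structures of a finite group of Möbius transformations.
-/

set_option autoImplicit false

namespace CfsgLib.Classical.Dickson

open Matrix
open MulAction (orbit stabilizer)
open scoped LinearAlgebra.Projectivization MatrixGroups

variable {L : Type*} [Field L] [IsAlgClosed L] {p : ℕ} [Fact p.Prime] [CharP L p]
  {G : Subgroup (Mob L)} [Finite G]

/-- The data from which the subfield case is identified: the stabiliser of `x` has order `f * e`,
its complement `⟨c⟩` also fixes `z` in the orbit of `x`, and the orbit has `f + 1` points. -/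
def SubfieldData (G : Subgroup (Mob L)) (p : ℕ) : Prop :=
  ∃ (x z : Pt L) (a e : ℕ) (c : G), 3 ≤ p ^ a ∧ unCard G p x = p ^ a ∧ orbCard G x = p ^ a + 1 ∧
    stCard G x = p ^ a * e ∧ Nat.card G = (p ^ a + 1) * (p ^ a * e) ∧
    (e = p ^ a - 1 ∨ 2 * e = p ^ a - 1) ∧ 2 ≤ e ∧ c • x = x ∧ c • z = z ∧ z ≠ x ∧
    z ∈ orbit G x ∧ orderOf c = e

theorem of_fixed {x : Pt L} (hx : orbCard G x = 1) :
    (IsCyclic G ∧ ¬ p ∣ Nat.card G) ∨
      (p ∣ Nat.card G ∧ ∃ x : Pt L, ∀ g : G, g • x = x) := by
  rw [orbCard] at hx
  have hsub : Subsingleton (orbit G x) := (Nat.card_eq_one_iff_unique.1 hx).1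
  have hfix : ∀ g : G, g • x = x := fun g =>
    congrArg Subtype.val (Subsingleton.elim (⟨g • x, MulAction.mem_orbit x g⟩ : orbit G x)
      ⟨x, MulAction.mem_orbit_self x⟩)
  by_cases hp : p ∣ Nat.card G
  · exact Or.inr ⟨hp, x, hfix⟩
  left
  have hu : unCard G p x = 1 := by
    refine Nat.card_eq_one_iff_unique.2 ⟨⟨fun a b => ?_⟩, ⟨⟨1, one_smul _ _, one_pow _⟩⟩⟩
    have key : ∀ g : G, g ^ p = 1 → g = 1 := fun g hg => by
      have h1 := orderOf_dvd_of_pow_eq_one hg
      rcases (Nat.dvd_prime Fact.out).1 h1 with h | h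
      · exact orderOf_eq_one_iff.1 h
      · exact absurd (h ▸ orderOf_dvd_natCard g) hp
    exact Subtype.ext ((key _ a.2.2).trans (key _ b.2.2).symm)
  obtain ⟨hcyc, -, -⟩ := stab_cyclic (p := p) hu
  refine ⟨?_, hp⟩
  have htop : stabilizer G x = ⊤ := eq_top_iff.2 fun g _ => MulAction.mem_stabilizer_iff.2 (hfix g)
  rw [htop] at hcyc
  exact Subgroup.topEquiv.isCyclic.1 hcyc

/-- Dickson's classification of the finite subgroups, up to the identification of the subfield case. -/
theorem structure_cases :
    (IsCyclic G ∧ ¬ p ∣ Nat.card G) ∨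
    (p ∣ Nat.card G ∧ ∃ x : Pt L, ∀ g : G, g • x = x) ∨
    (∃ n, 2 ≤ n ∧ ¬ p ∣ n ∧ (∃ C : Subgroup G, IsCyclic C ∧ Nat.card C = n) ∧
      Nonempty (G ≃* DihedralGroup n)) ∨
    Nonempty (G ≃* alternatingGroup (Fin 4)) ∨
    Nonempty (G ≃* Equiv.Perm (Fin 4)) ∨
    Nonempty (G ≃* alternatingGroup (Fin 5)) ∨
    SubfieldData G p := by
  by_cases hN : Nat.card G = 1
  · refine Or.inl ⟨?_, by rw [hN]; exact (Fact.out : p.Prime).not_dvd_one⟩
    have := (Nat.card_eq_one_iff_unique.1 hN).1
    exact isCyclic_of_subsingleton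
  rcases count_cases (fixHyp (G := G) (p := p)) hN with ⟨x, hx⟩ | hA | hB
  · rcases of_fixed (p := p) hx with h | h
    exacts [Or.inl h, Or.inr (Or.inl h)]
  · refine Or.inr (Or.inr ?_)
    obtain ⟨x₁, x₂, x₃, hu₁, hu₂, hu₃, hsum, h21, h32, hs₁, hs₂, hs₃, -⟩ := hA
    have e₁ := orbCard_mul_stCard (G := G) x₁
    have e₂ := orbCard_mul_stCard (G := G) x₂
    have e₃ := orbCard_mul_stCard (G := G) x₃
    have hN1 : 1 ≤ Nat.card G := Nat.card_pos
    have s1 : stCard G x₁ = 2 := by
      by_contra h
      have h3 : 3 ≤ stCard G x₁ := by omega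
      have := Nat.mul_le_mul_left (orbCard G x₁) h3
      omega
    rw [s1] at e₁
    have s2 : stCard G x₂ = 2 ∨ stCard G x₂ = 3 := by
      by_contra h
      have h4 : 4 ≤ stCard G x₂ := by omega
      have := Nat.mul_le_mul_left (orbCard G x₂) h4
      omega
    rcases s2 with s2 | s2
    · rw [s2] at e₂
      have hk3 : orbCard G x₃ = 2 := by omega
      obtain ⟨C, hC, hCc, hp, hiso⟩ := nonempty_dihedral (p := p) hu₃ hk3 hs₃
      exact Or.inl ⟨_, hs₃, hp, ⟨C, hC, hCc⟩, hiso⟩
    · rw [s2] at e₂
      have hs3 : stCard G x₃ = 3 ∨ stCard G x₃ = 4 ∨ stCard G x₃ = 5 := by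
        by_contra h
        rcases Nat.lt_or_ge (stCard G x₃) 6 with h6 | h6
        · have h2 : stCard G x₃ = 2 := by omega
          rw [h2] at e₃
          omega
        · have := Nat.mul_le_mul_left (orbCard G x₃) h6
          omega
      rcases hs3 with s3 | s3 | s3 <;> rw [s3] at e₃
      · exact Or.inr (Or.inl (nonempty_alternating_four (x := x₂) (by omega) (by omega)))
      · exact Or.inr (Or.inr (Or.inl
          (nonempty_perm_four' (p := p) (x := x₂) (by omega) (by omega) s2 hu₂)))
      · exact Or.inr (Or.inr (Or.inr (Or.inl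
          (nonempty_alternating_five (p := p) (y := x₃) (by omega) (by omega) s3 hu₃))))
  · refine Or.inr (Or.inr ?_)
    obtain ⟨x, y, hf2, hfy, hyx, hk3, hky, hsy, hcov⟩ := hB
    obtain ⟨a, ha⟩ := unCard_prime_pow (p := p) (G := G) x
    obtain ⟨e, c, hst, hpe, hcx, hce, hcz⟩ := exists_complement (p := p) (G := G) x
    have eY := orbCard_mul_stCard (G := G) y
    have eX := orbCard_mul_stCard (G := G) x
    rw [hst] at eX
    set f := unCard G p x with hfdef
    set k := orbCard G x with hkdef
    set ky := orbCard G y with hkydef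
    set n := stCard G y with hndef
    have hfin : Finite (orbit G x) :=
      Nat.finite_of_card_ne_zero (show orbCard G x ≠ 0 by omega)
    obtain ⟨j, hj⟩ : f ∣ k - 1 := unCard_dvd_orbit
    have hk1 : k = 1 + f * j := by omega
    rcases Nat.lt_or_ge f 3 with hf3 | hf3
    · have hfe : f = 2 := by omega
      rw [hfe] at hky
      have hky2 : ky = 2 := by push_cast at hky; omega
      obtain ⟨C, hC, hCc, hp, hiso⟩ := nonempty_dihedral (p := p) hfy hky2 hsy
      exact Or.inl ⟨_, hsy, hp, ⟨C, hC, hCc⟩, hiso⟩
    have hkyN : ky = (f - 2) * k + 2 := by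
      zify [show 2 ≤ f by omega]
      exact hky
    obtain ⟨g, hg⟩ : ∃ g, f = g + 2 := ⟨f - 2, by omega⟩
    have hkyg : ky = g * k + 2 := by rw [hkyN, hg, Nat.add_sub_cancel]
    have hEq : (g * k + 2) * n = k * (f * e) := by rw [← hkyg, eY, eX]
    -- the stabiliser of `y` is small
    have hn3 : n < 3 * e := by
      by_contra h
      have h1 := Nat.mul_le_mul_left (g * k + 2) (le_of_not_gt h)
      rw [hEq, hg] at h1
      have he1 : 1 ≤ e := Nat.pos_of_ne_zero fun e0 => by
        rw [e0, mul_zero, mul_zero] at eX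
        exact (Nat.card_pos (α := G)).ne eX
      have h2 : e * k ≤ g * k * e := by
        have := Nat.mul_le_mul_right (k * e) (show 1 ≤ g by omega)
        rw [one_mul] at this
        rw [mul_assoc, mul_comm e k]
        exact this
      nlinarith [h1, h2, he1, hk3]
    rcases Nat.lt_or_ge e 2 with he | he
    · have he1 : e = 1 := by omega
      rw [he1] at hEq hn3
      have hn2 : n = 2 := by omega
      rw [hn2, hg] at hEq
      have hg1 : g = 1 := by
        by_contra h
        have h2 : 2 * k ≤ g * k := Nat.mul_le_mul_right k (show 2 ≤ g by omega)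
        nlinarith [hEq, h2]
      rw [hg1] at hEq hg
      have hk4 : k = 4 := by omega
      refine Or.inr (Or.inl (nonempty_alternating_four (x := x) ?_ hk4))
      rw [← eX, hk4, hg, he1]
    · obtain ⟨z, hzx, hcz'⟩ := hcz he
      have hc1 : c ≠ 1 := fun h => by rw [h, orderOf_one] at hce; omega
      rcases hcov z ⟨c, hc1, hcz'⟩ with hzorb | hzorb
      · -- the second fixed point lies in the orbit of `x`
        have hediv : e ∣ f - 1 := hce ▸ orderOf_dvd_unCard_sub_one hzx hcx hcz'
        have hj0 : j ≠ 0 := fun h => by rw [h, mul_zero] at hk1; omega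
        have hmain : (1 + g * j) * n = (1 + f * j) * e := by
          apply Nat.eq_of_mul_eq_mul_left (show 0 < f by omega)
          calc f * ((1 + g * j) * n) = (g * k + 2) * n := by rw [hk1, hg]; ring
            _ = k * (f * e) := hEq
            _ = f * ((1 + f * j) * e) := by rw [hk1]; ring
        -- `1 + g j` divides `2 e`
        have hdvd : 1 + g * j ∣ 2 * e := by
          have h1 : 1 + g * j ∣ (1 + f * j) * e := ⟨n, hmain.symm⟩
          have h2 : (1 + f * j) * e = (1 + g * j) * e + j * (2 * e) := by rw [hg]; ring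
          rw [h2, Nat.dvd_add_right (Dvd.intro _ rfl)] at h1
          have hcop : Nat.Coprime (1 + g * j) j := by
            rw [Nat.coprime_iff_gcd_eq_one, Nat.gcd_comm]
            simp
          exact hcop.dvd_of_dvd_mul_left h1
        have hle : 1 + g * j ≤ 2 * e := Nat.le_of_dvd (by omega) hdvd
        have hele : e ≤ f - 1 := Nat.le_of_dvd (by omega) hediv
        rcases Nat.lt_or_ge j 2 with hj2 | hj2
        · have hj1 : j = 1 := by omega
          rw [hj1, mul_one] at hdvd hmain hle hk1
          refine Or.inr (Or.inr (Or.inr (Or.inr ⟨x, z, a, e, c, ha ▸ hf3, ha, ?_, ?_, ?_, ?_, he,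
            hcx, hcz', hzx, hzorb, hce⟩)))
          · rw [← ha]; omega
          · rw [← ha]; exact hst
          · rw [← eX, ← ha, hk1, add_comm 1 f]
          · rw [← ha]
            obtain ⟨r, hr⟩ := hediv
            have hr2 : r < 3 := by
              by_contra h
              have h3 := Nat.mul_le_mul_left e (show 3 ≤ r by omega)
              omega
            interval_cases r <;> omega
        · exact large_index (x := x) (y := y) hg hele hle hdvd hmain hj2 eY eX hk1 hkyg hkydef hndef hfy
            hediv (by omega)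
      · -- the second fixed point lies in the other orbit
        obtain ⟨h₀, rfl⟩ := hzorb
        have hdvd : e ∣ n := by
          rw [← hce, hndef, ← stCard_smul h₀ y, stCard,
            ← Nat.card_congr (Equiv.subtypeEquivRight fun g => MulAction.mem_stabilizer_iff
              (G := G) (a := h₀ • y) (g := g))]
          exact Subgroup.orderOf_dvd_natCard (stabilizer G (h₀ • y)) hcz'
        obtain ⟨r, hr⟩ := hdvd
        have hr3 : r < 3 := by
          by_contra h
          have h3 := Nat.mul_le_mul_left e (show 3 ≤ r by omega)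
          omega
        rw [hr] at hEq
        have hEq' : (g * k + 2) * r = k * f := by
          apply Nat.eq_of_mul_eq_mul_left (show 0 < e by omega)
          linarith [hEq, (by ring : (g * k + 2) * (e * r) = e * ((g * k + 2) * r)),
            (by ring : k * (f * e) = e * (k * f))]
        interval_cases r
        · rw [mul_zero] at hEq'
          rcases Nat.mul_eq_zero.1 hEq'.symm with h | h <;> omega
        · rw [hg] at hEq'
          nlinarith [hEq', hk3]
        · rw [hg] at hEq'
          have hg1 : g = 1 := by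
            by_contra h
            have h2 : 2 * k ≤ g * k := Nat.mul_le_mul_right k (show 2 ≤ g by omega)
            nlinarith [hEq', h2]
          rw [hg1] at hEq' hg
          have hk4 : k = 4 := by omega
          have hediv : e ∣ f - 1 := hce ▸ orderOf_dvd_unCard_sub_one hzx hcx hcz'
          have he2 : e = 2 := by
            have := Nat.le_of_dvd (by omega) hediv
            omega
          refine Or.inr (Or.inr (Or.inl (nonempty_perm_four (x := x) ?_ hk4)))
          rw [← eX, hk4, hg, he2]
where
  large_index {x y : Pt L} {f g j e n k ky : ℕ} {A B C : Prop} {D : Prop}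
      (hg : f = g + 2) (hele : e ≤ f - 1) (hle : 1 + g * j ≤ 2 * e) (hdvd : 1 + g * j ∣ 2 * e)
      (hmain : (1 + g * j) * n = (1 + f * j) * e) (hj2 : 2 ≤ j)
      (eY : orbCard G y * stCard G y = Nat.card G) (eX : k * (f * e) = Nat.card G)
      (hk1 : k = 1 + f * j) (hkyg : ky = g * k + 2) (hky : ky = orbCard G y)
      (hn : n = stCard G y) (hfy : unCard G p y = 1) (hediv : e ∣ f - 1) (hg0 : 1 ≤ g) :
      A ∨ B ∨ C ∨ Nonempty (G ≃* alternatingGroup (Fin 5)) ∨ D := by
    have h2j : g * j ≤ 2 * g + 1 := by omega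
    have hj4 : j ≤ 3 := by
      by_contra h
      have := Nat.mul_le_mul_left g (show 4 ≤ j by omega)
      omega
    interval_cases j
    · exfalso
      obtain ⟨r, hr⟩ := hdvd
      have hr2 : r < 2 := by
        by_contra h
        have := Nat.mul_le_mul_left (1 + g * 2) (show 2 ≤ r by omega)
        omega
      interval_cases r <;> omega
    · have hg1 : g = 1 := by omega
      subst hg1
      have he2 : e = 2 := by omega
      subst he2
      rw [hg] at hk1 hmain eX
      have hn5 : n = 5 := by omega
      refine Or.inr (Or.inr (Or.inr (Or.inl (nonempty_alternating_five (p := p) (y := y) ?_ ?_ ?_ hfy))))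
      · rw [← eX, hk1]
      · rw [← hky, hkyg, hk1]
      · rw [← hn]; exact hn5

end CfsgLib.Classical.Dickson
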