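import Cfsg.Agent.Lib.Classical.Dickson.Structure
import Cfsg.Agent.Lib.Classical.Dickson.FieldAlgebra
import Cfsg.Agent.Lib.Classical.LinearOrder

/-!
The subfield case: the group is conjugate to `PGL₂` or `PSL₂` of a finite subfield.
-/

set_option autoImplicit false

namespace CfsgLib.Classical.Dickson

open Matrix
open MulAction (orbit stabilizer)
open scoped LinearAlgebra.Projectivization MatrixGroups Pointwise

variable {L : Type*} [Field L]

/-- `PGL₂` of a subfield inside the Möbius group. -/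
def mapPGL (K : Subfield L) : ProjGenLinGroup (Fin 2) K →* Mob L :=
  ProjGenLinGroup.map K.subtype

/-- `PSL₂` of a subfield inside the Möbius group. -/
def mapPSL (K : Subfield L) : ProjectiveSpecialLinearGroup (Fin 2) K →* Mob L :=
  (mapPGL K).comp ProjectiveSpecialLinearGroup.toPGL

theorem mapPGL_injective (K : Subfield L) : Function.Injective (mapPGL K) := by
  rw [injective_iff_map_eq_one]
  intro g hg
  induction g using ProjGenLinGroup.induction_on with | mk g =>
  rw [mapPGL, ProjGenLinGroup.map_mk, ProjGenLinGroup.mk_eq_one, Subgroup.mem_center_iff] at hg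
  rw [ProjGenLinGroup.mk_eq_one, Subgroup.mem_center_iff]
  intro h
  have hinj : Function.Injective (GeneralLinearGroup.map (n := Fin 2) K.subtype) := fun a b e => by
    apply Units.ext
    ext i j
    have := congrArg (fun u : GL (Fin 2) L => (u : Matrix (Fin 2) (Fin 2) L) i j) e
    simpa [GeneralLinearGroup.map] using this
  apply hinj
  rw [map_mul, map_mul]
  exact hg _

theorem mapPSL_injective (K : Subfield L) : Function.Injective (mapPSL K) :=
  (mapPGL_injective K).comp ProjectiveSpecialLinearGroup.toPGL_injective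

theorem aff_mem_range (K : Subfield L) {a : Lˣ} {b : L} (ha : (a : L) ∈ K) (hb : b ∈ K) :
    aff a b ∈ (mapPGL K).range := by
  refine ⟨aff (Units.mk0 (⟨a, ha⟩ : K) (by simp [Subtype.ext_iff])) ⟨b, hb⟩, ?_⟩
  rw [aff, aff, mapPGL, ProjGenLinGroup.map_mk]
  congr 1
  apply Units.ext
  ext i j
  fin_cases i <;> fin_cases j <;> simp [GeneralLinearGroup.map]

theorem swp_mem_range (K : Subfield L) {c : Lˣ} (hc : (c : L) ∈ K) :
    swp c ∈ (mapPGL K).range := by
  refine ⟨swp (Units.mk0 (⟨c, hc⟩ : K) (by simp [Subtype.ext_iff])), ?_⟩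
  rw [swp, swp, mapPGL, ProjGenLinGroup.map_mk]
  congr 1
  apply Units.ext
  ext i j
  fin_cases i <;> fin_cases j <;> simp [GeneralLinearGroup.map]

theorem mapPSL_le_of_gens (K : Subfield L) (H : Subgroup (Mob L)) {c : Lˣ} (hcK : (c : L) ∈ K)
    (hA : ∀ b ∈ K, aff (1 : Lˣ) b ∈ H) (hc : swp c ∈ H) : (mapPSL K).range ≤ H := by
  let φ : SL(2, K) →* Mob L := (mapPGL K).comp SpecialLinearGroup.toPGL
  have h0 : ∀ A : SL(2, K), (∃ b : K, (A : Matrix (Fin 2) (Fin 2) K) = !![1, b; 0, 1]) → φ A ∈ H := by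
    rintro A ⟨b, hA'⟩
    have e : φ A = aff (1 : Lˣ) (b : L) := by
      show (mapPGL K) (ProjGenLinGroup.mk (SpecialLinearGroup.toGL A)) = _
      rw [aff, mapPGL, ProjGenLinGroup.map_mk]
      congr 1
      apply Units.ext
      ext i j
      fin_cases i <;> fin_cases j <;> simp [GeneralLinearGroup.map, hA']
    rw [e]
    exact hA _ b.2
  have h1 : ∀ A : SL(2, K), (∃ b : K, (A : Matrix (Fin 2) (Fin 2) K) = !![1, 0; b, 1]) → φ A ∈ H := by
    rintro A ⟨b, hA'⟩
    have e : φ A = swp c * aff (1 : Lˣ) ((c : L) * b) * swp c := by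
      show (mapPGL K) (ProjGenLinGroup.mk (SpecialLinearGroup.toGL A)) = _
      rw [aff, swp, mapPGL, ProjGenLinGroup.map_mk, ← map_mul, ← map_mul]
      refine mk_eq_of_smul c ?_
      ext i j
      fin_cases i <;> fin_cases j <;> simp [GeneralLinearGroup.map, hA', Matrix.mul_apply]
    rw [e]
    exact H.mul_mem (H.mul_mem hc (hA _ (K.mul_mem hcK b.2))) hc
  have key : H.comap φ = ⊤ := by
    have hne : Two.basePoint K 0 ≠ Two.basePoint K 1 := by
      intro hc
      obtain ⟨a, ha⟩ := (Projectivization.mk_eq_mk_iff' K _ _ _ _).1 hc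
      simpa using congrFun ha 0
    have hu : Two.rootGroup (Two.basePoint K 0) ≤ H.comap φ := by
      intro A hA'
      rw [← SetLike.mem_coe, Two.rootGroup_basePoint] at hA'
      obtain ⟨b, rfl⟩ := hA'
      refine h0 _ ⟨b, ?_⟩
      ext i j
      fin_cases i <;> fin_cases j <;> simp [SpecialLinearGroup.transvection, Matrix.transvection]
    have hl : Two.rootGroup (Two.basePoint K 1) ≤ H.comap φ := by
      intro A hA'
      have hf : A • (Pi.single 1 1 : Fin 2 → K) = Pi.single 1 1 := by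
        rw [Two.rootGroup, Projectivization.submodule_mk] at hA'
        exact SpecialLinearGroup.lineStab_fix_of_span _ (Two.single_ne_zero 1) A hA'
      rw [Matrix.SpecialLinearGroup.smul_def, Matrix.smul_eq_mulVec] at hf
      have a01 := congrFun hf 0
      have a11 := congrFun hf 1
      simp [Matrix.mulVec, dotProduct, Fin.sum_univ_two] at a01 a11
      have hd : (A : Matrix (Fin 2) (Fin 2) K).det = 1 := A.2
      rw [Matrix.det_fin_two, a01, a11, mul_one, zero_mul, sub_zero] at hd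
      refine h1 A ⟨(A : Matrix (Fin 2) (Fin 2) K) 1 0, ?_⟩
      ext i j
      fin_cases i <;> fin_cases j <;> simp [hd, a01, a11]
    exact top_unique (Two.rootGroup_sup_eq_top hne ▸ sup_le hu hl)
  rintro _ ⟨g, rfl⟩
  induction g using QuotientGroup.induction_on with | _ g =>
  exact (key.symm ▸ Subgroup.mem_top g : g ∈ H.comap φ)

variable [IsAlgClosed L] {p : ℕ} [Fact p.Prime] [CharP L p] {G : Subgroup (Mob L)} [Finite G]

theorem exists_swap {x z : Pt L} (hzx : z ≠ x) (hz : z ∈ orbit G x)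
    (hk : orbCard G x = unCard G p x + 1) : ∃ w : G, w • x = z ∧ w • z = x := by
  classical
  obtain ⟨g, rfl⟩ := hz
  by_cases hgz : g • g • x = x
  · exact ⟨g, rfl, hgz⟩
  set z := g • x with hzdef
  have : Finite (orbit G x) := Nat.finite_of_card_ne_zero
    (show orbCard G x ≠ 0 by omega)
  let X := {y : Pt L // y ∈ orbit G x ∧ y ≠ z}
  let φ : unip G p z → X := fun u => ⟨(u : G) • g • z,
    MulAction.mem_orbit_of_mem_orbit _ (MulAction.mem_orbit_of_mem_orbit g (MulAction.mem_orbit x g)),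
    fun e => hzx (smul_left_cancel g ((smul_left_cancel (u : G) (e.trans u.2.1.symm)).trans hzdef))⟩
  have hX : Finite X :=
    Finite.of_injective (fun y : X => (⟨y.1, y.2.1⟩ : orbit G x)) fun a b h =>
      Subtype.ext (congrArg (fun w : orbit G x => w.1) h)
  have hXc : Nat.card X = orbCard G x - 1 := by
    show Nat.card ↥((orbit G x) \ {z} : Set (Pt L)) = _
    rw [Nat.card_coe_set_eq, Set.ncard_sdiff_singleton_of_mem (MulAction.mem_orbit x g), orbCard,
      Nat.card_coe_set_eq]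
  have hφ : Function.Injective φ := fun u v h => by
    have h' : (u : G) • g • z = (v : G) • g • z := congrArg Subtype.val h
    by_contra hne
    have hne' : (v : G)⁻¹ * u ≠ 1 := fun e => hne (Subtype.ext (inv_mul_eq_one.1 e).symm)
    have hm := (unip G p z).mul_mem ((unip G p z).inv_mem v.2) u.2
    refine (φ u).2.2 ?_
    have h1 : ((v : G)⁻¹ * u) • (g • z) = g • z := by rw [mul_smul, h', inv_smul_smul]
    have h2 := unique_fix hne' hm.2 hm.1 h1
    show (u : G) • g • z = z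
    rw [h2, u.2.1]
  have hbij : Function.Bijective φ := (Nat.bijective_iff_injective_and_card φ).2 ⟨hφ, by
    rw [hXc, card_unip, hzdef, unCard_smul, hk, Nat.add_sub_cancel]⟩
  obtain ⟨u, hu⟩ := hbij.2 ⟨x, MulAction.mem_orbit_self x, hzx.symm⟩
  exact ⟨u * g, by rw [mul_smul, ← hzdef, u.2.1], by
    rw [mul_smul]; exact congrArg Subtype.val hu⟩

/-- The subfield case identified. -/
theorem exists_subfield (hG : SubfieldData G p) :
    ∃ (K : Subfield L) (h : Mob L), Finite K ∧
      ((G.map (MulAut.conj h).toMonoidHom = (mapPGL K).range) ∨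
        (p ≠ 2 ∧ G.map (MulAut.conj h).toMonoidHom = (mapPSL K).range)) := by
  classical
  obtain ⟨x, z, a, e, c, hf3, hun, hk, hst, hN, he, he2, hcx, hcz, hzx, hzorb, hce⟩ := hG
  obtain ⟨w, hwx, hwz⟩ := exists_swap hzx hzorb (hk.trans (by rw [hun]))
  -- coordinates
  obtain ⟨h₀, h₀x, h₀z⟩ := exists_move_two hzx.symm
  have hunip : ∀ u : G, u ∈ unip G p x → ∃ b, h₀ * (u : Mob L) * h₀⁻¹ = aff 1 b := by
    intro u hu
    obtain ⟨a', b, hab⟩ := exists_aff_of_fix (g := h₀ * (u : Mob L) * h₀⁻¹) (by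
      rw [← h₀x, mul_smul, mul_smul, inv_smul_smul]; exact congrArg (h₀ • ·) hu.1)
    refine ⟨b, ?_⟩
    have : a' = 1 := by
      rw [← aff_pow_eq_one_iff p a' b, ← hab, conj_pow, conj_eq_one_iff]
      exact coe_pow_eq_one_iff.1 hu.2
    rw [hab, this]
  obtain ⟨⟨u₀, hu₀⟩, hu₀1⟩ := exists_ne_of_card (α := unip G p x)
    (by rw [card_unip, hun]; omega) 1
  obtain ⟨b₀, hb₀⟩ := hunip u₀ hu₀
  have hb₀0 : b₀ ≠ 0 := fun h => hu₀1 (by
    rw [h, aff_one_zero, conj_eq_one_iff] at hb₀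
    exact Subtype.ext (Subtype.ext hb₀))
  let h : Mob L := aff (Units.mk0 b₀ hb₀0)⁻¹ 0 * h₀
  have hx : h • x = inf L := by rw [mul_smul, h₀x, aff_smul_inf]
  have hz : h • z = pt 0 := by rw [mul_smul, h₀z, aff_smul_pt, mul_zero, add_zero]
  set H := G.map (MulAut.conj h).toMonoidHom with hH
  have hmemH : ∀ g : G, h * (g : Mob L) * h⁻¹ ∈ H := fun g => ⟨g, g.2, rfl⟩
  have hofH : ∀ g' ∈ H, ∃ g : G, h * (g : Mob L) * h⁻¹ = g' := by
    rintro g' ⟨g, hg, rfl⟩
    exact ⟨⟨g, hg⟩, rfl⟩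
  -- translations
  let A : AddSubgroup L :=
    { carrier := {b | aff (1 : Lˣ) b ∈ H}
      zero_mem' := by show aff (1 : Lˣ) 0 ∈ H; rw [aff_one_zero]; exact H.one_mem
      add_mem' := fun {b b'} hb hb' => by
        show aff (1 : Lˣ) (b + b') ∈ H
        have := H.mul_mem hb' hb
        rwa [aff_mul, mul_one, Units.val_one, one_mul] at this
      neg_mem' := fun {b} hb => by
        show aff (1 : Lˣ) (-b) ∈ H
        have := H.inv_mem hb
        rwa [aff_inv, inv_one, Units.val_one, neg_one_mul] at this }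
  have h1 : (1 : L) ∈ A := by
    show aff (1 : Lˣ) 1 ∈ H
    have h' : h * (u₀ : Mob L) * h⁻¹ = aff 1 1 := by
      show aff (Units.mk0 b₀ hb₀0)⁻¹ 0 * h₀ * (u₀ : Mob L) * (aff (Units.mk0 b₀ hb₀0)⁻¹ 0 * h₀)⁻¹ = _
      rw [show aff (Units.mk0 b₀ hb₀0)⁻¹ 0 * h₀ * (u₀ : Mob L) * (aff (Units.mk0 b₀ hb₀0)⁻¹ 0 * h₀)⁻¹ =
        aff (Units.mk0 b₀ hb₀0)⁻¹ 0 * (h₀ * (u₀ : Mob L) * h₀⁻¹) * (aff (Units.mk0 b₀ hb₀0)⁻¹ 0)⁻¹
          by group, hb₀, aff_inv, aff_mul, aff_mul, aff_eq_iff]
      refine ⟨by simp, ?_⟩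
      simp [hb₀0]
    rw [← h']
    exact hmemH u₀
  have hconj : ∀ (g : G) (b : L), h₀ * (g : Mob L) * h₀⁻¹ = aff 1 b →
      h * (g : Mob L) * h⁻¹ = aff 1 (b / b₀) := by
    intro g b hb
    show aff (Units.mk0 b₀ hb₀0)⁻¹ 0 * h₀ * (g : Mob L) * (aff (Units.mk0 b₀ hb₀0)⁻¹ 0 * h₀)⁻¹ = _
    rw [show aff (Units.mk0 b₀ hb₀0)⁻¹ 0 * h₀ * (g : Mob L) *
        (aff (Units.mk0 b₀ hb₀0)⁻¹ 0 * h₀)⁻¹ =
      aff (Units.mk0 b₀ hb₀0)⁻¹ 0 * (h₀ * (g : Mob L) * h₀⁻¹) *
        (aff (Units.mk0 b₀ hb₀0)⁻¹ 0)⁻¹ by group, hb, aff_inv, aff_mul, aff_mul, aff_eq_iff]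
    refine ⟨by simp, ?_⟩
    simp [div_eq_inv_mul]
  have hex : ∀ u : unip G p x, ∃ b : A, h * ((u : G) : Mob L) * h⁻¹ = aff 1 (b : L) := fun u => by
    obtain ⟨b, hb⟩ := hunip u u.2
    exact ⟨⟨b / b₀, show aff (1 : Lˣ) (b / b₀) ∈ H from hconj _ _ hb ▸ hmemH u⟩, hconj _ _ hb⟩
  choose f hf using hex
  let ψ : unip G p x ≃ A := Equiv.ofBijective f ⟨fun u v huv => by
      have e := hf u
      rw [huv, ← hf v] at e
      exact Subtype.ext (Subtype.ext (mul_left_cancel (mul_right_cancel e))), fun b => by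
      obtain ⟨g, hg⟩ := hofH _ b.2
      have hgu : g ∈ unip G p x := by
        refine ⟨?_, ?_⟩
        · have : (h * (g : Mob L) * h⁻¹) • inf L = inf L := by rw [hg, aff_smul_inf]
          rw [← hx, mul_smul, mul_smul, inv_smul_smul, smul_left_cancel_iff] at this
          exact this
        · rw [coe_pow_eq_one_iff, ← conj_eq_one_iff (a := h), ← conj_pow, hg, aff_pow_char p]
      refine ⟨⟨g, hgu⟩, Subtype.ext ((aff_eq_iff (a := (1 : Lˣ)) (a' := 1)).1 ?_).2⟩
      rw [← hf ⟨g, hgu⟩, ← hg]⟩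
  have hAcard : Nat.card A = p ^ a := by rw [← Nat.card_congr ψ, card_unip, hun]
  have hAfin : Finite A := Nat.finite_of_card_ne_zero (by rw [hAcard]; omega)
  -- the orbit
  have hstable : ∀ g' ∈ H, ∀ y ∈ orbit G x, ∃ y' ∈ orbit G x, g' • (h • y) = h • y' := by
    intro g' hg' y hy
    obtain ⟨g, rfl⟩ := hofH g' hg'
    exact ⟨g • y, MulAction.mem_orbit_of_mem_orbit g hy, by
      rw [mul_smul, mul_smul, inv_smul_smul]; rfl⟩
  have horb : ∀ y ∈ orbit G x, h • y = inf L ∨ ∃ b ∈ A, h • y = pt b := by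
    have hfin : Finite (orbit G x) := Nat.finite_of_card_ne_zero (show orbCard G x ≠ 0 by omega)
    let χ : Option A → orbit G x := fun o => o.elim ⟨x, MulAction.mem_orbit_self x⟩ fun b =>
      ⟨h⁻¹ • pt (b : L), by
        obtain ⟨y', hy', hy''⟩ := hstable _ b.2 z hzorb
        rw [hz, aff_smul_pt, mul_zero, zero_add] at hy''
        rw [hy'', inv_smul_smul]
        exact hy'⟩
    have hχ : Function.Injective χ := by
      rintro (_ | b) (_ | b') hbb
      · rfl
      · exact absurd (by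
          have := congrArg (fun y : orbit G x => h • (y : Pt L)) hbb
          simpa [χ, hx] using this.symm) (pt_ne_inf (b' : L))
      · exact absurd (by
          have := congrArg (fun y : orbit G x => h • (y : Pt L)) hbb
          simpa [χ, hx] using this) (pt_ne_inf (b : L))
      · have := congrArg (fun y : orbit G x => h • (y : Pt L)) hbb
        simp [χ] at this
        rw [show b = b' from Subtype.ext (pt_injective this)]
    have hcard : Nat.card (Option A) = Nat.card (orbit G x) := by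
      rw [Finite.card_option, hAcard]; exact hk.symm
    intro y hy
    obtain ⟨o, ho⟩ := ((Nat.bijective_iff_injective_and_card χ).2 ⟨hχ, hcard⟩).2 ⟨y, hy⟩
    have hoy : (χ o : Pt L) = y := congrArg Subtype.val ho
    rcases o with _ | b
    · left; rw [← hoy]; exact hx
    · exact Or.inr ⟨b, b.2, by rw [← hoy]; exact smul_inv_smul h _⟩
  have hA_of : ∀ g' ∈ H, ∀ b ∈ A, ∀ r, g' • pt b = pt r → r ∈ A := by
    intro g' hg' b hb r hr
    obtain ⟨y, hy, hy'⟩ := hstable _ hb z hzorb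
    rw [hz, aff_smul_pt, mul_zero, zero_add] at hy'
    obtain ⟨y', hy'o, hy''⟩ := hstable g' hg' y hy
    rw [← hy', hr] at hy''
    rcases horb y' hy'o with e | ⟨b', hb', e⟩ <;> rw [e] at hy''
    · exact absurd hy'' (pt_ne_inf r)
    · rw [pt_injective hy'']; exact hb'
  -- the inversion
  obtain ⟨c₀, hc₀⟩ := exists_swp_of_swap (g := h * (w : Mob L) * h⁻¹)
    (by rw [← hx, mul_smul, mul_smul, inv_smul_smul, ← hz]; exact congrArg (h • ·) hwx)
    (by rw [← hz, mul_smul, mul_smul, inv_smul_smul, ← hx]; exact congrArg (h • ·) hwz)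
  have hswp : swp c₀ ∈ H := hc₀ ▸ hmemH w
  obtain ⟨K, hK⟩ := exists_subfield_of_inversion p A h1 (c₀ : L) c₀.ne_zero
    (fun b hb hb0 => hA_of _ hswp b hb _ (swp_smul_pt c₀ hb0))
  have hKfin : Finite K := Finite.of_injective (fun k : K => (⟨k.1, (hK _).1 k.2⟩ : A))
    fun a b hab => Subtype.ext (congrArg (fun t : A => t.1) hab)
  have hKcard : Nat.card K = p ^ a := by
    rw [← hAcard]
    exact Nat.card_congr (Equiv.subtypeEquivRight hK)
  have hc₀K : (c₀ : L) ∈ K := by
    rw [hK]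
    have := hA_of _ hswp 1 h1 _ (swp_smul_pt c₀ one_ne_zero)
    simpa using this
  have hle : H ≤ (mapPGL K).range := by
    have hfixed : ∀ g' ∈ H, g' • inf L = inf L → g' ∈ (mapPGL K).range := by
      intro g' hg' hfix
      obtain ⟨α, β, rfl⟩ := exists_aff_of_fix hfix
      have e0 := hA_of _ hg' 0 A.zero_mem _ (aff_smul_pt α β 0)
      have e1 := hA_of _ hg' 1 h1 _ (aff_smul_pt α β 1)
      simp only [mul_zero, zero_add, mul_one] at e0 e1
      refine aff_mem_range K ((hK _).2 ?_) ((hK _).2 e0)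
      simpa using A.sub_mem e1 e0
    intro g' hg'
    obtain ⟨y', hy', hy''⟩ := hstable g' hg' x (MulAction.mem_orbit_self x)
    rw [hx] at hy''
    rcases horb y' hy' with e | ⟨b, hb, e⟩ <;> rw [e] at hy''
    · exact hfixed g' hg' hy''
    · have hm : swp c₀ * aff 1 (-b) * g' ∈ (mapPGL K).range := by
        refine hfixed _ (H.mul_mem (H.mul_mem hswp (A.neg_mem hb)) hg') ?_
        rw [mul_smul, hy'', mul_smul, aff_smul_pt, Units.val_one, one_mul, add_neg_cancel,
          swp_smul_zero]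
      have hm' : swp c₀ * aff 1 (-b) ∈ (mapPGL K).range := (mapPGL K).range.mul_mem
        (swp_mem_range K hc₀K) (aff_mem_range K (by simp [K.one_mem]) (K.neg_mem ((hK _).2 hb)))
      exact ((mapPGL K).range.mul_mem_cancel_left hm').1 hm
  have hHcard : Nat.card H = (p ^ a + 1) * (p ^ a * e) := by
    rw [← hN]
    exact (Nat.card_congr (G.equivMapOfInjective _ (MulAut.conj h).injective).toEquiv).symm
  have : Fintype K := Fintype.ofFinite K
  have hKc : Fintype.card K = p ^ a := by rw [← Nat.card_eq_fintype_card, hKcard]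
  refine ⟨K, h, hKfin, ?_⟩
  have hPSLc : Nat.gcd 2 (p ^ a - 1) * Nat.card (mapPSL K).range = p ^ a * ((p ^ a) ^ 2 - 1) := by
    rw [← Nat.card_congr (MonoidHom.ofInjective (mapPSL_injective K)).toEquiv, ← hKc]
    exact Two.card_PSL_two
  have hPGLc : Nat.card (mapPGL K).range = p ^ a * ((p ^ a) ^ 2 - 1) := by
    rw [← Nat.card_congr (MonoidHom.ofInjective (mapPGL_injective K)).toEquiv,
      card_PGL_eq_card_SL, Two.card_SL_two, hKc]
  have hPle : (mapPSL K).range ≤ H := mapPSL_le_of_gens K H hc₀K (fun b hb => (hK b).1 hb) hswp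
  have hrfin : Finite (mapPGL K).range := Nat.finite_of_card_ne_zero (by
    rw [hPGLc]
    refine Nat.mul_ne_zero (by omega) (Nat.sub_ne_zero_of_lt ?_)
    exact Nat.one_lt_pow two_ne_zero (by omega))
  obtain ⟨g, hg⟩ : ∃ g, p ^ a = g + 3 := ⟨p ^ a - 3, by omega⟩
  have hsq : (p ^ a) ^ 2 - 1 = (p ^ a + 1) * (p ^ a - 1) := by
    rw [hg]
    zify [show 1 ≤ (g + 3) ^ 2 by nlinarith, show 1 ≤ g + 3 by omega]
    ring
  rcases he with he | he
  · left
    refine Subgroup.eq_of_le_of_card_ge hle (le_of_eq ?_)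
    rw [hPGLc, hHcard, he, hsq]
    ring
  · right
    have heven : 2 ∣ p ^ a - 1 := ⟨e, he.symm⟩
    refine ⟨fun hp2 => ?_, ?_⟩
    · have ha0 : a ≠ 0 := fun h0 => by rw [h0, pow_zero] at hf3; omega
      have : 2 ∣ p ^ a := by rw [hp2]; exact dvd_pow_self 2 ha0
      omega
    · rw [Nat.gcd_eq_left heven] at hPSLc
      have : Finite H := Nat.finite_of_card_ne_zero (by rw [hHcard]; positivity)
      refine (Subgroup.eq_of_le_of_card_ge hPle (le_of_eq ?_)).symm
      rw [hHcard]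
      rw [hsq, ← he] at hPSLc
      linarith

end CfsgLib.Classical.Dickson
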