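import Cfsg.Agent.Lib.Classical.Dickson.PlatonicIff
import Mathlib.FieldTheory.Finite.GaloisField

/-!
Subfield subgroups of `PSL(2, q)`, `q` odd.
-/

set_option autoImplicit false

namespace CfsgLib.Classical.Dickson

open Matrix
open scoped MatrixGroups

variable {F K : Type*} [Field F] [Fintype F] [Field K] [Fintype K]

theorem exists_ringHom_of_card_pow {m : ℕ} (hm : 1 ≤ m)
    (hK : Fintype.card K ^ m = Fintype.card F) : Nonempty (K →+* F) := by
  obtain ⟨p, hp⟩ := CharP.exists F
  obtain ⟨p', hp'⟩ := CharP.exists K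
  have : Fact p.Prime := ⟨CharP.char_is_prime F p⟩
  have : Fact p'.Prime := ⟨CharP.char_is_prime K p'⟩
  obtain ⟨f, hf, hFc⟩ := exists_card_eq_prime_pow (F := F) p
  obtain ⟨a, ha, hKc⟩ := exists_card_eq_prime_pow (F := K) p'
  have hpp : p = p' := by
    refine (Nat.prime_dvd_prime_iff_eq Fact.out Fact.out).1 ((Fact.out : p.Prime).dvd_of_dvd_pow
      (n := a * m) ?_)
    rw [pow_mul, ← hKc, hK, hFc]
    exact dvd_pow_self p (by omega)
  subst hpp
  let _ := ZMod.algebra F p
  let _ := ZMod.algebra K p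
  have h : Module.finrank (ZMod p) K * m = Module.finrank (ZMod p) F := by
    refine Nat.pow_right_injective (Fact.out : p.Prime).two_le ?_
    have h1 := Module.natCard_eq_pow_finrank (K := ZMod p) (V := K)
    have h2 := Module.natCard_eq_pow_finrank (K := ZMod p) (V := F)
    rw [Nat.card_zmod, Nat.card_eq_fintype_card] at h1 h2
    simp only
    rw [pow_mul, ← h1, hK, h2]
  obtain ⟨φ⟩ := FiniteField.nonempty_algHom_of_finrank_dvd (F := ZMod p) (K := K) (L := F)
    ⟨m, h.symm⟩
  exact ⟨φ.toRingHom⟩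

theorem exists_pow_sub_one {x : ℕ} (hx : Odd x) (j : ℕ) :
    ∃ S, x ^ j = (x - 1) * S + 1 ∧ S % 2 = j % 2 := by
  induction j with
  | zero => exact ⟨0, by simp, rfl⟩
  | succ j ih =>
    obtain ⟨S, hS, hS2⟩ := ih
    refine ⟨S * x + 1, ?_, ?_⟩
    · rw [pow_succ, hS]
      obtain ⟨y, rfl⟩ : ∃ y, x = y + 1 := ⟨x - 1, by have := hx.pos; omega⟩
      simp; ring
    · rw [Nat.add_mod, Nat.mul_mod, hS2, Nat.odd_iff.1 hx, mul_one, Nat.mod_mod, ← Nat.add_mod]

theorem isSquare_map_of_even (f : K →+* F) {q m : ℕ} (hF : Fintype.card F = q) (hodd : Odd q)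
    (hK : Fintype.card K ^ m = q) (hme : Even m) {a : K} (ha : a ≠ 0) : IsSquare (f a) := by
  have h2 : ringChar F ≠ 2 := fun h => by
    have := FiniteField.even_card_of_char_two h
    rw [hF, Nat.odd_iff.1 hodd] at this
    exact absurd this (by norm_num)
  rw [FiniteField.isSquare_iff h2 ((map_ne_zero f).2 ha), ← map_pow, hF]
  obtain ⟨j, rfl⟩ := hme
  set k := Fintype.card K with hk
  have hk1 : 1 ≤ k := Fintype.card_pos
  have hk2 : Odd k := by
    rcases Nat.even_or_odd k with h | h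
    · exfalso
      rcases Nat.eq_zero_or_pos (j + j) with h0 | h0
      · rw [h0, pow_zero] at hK
        have := Fintype.one_lt_card (α := F)
        omega
      · exact Nat.not_odd_iff_even.2 ((Nat.even_pow' (by omega)).2 h) (hK ▸ hodd)
    · exact h
  obtain ⟨S, hS, -⟩ := exists_pow_sub_one (hk2.pow (n := 2)) j
  have hd : k - 1 ∣ q / 2 := by
    obtain ⟨t, ht⟩ := hk2
    rw [← hK, ← two_mul, pow_mul, hS]
    have e : k ^ 2 - 1 = 4 * (t * t + t) := by
      rw [ht]; ring_nf; omega
    rw [e, show k - 1 = 2 * t by omega,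
      show (4 * (t * t + t) * S + 1) / 2 = 2 * t * ((t + 1) * S) by
        rw [show 4 * (t * t + t) * S = 2 * (2 * t * ((t + 1) * S)) by ring]; omega]
    exact dvd_mul_right _ _
  obtain ⟨c, hc⟩ := hd
  rw [hc, pow_mul, FiniteField.pow_card_sub_one_eq_one a ha, one_pow, map_one]

theorem subfield_subgroups {q : ℕ} (hF : Fintype.card F = q) (hodd : Odd q) (m : ℕ) (hm : 1 ≤ m)
    (hK : Fintype.card K ^ m = q) :
    (∃ H : Subgroup (ProjectiveSpecialLinearGroup (Fin 2) F),
      Nonempty (H ≃* ProjectiveSpecialLinearGroup (Fin 2) K)) ∧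
    ((∃ H : Subgroup (ProjectiveSpecialLinearGroup (Fin 2) F),
      Nonempty (H ≃* ProjGenLinGroup (Fin 2) K)) ↔ Even m) := by
  obtain ⟨f⟩ := exists_ringHom_of_card_pow (F := F) hm (hK.trans hF.symm)
  refine ⟨⟨(pslMap f).range, ⟨(MonoidHom.ofInjective (pslMap_injective f)).symm⟩⟩, ?_, fun hme => ?_⟩
  · rintro ⟨H, ⟨e⟩⟩
    rw [← Nat.not_odd_iff_even]
    intro hmo
    set k := Fintype.card K with hk
    have hko : Odd k := by
      rcases Nat.even_or_odd k with h | h
      · exact absurd ((Nat.even_pow' (by omega)).2 h) (Nat.not_even_iff_odd.2 (hK ▸ hodd))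
      · exact h
    have h1 := mul_dvd_mul_left (Nat.gcd 2 (q - 1)) H.card_subgroup_dvd_card
    rw [Nat.card_congr e.toEquiv, card_PGL_eq_card_SL, Two.card_SL_two, ← hF, Two.card_PSL_two,
      hF, ← hk, Nat.gcd_eq_left (by obtain ⟨t, rfl⟩ := hodd; exact ⟨t, by omega⟩)] at h1
    obtain ⟨S, hS, hS2⟩ := exists_pow_sub_one (hko.pow (n := 2)) m
    have e2 : q ^ 2 - 1 = (k ^ 2 - 1) * S := by
      rw [← hK, ← pow_mul, mul_comm m 2, pow_mul, hS]; omega
    have hkpos : 0 < k ^ 2 - 1 := by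
      have : 1 < k := Fintype.one_lt_card
      have := Nat.one_lt_pow (n := 2) (by norm_num) this
      omega
    rw [e2, show q * ((k ^ 2 - 1) * S) = q * S * (k ^ 2 - 1) by ring, ← mul_assoc] at h1
    have h2 : 2 ∣ q * S := dvd_trans (dvd_mul_right 2 k) (Nat.dvd_of_mul_dvd_mul_right hkpos h1)
    rw [Nat.dvd_iff_mod_eq_zero, Nat.mul_mod, hS2, Nat.odd_iff.1 hodd, Nat.odd_iff.1 hmo] at h2
    exact absurd h2 (by norm_num)
  · have hrange : ∀ g : ProjGenLinGroup (Fin 2) K, ProjGenLinGroup.map f g ∈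
        (ProjectiveSpecialLinearGroup.toPGL (n := Fin 2) (R := F)).range := by
      intro g
      induction g using ProjGenLinGroup.induction_on with | mk g =>
      obtain ⟨r, hr⟩ := isSquare_map_of_even f hF hodd hK hme
        (GeneralLinearGroup.det_ne_zero g)
      have hr0 : r ≠ 0 := fun h => by
        rw [h, mul_zero] at hr
        exact GeneralLinearGroup.det_ne_zero g ((map_eq_zero f).1 hr)
      let A : SL(2, F) := ⟨r⁻¹ • (g : Matrix (Fin 2) (Fin 2) K).map f, by
        have hd : ((g : Matrix (Fin 2) (Fin 2) K).map f).det = r * r := by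
          rw [← hr]; exact (f.map_det _).symm
        rw [Matrix.det_smul, hd, Fintype.card_fin]
        field_simp⟩
      refine ⟨QuotientGroup.mk A, ?_⟩
      rw [ProjectiveSpecialLinearGroup.toPGL_mk, ProjGenLinGroup.map_mk]
      refine mk_eq_of_smul (Units.mk0 r hr0) ?_
      show (g : Matrix (Fin 2) (Fin 2) K).map f = r • (r⁻¹ • (g : Matrix (Fin 2) (Fin 2) K).map f)
      rw [smul_smul, mul_inv_cancel₀ hr0, one_smul]
    let ι := MonoidHom.ofInjective (ProjectiveSpecialLinearGroup.toPGL_injective (n := Fin 2) (R := F))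
    let φ : ProjGenLinGroup (Fin 2) K →* ProjectiveSpecialLinearGroup (Fin 2) F :=
      ι.symm.toMonoidHom.comp ((ProjGenLinGroup.map f).codRestrict _ hrange)
    have hφ : Function.Injective φ :=
      ι.symm.injective.comp fun x y h => pglMap_injective f (congrArg Subtype.val h)
    exact ⟨φ.range, ⟨(MonoidHom.ofInjective hφ).symm⟩⟩

end CfsgLib.Classical.Dickson
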