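import Cfsg.Agent.Lib.Classical.Dickson.Pairs

/-!
Tools for deciding maximality of subgroups of `PSL(2, q)`: orders, fixed points, squares, element
orders in subfield subgroups, and inclusions between subfield subgroups.
-/

set_option autoImplicit false

namespace CfsgLib.Classical.Dickson

open Matrix
open scoped LinearAlgebra.Projectivization MatrixGroups commutatorElement

/-! ### Squares commute in cyclic and dihedral groups -/

theorem squares_commute_of_cyclic {G : Type*} [Group G] [IsCyclic G] (x y : G) :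
    Commute (x ^ 2) (y ^ 2) := by
  obtain ⟨g, hg⟩ := IsCyclic.exists_generator (α := G)
  obtain ⟨i, rfl⟩ := Subgroup.mem_zpowers_iff.1 (hg x)
  obtain ⟨j, rfl⟩ := Subgroup.mem_zpowers_iff.1 (hg y)
  exact (((Commute.refl g).zpow_left i).zpow_right j).pow_pow 2 2

theorem squares_commute_of_dihedral {G : Type*} [Group G] {n : ℕ}
    (ψ : G ≃* DihedralGroup n) (x y : G) : Commute (x ^ 2) (y ^ 2) := by
  have key : ∀ a : DihedralGroup n, ∃ i, a ^ 2 = DihedralGroup.r i := by
    rintro (i | i)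
    · exact ⟨i + i, by rw [pow_two, DihedralGroup.r_mul_r]⟩
    · exact ⟨i - i, by rw [pow_two, DihedralGroup.sr_mul_sr]⟩
  obtain ⟨i, hi⟩ := key (ψ x)
  obtain ⟨j, hj⟩ := key (ψ y)
  apply ψ.injective
  rw [map_mul, map_mul, map_pow, map_pow, hi, hj, DihedralGroup.r_mul_r, DihedralGroup.r_mul_r,
    add_comm]

section Basic

variable {F : Type*} [Field F] [Fintype F]

theorem isPretransitive_psl :
    MulAction.IsPretransitive (ProjectiveSpecialLinearGroup (Fin 2) F) (ℙ F (Fin 2 → F)) :=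
  ⟨fun x y => by
    obtain ⟨g, hg⟩ := MulAction.exists_smul_eq SL(2, F) x y
    exact ⟨QuotientGroup.mk g, hg⟩⟩

theorem gcd_mul_card_psl {q : ℕ} (hF : Fintype.card F = q) :
    Nat.gcd 2 (q - 1) * Nat.card (ProjectiveSpecialLinearGroup (Fin 2) F) = q * (q ^ 2 - 1) := by
  rw [← hF]; exact Two.card_PSL_two

theorem index_stabilizer_psl {q : ℕ} (hF : Fintype.card F = q) (x : ℙ F (Fin 2 → F)) :
    (MulAction.stabilizer (ProjectiveSpecialLinearGroup (Fin 2) F) x).index = q + 1 := by
  have := isPretransitive_psl (F := F)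
  rw [MulAction.index_stabilizer, MulAction.orbit_eq_univ, Set.ncard_univ, Two.card_line, hF]

theorem gcd_mul_card_stabilizer {q : ℕ} (hF : Fintype.card F = q) (x : ℙ F (Fin 2 → F)) :
    Nat.gcd 2 (q - 1) *
      Nat.card (MulAction.stabilizer (ProjectiveSpecialLinearGroup (Fin 2) F) x) = q * (q - 1) := by
  have h1 := (MulAction.stabilizer (ProjectiveSpecialLinearGroup (Fin 2) F) x).card_mul_index
  rw [index_stabilizer_psl hF x] at h1
  have h2 := gcd_mul_card_psl (F := F) hF
  rw [← h1] at h2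
  have hq : 1 ≤ q := hF ▸ Fintype.card_pos
  have e : q ^ 2 - 1 = (q - 1) * (q + 1) := by
    rw [mul_comm, ← Nat.sq_sub_sq, one_pow]
  rw [e, ← mul_assoc, ← mul_assoc] at h2
  exact Nat.eq_of_mul_eq_mul_right (by omega) h2

end Basic

section Fix

variable {F : Type*} [Field F]

theorem comm_pow_char_of_fix (p : ℕ) [Fact p.Prime] [CharP F p] {g h : Mob F} {x : Pt F}
    (hg : g • x = x) (hh : h • x = x) : ⁅g, h⁆ ^ p = 1 := by
  obtain ⟨k, a, b, hab, hk⟩ := pglFix_conj_aff hg
  obtain ⟨a', b', hab'⟩ := exists_aff_of_fix (g := k * h * k⁻¹) (by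
    rw [← hk, mul_smul, mul_smul, inv_smul_smul, hh])
  rw [← conj_eq_one_iff (a := k), ← conj_pow]
  have e : k * ⁅g, h⁆ * k⁻¹ = ⁅k * g * k⁻¹, k * h * k⁻¹⁆ := by
    simp [commutatorElement_def, mul_assoc]
  rw [e, hab, hab', commutatorElement_def, aff_inv, aff_inv, aff_mul, aff_mul, aff_mul,
    aff_pow_eq_one_iff]
  simp [mul_comm]

theorem not_fix_of_commutator (p : ℕ) [Fact p.Prime] [CharP F p]
    {g h : ProjectiveSpecialLinearGroup (Fin 2) F} {n : ℕ} (hn : ¬ p ∣ n)
    (h1 : ⁅g, h⁆ ≠ 1) (hp : ⁅g, h⁆ ^ n = 1) {x : ℙ F (Fin 2 → F)} (hg : g • x = x) :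
    h • x ≠ x := by
  intro hh
  rw [← psl_smul] at hg hh
  have e := comm_pow_char_of_fix p hg hh
  rw [← map_commutatorElement, ← map_pow] at e
  have e' : ⁅g, h⁆ ^ p = 1 :=
    ProjectiveSpecialLinearGroup.toPGL_injective (e.trans (map_one _).symm)
  have hc : Nat.Coprime n p := ((Fact.out : p.Prime).coprime_iff_not_dvd.2 hn).symm
  refine h1 (orderOf_eq_one_iff.1 ?_)
  exact Nat.eq_one_of_dvd_coprimes hc (orderOf_dvd_of_pow_eq_one hp) (orderOf_dvd_of_pow_eq_one e')

end Fix

/-! ### Subfield subgroups -/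

section Subfield

variable {K F : Type*} [Field K] [Field F] (f : K →+* F)

/-- Image in `PSL₂(F)` of a diagonal, upper or lower unitriangular matrix over `K`. -/
theorem exists_mem_pslImage_aff (a : Kˣ) (b : K) :
    ∃ x ∈ pslImage f, ProjectiveSpecialLinearGroup.toPGL x =
      aff (Units.map (f : K →* F) (a * a)) (f b) := by
  let A : SL(2, K) := ⟨!![(a : K), b * ((a⁻¹ : Kˣ) : K); 0, ((a⁻¹ : Kˣ) : K)], by simp [det_fin_two]⟩
  refine ⟨pslMap f (A : ProjectiveSpecialLinearGroup (Fin 2) K), ⟨_, rfl⟩, ?_⟩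
  rw [toPGL_pslMap, ProjectiveSpecialLinearGroup.toPGL_mk, ProjGenLinGroup.map_mk, aff]
  refine mk_eq_of_smul (Units.map (f : K →* F) a) ?_
  have e00 : A.1 0 0 = (a : K) := rfl
  have e01 : A.1 0 1 = b * ((a⁻¹ : Kˣ) : K) := rfl
  have e10 : A.1 1 0 = 0 := rfl
  have e11 : A.1 1 1 = ((a⁻¹ : Kˣ) : K) := rfl
  ext i j
  fin_cases i <;> fin_cases j <;>
    simp [GeneralLinearGroup.map, SpecialLinearGroup.coe_GL_coe_matrix, e00, e01, e10, e11]
  · have h0 : f (a : K) ≠ 0 := (map_ne_zero f).2 a.ne_zero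
    field_simp

theorem exists_mem_pslImage_low :
    ∃ x ∈ pslImage f, ProjectiveSpecialLinearGroup.toPGL x = low F := by
  let A : SL(2, K) := ⟨!![(1 : K), 0; 1, 1], by simp [det_fin_two]⟩
  refine ⟨pslMap f (A : ProjectiveSpecialLinearGroup (Fin 2) K), ⟨_, rfl⟩, ?_⟩
  rw [toPGL_pslMap, ProjectiveSpecialLinearGroup.toPGL_mk, ProjGenLinGroup.map_mk, low]
  congr 1
  apply Units.ext
  have e00 : A.1 0 0 = 1 := rfl
  have e01 : A.1 0 1 = 0 := rfl
  have e10 : A.1 1 0 = 1 := rfl
  have e11 : A.1 1 1 = 1 := rfl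
  ext i j
  fin_cases i <;> fin_cases j <;>
    simp [GeneralLinearGroup.map, SpecialLinearGroup.coe_GL_coe_matrix, e00, e01, e10, e11]

theorem low_smul_inf : low F • inf F = pt (1 : F) := by
  rw [low, inf, Two.basePoint, pt, Projectivization.PGL.mk_smul_mk, Projectivization.mk_eq_mk_iff']
  exact ⟨1, funext fun i => by fin_cases i <;> simp [Units.smul_def]⟩

theorem pslImage_no_fixed (x : ℙ F (Fin 2 → F)) : ∃ g ∈ pslImage f, g • x ≠ x := by
  obtain ⟨u, hu, hu'⟩ := exists_mem_pslImage_aff f 1 1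
  obtain ⟨l, hl, hl'⟩ := exists_mem_pslImage_low f
  by_contra! h
  have h1 := h u hu
  have h2 := h l hl
  rw [← psl_smul, hu', mul_one, map_one, map_one] at h1
  rw [← psl_smul, hl'] at h2
  rcases eq_inf_or_pt x with rfl | ⟨y, rfl⟩
  · rw [low_smul_inf] at h2
    exact pt_ne_inf 1 h2
  · rw [aff_smul_pt, Units.val_one, one_mul] at h1
    have := pt_injective h1
    simp at this

theorem pslImage_squares_noncommute [Fintype K]
    (hK : (2 : K) ≠ 0 ∨ 4 ≤ Fintype.card K) :
    ∃ x ∈ pslImage f, ∃ y ∈ pslImage f, ¬ Commute (x ^ 2) (y ^ 2) := by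
  classical
  rcases em ((2 : K) = 0) with h2 | h2
  · have h4 : 4 ≤ Fintype.card K := hK.resolve_left (fun h => h h2)
    obtain ⟨c, -, hc⟩ := Finset.exists_mem_notMem_of_card_lt_card (s := ({0, 1} : Finset K))
      (t := Finset.univ) (Finset.card_le_two.trans_lt (by rw [Finset.card_univ]; omega))
    simp only [Finset.mem_insert, Finset.mem_singleton, not_or] at hc
    obtain ⟨u, hu, hu'⟩ := exists_mem_pslImage_aff f (Units.mk0 c hc.1) 0
    obtain ⟨v, hv, hv'⟩ := exists_mem_pslImage_aff f 1 1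
    refine ⟨u, hu, v * u * v⁻¹, mul_mem (mul_mem hv hu) (inv_mem hv), fun h => ?_⟩
    have h' := h.map (ProjectiveSpecialLinearGroup.toPGL (n := Fin 2) (R := F))
    rw [map_pow, map_pow, map_mul, map_mul, map_inv, hu', hv', mul_one, map_one, map_one] at h'
    simp only [map_zero, pow_two, aff_inv, aff_mul, Commute, SemiconjBy, aff_eq_iff,
      Units.val_mul, Units.coe_map, Units.val_mk0, inv_one, Units.val_one] at h'
    set d := f c
    have hd : d ≠ 1 := fun e => hc.2 (f.injective (e.trans (map_one f).symm))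
    have h22 : (2 : F) = 0 := by rw [← map_ofNat f 2, h2, map_zero]
    simp only [MonoidHom.coe_coe, map_mul] at h'
    have hd8 : (d - 1) ^ 8 = 0 := by
      linear_combination (-1 : F) * h'.2 + (-4 * d ^ 7 + 14 * d ^ 6 - 28 * d ^ 5 + 36 * d ^ 4 - 28 * d ^ 3 + 14 * d ^ 2 - 4 * d) * h22
    exact hd (sub_eq_zero.1 ((pow_eq_zero_iff (n := 8) (by norm_num)).1 hd8))
  · have : NeZero (2 : K) := ⟨h2⟩
    obtain ⟨u, hu, hu'⟩ := exists_mem_pslImage_aff f 1 (1 / 2)
    obtain ⟨l, hl, hl'⟩ := exists_mem_pslImage_low f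
    refine ⟨u, hu, l * u * l⁻¹, mul_mem (mul_mem hl hu) (inv_mem hl), fun h => ?_⟩
    have h' := h.map (ProjectiveSpecialLinearGroup.toPGL (n := Fin 2) (R := F))
    rw [map_pow, map_pow, map_mul, map_mul, map_inv, hu', hl', mul_one, map_one, conj_pow, pow_two,
      aff_mul, mul_one, Units.val_one, one_mul, ← map_add, add_halves, map_one] at h'
    -- a translation commuting with a conjugate of itself fixes its fixed point
    have hfix : (low F * aff 1 1 * (low F)⁻¹) • (low F • inf F) = low F • inf F := by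
      rw [mul_smul, mul_smul, inv_smul_smul, aff_smul_inf]
    rw [low_smul_inf] at hfix
    have e : (low F * aff 1 1 * (low F)⁻¹) • (aff (1 : Fˣ) 1 • pt (1 : F)) = aff (1 : Fˣ) 1 • pt 1 := by
      rw [← mul_smul, ← h'.eq, mul_smul, hfix]
    obtain ⟨p, hp⟩ := CharP.exists K
    have : Fact p.Prime := ⟨CharP.char_is_prime K p⟩
    have : CharP F p := charP_of_injective_ringHom f.injective p
    have hne : low F * aff (1 : Fˣ) 1 * (low F)⁻¹ ≠ 1 := fun h => by
      rw [conj_eq_one_iff, ← aff_one_zero, aff_eq_iff] at h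
      exact one_ne_zero h.2
    have := unip_fix_unique p e hfix (by rw [conj_pow, aff_pow_char p, mul_one, mul_inv_cancel]) hne
    rw [aff_smul_pt, Units.val_one, one_mul] at this
    simpa using pt_injective this

theorem sq_mem_range_toPGL (y : ProjGenLinGroup (Fin 2) K) :
    y ^ 2 ∈ (ProjectiveSpecialLinearGroup.toPGL (n := Fin 2) (R := K)).range := by
  induction y using ProjGenLinGroup.induction_on with | mk g =>
  have hd := GeneralLinearGroup.det_ne_zero g
  set r := (g : Matrix (Fin 2) (Fin 2) K).det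
  let A : SL(2, K) := ⟨r⁻¹ • ((g : Matrix (Fin 2) (Fin 2) K) * g), by
    rw [Matrix.det_smul, Matrix.det_mul, Fintype.card_fin]; field_simp; rfl⟩
  refine ⟨QuotientGroup.mk A, ?_⟩
  rw [ProjectiveSpecialLinearGroup.toPGL_mk, ← map_pow, pow_two]
  refine mk_eq_of_smul (Units.mk0 r hd) ?_
  show (g : Matrix (Fin 2) (Fin 2) K) * g = r • (r⁻¹ • ((g : Matrix (Fin 2) (Fin 2) K) * g))
  rw [smul_smul, mul_inv_cancel₀ hd, one_smul]

theorem orderOf_dvd_pglImage [Fintype K] (p : ℕ) [Fact p.Prime] [CharP K p] {k : ℕ}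
    (hk : Fintype.card K = k) {g : ProjectiveSpecialLinearGroup (Fin 2) F} (hg : g ∈ pglImage f)
    (hp : ¬ p ∣ orderOf g) :
    orderOf g ∣ 2 * ((k + 1) / Nat.gcd 2 (k - 1)) ∨ orderOf g ∣ 2 * ((k - 1) / Nat.gcd 2 (k - 1)) := by
  obtain ⟨y, hy⟩ := hg
  have e : orderOf g = orderOf y := by
    rw [← orderOf_injective _ (ProjectiveSpecialLinearGroup.toPGL_injective) g, ← hy,
      orderOf_injective _ (pglMap_injective f)]
  rw [e] at hp ⊢
  obtain ⟨z, hz⟩ := sq_mem_range_toPGL y
  have hzy : orderOf z = orderOf (y ^ 2) := by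
    rw [← hz, orderOf_injective _ ProjectiveSpecialLinearGroup.toPGL_injective]
  have hzp : ¬ p ∣ orderOf z := fun h => hp (h.trans (hzy ▸ orderOf_pow_dvd 2))
  have hdvd : ∀ N, orderOf z ∣ N → orderOf y ∣ 2 * N := fun N hN => by
    apply orderOf_dvd_of_pow_eq_one
    rw [pow_mul]
    exact orderOf_dvd_iff_pow_eq_one.1 (hzy ▸ hN)
  exact (orderOf_dvd_psl p z hzp hk).imp (hdvd _) (hdvd _)

theorem pglImage_eq_pslImage (h : ∀ a : K, IsSquare (f a) → IsSquare a) :
    pglImage f = pslImage f := by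
  refine le_antisymm ?_ (pslImage_le_pglImage f)
  rintro x ⟨y, hy⟩
  induction y using ProjGenLinGroup.induction_on with | mk g =>
  obtain ⟨X, rfl⟩ := QuotientGroup.mk_surjective x
  rw [ProjGenLinGroup.map_mk, ProjectiveSpecialLinearGroup.toPGL_mk,
    ProjGenLinGroup.mk_eq_mk_iff] at hy
  obtain ⟨u, hu⟩ := hy
  have hd := congrArg (fun M : GL (Fin 2) F => (M : Matrix (Fin 2) (Fin 2) F).det) hu
  have hX : X.1.det = 1 := X.2
  have hsq : IsSquare (f (g : Matrix (Fin 2) (Fin 2) K).det) := by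
    refine ⟨((u⁻¹ : Fˣ) : F), ?_⟩
    simp [GeneralLinearGroup.map, GeneralLinearGroup.coe_scalar, Matrix.scalar_apply,
      Matrix.det_diagonal, Fin.prod_univ_two, SpecialLinearGroup.coe_GL_coe_matrix] at hd
    rw [show ((g : Matrix (Fin 2) (Fin 2) K).map f).det = f (g : Matrix (Fin 2) (Fin 2) K).det from
      (f.map_det _).symm] at hd
    rw [Units.val_inv_eq_inv_val]
    field_simp
    linear_combination hd
  obtain ⟨r, hr⟩ := h _ hsq
  have hr0 : r ≠ 0 := fun h0 => GeneralLinearGroup.det_ne_zero g (by rw [hr, h0, mul_zero])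
  let A : SL(2, K) := ⟨r⁻¹ • (g : Matrix (Fin 2) (Fin 2) K), by
    rw [Matrix.det_smul, hr, Fintype.card_fin]; field_simp⟩
  refine ⟨QuotientGroup.mk A, ProjectiveSpecialLinearGroup.toPGL_injective ?_⟩
  rw [toPGL_pslMap, ProjectiveSpecialLinearGroup.toPGL_mk, ProjectiveSpecialLinearGroup.toPGL_mk]
  have hA : (ProjGenLinGroup.mk (SpecialLinearGroup.toGL A) : ProjGenLinGroup (Fin 2) K) =
      ProjGenLinGroup.mk g := mk_eq_of_smul (Units.mk0 r hr0) (by
        show (g : Matrix (Fin 2) (Fin 2) K) = r • (r⁻¹ • (g : Matrix (Fin 2) (Fin 2) K))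
        rw [smul_smul, mul_inv_cancel₀ hr0, one_smul])
  rw [hA, ProjGenLinGroup.map_mk, ProjGenLinGroup.mk_eq_mk_iff]
  exact ⟨u, hu⟩

end Subfield

/-! ### Subfields of finite fields -/

section Fields

variable {F : Type*} [Field F]

theorem isSquare_of_two_eq_zero [Finite F] (h2 : (2 : F) = 0) (a : F) : IsSquare a := by
  have : Fintype F := Fintype.ofFinite F
  have : CharP F 2 := CharTwo.of_one_ne_zero_of_two_eq_zero one_ne_zero h2
  exact FiniteField.isSquare_of_char_two (ringChar.eq_iff.2 this) a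

theorem mem_subfield_iff_pow [Finite F] {L : Subfield F} {x : F} :
    x ∈ L ↔ x ^ Nat.card L = x := by
  classical
  have : Fintype L := Fintype.ofFinite L
  have : Fintype F := Fintype.ofFinite F
  set k := Nat.card L with hk
  have hk' : Fintype.card L = k := by rw [hk, Nat.card_eq_fintype_card]
  have hk2 : 1 < k := hk' ▸ Fintype.one_lt_card
  have h1 : ∀ x ∈ L, x ^ k = x := fun x hx => by
    have := congrArg Subtype.val (FiniteField.pow_card (⟨x, hx⟩ : L))
    rwa [hk', SubmonoidClass.coe_pow] at this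
  refine ⟨h1 x, fun hx => ?_⟩
  set P : Polynomial F := Polynomial.X ^ k - Polynomial.X
  have hP : P ≠ 0 := FiniteField.X_pow_card_sub_X_ne_zero F hk2
  have hsub : Finset.univ.filter (· ∈ L) ⊆ P.roots.toFinset := by
    intro y hy
    simp only [Finset.mem_filter, Finset.mem_univ, true_and] at hy
    simp [P, Polynomial.mem_roots hP, h1 y hy]
  have heq := Finset.eq_of_subset_of_card_le hsub (by
    refine (Multiset.toFinset_card_le _).trans ((Polynomial.card_roots' _).trans ?_)
    rw [FiniteField.X_pow_card_sub_X_natDegree_eq F hk2, ← hk', Fintype.card_subtype])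
  have : x ∈ P.roots.toFinset := by simp [P, Polynomial.mem_roots hP, hx]
  rw [← heq] at this
  simpa using this

theorem subfield_le_of_card_pow [Finite F] {K L : Subfield F} {i : ℕ}
    (h : Nat.card K ^ i = Nat.card L) : K ≤ L := by
  intro x hx
  rw [mem_subfield_iff_pow] at hx ⊢
  rw [← h]
  clear h
  induction i with
  | zero => rw [pow_zero, pow_one]
  | succ i ih => rw [pow_succ, pow_mul, ih, hx]

theorem exists_subfield_card [Fintype F] (p : ℕ) [Fact p.Prime] {l m : ℕ} (hl : l ≠ 0) (hm : 1 ≤ m)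
    (h : (p ^ l) ^ m = Fintype.card F) : ∃ L : Subfield F, Nat.card L = p ^ l := by
  have : Fintype (GaloisField p l) := Fintype.ofFinite _
  obtain ⟨f⟩ := exists_ringHom_of_card_pow (F := F) (K := GaloisField p l) hm (by
    rw [← Nat.card_eq_fintype_card, GaloisField.card p l hl, h])
  refine ⟨f.fieldRange, ?_⟩
  rw [← GaloisField.card p l hl]
  exact (Nat.card_congr (Equiv.ofBijective _ f.rangeRestrictField_bijective)).symm

theorem exists_degree [Finite F] {K L : Subfield F} (h : K ≤ L) :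
    ∃ i, 1 ≤ i ∧ Nat.card K ^ i = Nat.card L := by
  have : Fintype K := Fintype.ofFinite K
  have : Fintype L := Fintype.ofFinite L
  let _ : Algebra K L := (Subfield.inclusion h).toAlgebra
  refine ⟨Module.finrank K L, Nat.one_le_iff_ne_zero.2 (Module.finrank_pos).ne', ?_⟩
  rw [Nat.card_eq_fintype_card, Nat.card_eq_fintype_card, ← Module.card_eq_pow_finrank]

theorem pglImage_mono {K L : Subfield F} (h : K ≤ L) : pglImage K.subtype ≤ pglImage L.subtype := by
  have e : K.subtype = L.subtype.comp (Subfield.inclusion h) := RingHom.ext fun _ => rfl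
  rw [e]
  exact pglImage_comp_le _ _

theorem pslImage_mono {K L : Subfield F} (h : K ≤ L) : pslImage K.subtype ≤ pslImage L.subtype := by
  have e : K.subtype = L.subtype.comp (Subfield.inclusion h) := RingHom.ext fun _ => rfl
  rw [e]
  exact pslImage_comp_le _ _

theorem subfield_le_of_images [Finite F] (g : GL (Fin 2) F) {K L : Subfield F}
    (h : (pslImage K.subtype).map (pslConj g).toMonoidHom ≤ pglImage L.subtype) : K ≤ L := by
  have hsq : ∀ b ∈ K, b ^ 2 ∈ L := by
    intro b hb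
    let A : SL(2, K) := ⟨!![(⟨b, hb⟩ : K), -1; 1, 0], by simp [det_fin_two]⟩
    have hmem : pslConj g (pslMap K.subtype (A : ProjectiveSpecialLinearGroup (Fin 2) K)) ∈
        pglImage L.subtype := h ⟨_, ⟨_, rfl⟩, rfl⟩
    obtain ⟨y, hy⟩ := hmem
    induction y using ProjGenLinGroup.induction_on with | mk B =>
    rw [toPGL_pslConj, toPGL_pslMap, ProjectiveSpecialLinearGroup.toPGL_mk, ProjGenLinGroup.map_mk,
      ProjGenLinGroup.map_mk, ← map_inv, ← map_mul, ← map_mul] at hy
    have ht := traceSq_congr hy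
    rw [traceSq_conj] at ht
    have e : traceSq (GeneralLinearGroup.map L.subtype B) = L.subtype
        ((B : Matrix (Fin 2) (Fin 2) L).trace ^ 2 / (B : Matrix (Fin 2) (Fin 2) L).det) := by
      simp [traceSq, GeneralLinearGroup.map, Matrix.trace_fin_two, Matrix.det_fin_two, map_div₀,
        map_pow, map_add, map_sub, map_mul]
    have e2 : traceSq (GeneralLinearGroup.map K.subtype (SpecialLinearGroup.toGL A)) = b ^ 2 := by
      have e00 : A.1 0 0 = ⟨b, hb⟩ := rfl
      have e01 : A.1 0 1 = -1 := rfl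
      have e10 : A.1 1 0 = 1 := rfl
      have e11 : A.1 1 1 = 0 := rfl
      simp [traceSq, GeneralLinearGroup.map, Matrix.trace_fin_two, Matrix.det_fin_two,
        SpecialLinearGroup.coe_GL_coe_matrix, e00, e01, e10, e11]
    rw [e, e2] at ht
    rw [← ht]
    exact (((B : Matrix (Fin 2) (Fin 2) L).trace ^ 2 / (B : Matrix (Fin 2) (Fin 2) L).det : L)).2
  intro b hb
  by_cases h2 : (2 : F) = 0
  · have h22 : (2 : K) = 0 := K.subtype.injective (by rw [map_ofNat, map_zero, h2])
    obtain ⟨c, hc⟩ := isSquare_of_two_eq_zero h22 (⟨b, hb⟩ : K)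
    have := hsq c c.2
    rwa [pow_two, ← Subfield.coe_mul, ← hc] at this
  · have e1 : b = ((b + 1) ^ 2 - b ^ 2 - 1) / (1 + 1) := by
      rw [one_add_one_eq_two]; field_simp; ring
    rw [e1]
    exact L.div_mem (L.sub_mem (L.sub_mem (hsq _ (K.add_mem hb K.one_mem)) (hsq b hb))
      L.one_mem) (L.add_mem L.one_mem L.one_mem)

end Fields

/-! ### Containment in a conjugate -/

section Containment

variable {F : Type*} [Field F]

theorem exists_le_conj {Γ : Type*} [Group Γ] {M H : Subgroup (ProjectiveSpecialLinearGroup (Fin 2) F)}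
    (ψ : M ≃* Γ) (e₀ : Γ →* ProjectiveSpecialLinearGroup (Fin 2) F) (he₀ : ∀ x, e₀ x ∈ H)
    (hconj : ∀ e : Γ →* ProjectiveSpecialLinearGroup (Fin 2) F, Function.Injective e →
      ∃ (g : GL (Fin 2) F) (θ : MulAut Γ), ∀ x, e x = pslConj g (e₀ (θ x))) :
    ∃ g : GL (Fin 2) F, M ≤ H.map (pslConj g).toMonoidHom := by
  obtain ⟨g, θ, hg⟩ := hconj (M.subtype.comp ψ.symm.toMonoidHom)
    (M.subtype_injective.comp ψ.symm.injective)
  refine ⟨g, fun x hx => ⟨e₀ (θ (ψ ⟨x, hx⟩)), he₀ _, ?_⟩⟩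
  show pslConj g (e₀ (θ (ψ ⟨x, hx⟩))) = x
  rw [← hg]
  show ((ψ.symm (ψ ⟨x, hx⟩) : M) : ProjectiveSpecialLinearGroup (Fin 2) F) = x
  rw [MulEquiv.symm_apply_apply]

theorem card_map_pslConj (g : GL (Fin 2) F)
    (H : Subgroup (ProjectiveSpecialLinearGroup (Fin 2) F)) :
    Nat.card (H.map (pslConj g).toMonoidHom) = Nat.card H :=
  (Nat.card_congr (H.equivMapOfInjective _ (pslConj g).injective).toEquiv).symm

theorem not_isCoatom_of_between [Finite F] {M N : Subgroup (ProjectiveSpecialLinearGroup (Fin 2) F)}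
    (h : M ≤ N) (h1 : Nat.card M < Nat.card N)
    (h2 : Nat.card N < Nat.card (ProjectiveSpecialLinearGroup (Fin 2) F)) : ¬ IsCoatom M := by
  intro hM
  have hlt : M < N := lt_of_le_of_ne h fun e => by rw [e] at h1; exact lt_irrefl _ h1
  have htop := hM.2 N hlt
  rw [htop, Subgroup.card_top] at h2
  exact lt_irrefl _ h2

end Containment

end CfsgLib.Classical.Dickson
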