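import Cfsg.Agent.Lib.Classical.Dickson.KleinClasses

/-!
Two opposite transvections generate `SL(2, F)`, apart from one exception over the field with nine
elements.
-/

set_option autoImplicit false

namespace CfsgLib.Classical.Dickson

open Matrix
open CfsgLib.Classical.Trace (trc IsScalar)
open scoped LinearAlgebra.Projectivization MatrixGroups

/-! ### Coordinates for the exceptional group -/

/-- Coordinates for a `2 × 2` matrix over the field with nine elements. -/
abbrev Coord := (ZMod 3 × ZMod 3) × (ZMod 3 × ZMod 3) × (ZMod 3 × ZMod 3) × (ZMod 3 × ZMod 3)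

/-- Left multiplication by the lower transvection. -/
def lowStep : Coord → Coord
  | (a, b, c, d) => (a, b, a + c, b + d)

/-- Left multiplication by the upper transvection. -/
def upStep : Coord → Coord
  | (a, b, c, d) => (a + (-c.2, c.1), b + (-d.2, d.1), c, d)

/-- The decoding of a code. -/
def decode (n : ℕ) : Coord :=
  (((n % 9 % 3 : ℕ), (n % 9 / 3 : ℕ)), ((n / 9 % 9 % 3 : ℕ), (n / 9 % 9 / 3 : ℕ)),
    ((n / 81 % 9 % 3 : ℕ), (n / 81 % 9 / 3 : ℕ)), ((n / 729 % 3 : ℕ), (n / 729 / 3 : ℕ)))

/-- The elements of the exceptional subgroup of order 120. -/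
def excCodes : List ℕ := [
  387, 392, 394, 477, 481, 485, 603, 607, 611, 693, 698, 700, 730, 757, 784,
  811, 841, 871, 892, 925, 949, 1460, 1487, 1514, 1541, 1574, 1598, 1622, 1652, 1682,
  2193, 2202, 2211, 2436, 2446, 2456, 2679, 2690, 2698, 3013, 3025, 3073, 3103, 3118, 3133,
  3183, 3203, 3220, 3338, 3352, 3393, 3417, 3436, 3482, 3509, 3519, 3541, 3743, 3776, 3782,
  3833, 3836, 3875, 3903, 3940, 3950, 3994, 4001, 4032, 4155, 4166, 4201, 4309, 4338, 4352,
  4377, 4386, 4395, 4620, 4631, 4639, 4863, 4873, 4883, 5197, 5236, 5239, 5287, 5293, 5335,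
  5358, 5396, 5404, 5450, 5461, 5490, 5610, 5620, 5657, 5765, 5796, 5812, 5927, 5942, 5993,
  6017, 6038, 6050, 6096, 6115, 6134, 6250, 6272, 6309, 6330, 6350, 6394, 6421, 6435, 6461]

/-- The elements of the exceptional subgroup of order 120. -/
def excSet : List Coord := excCodes.map decode

theorem excSet_one : ((1, 0), (0, 0), (0, 0), (1, 0)) ∈ excSet := by decide +kernel

theorem excSet_steps : ∀ X ∈ excSet, lowStep X ∈ excSet ∧ upStep X ∈ excSet := by decide +kernel

/-! ### Traces -/

section Traces

variable {F : Type*} [Field F]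

theorem psq_eq_traceSq {x : ProjectiveSpecialLinearGroup (Fin 2) F} {g : GL (Fin 2) F}
    (h : ProjectiveSpecialLinearGroup.toPGL x = ProjGenLinGroup.mk g) : psq x = traceSq g := by
  obtain ⟨X, rfl⟩ := QuotientGroup.mk_surjective x
  rw [ProjectiveSpecialLinearGroup.toPGL_mk] at h
  rw [psq_mk, ← traceSq_congr h]
  have hd : ((SpecialLinearGroup.toGL X : GL (Fin 2) F) : Matrix (Fin 2) (Fin 2) F).det = 1 := X.2
  rw [traceSq, hd, div_one, Matrix.trace_fin_two]
  rfl

theorem psq_pslConj (g : GL (Fin 2) F) (x : ProjectiveSpecialLinearGroup (Fin 2) F) :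
    psq (pslConj g x) = psq x := by
  obtain ⟨X, rfl⟩ := QuotientGroup.mk_surjective x
  rw [psq_eq_traceSq (g := g * SpecialLinearGroup.toGL X * g⁻¹) (by
      rw [toPGL_pslConj, ProjectiveSpecialLinearGroup.toPGL_mk]; rfl), traceSq_conj,
    ← psq_eq_traceSq (ProjectiveSpecialLinearGroup.toPGL_mk X)]

theorem psq_mem_of_pglImage {K : Subfield F} {x : ProjectiveSpecialLinearGroup (Fin 2) F}
    (hx : x ∈ pglImage K.subtype) : psq x ∈ K := by
  obtain ⟨g, hg⟩ := hx
  induction g using ProjGenLinGroup.induction_on with | mk g =>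
  rw [ProjGenLinGroup.map_mk] at hg
  rw [psq_eq_traceSq hg.symm]
  have e : traceSq (GeneralLinearGroup.map K.subtype g) = K.subtype (traceSq g) := by
    simp [traceSq, GeneralLinearGroup.map, Matrix.trace_fin_two, Matrix.det_fin_two, map_div₀]
  rw [e]
  exact (traceSq g).2

theorem psq_one : psq (1 : ProjectiveSpecialLinearGroup (Fin 2) F) = 4 := by
  rw [show (1 : ProjectiveSpecialLinearGroup (Fin 2) F) = ((1 : SL(2, F)) : ProjectiveSpecialLinearGroup (Fin 2) F)
    from rfl, psq_mk]
  simp [trc]
  norm_num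

theorem psq_of_sq {x : ProjectiveSpecialLinearGroup (Fin 2) F} (h : x ^ 2 = 1) :
    psq x = 4 ∨ psq x = 0 := by
  by_cases h1 : x = 1
  · exact Or.inl (h1 ▸ psq_one)
  · obtain ⟨X, rfl⟩ := QuotientGroup.mk_surjective x
    exact Or.inr (by rw [psq_mk, trc_zero_of_invol h1 h]; simp)

theorem psq_of_cube {x : ProjectiveSpecialLinearGroup (Fin 2) F} (h : x ^ 3 = 1) :
    psq x = 4 ∨ psq x = 1 := by
  by_cases h1 : x = 1
  · exact Or.inl (h1 ▸ psq_one)
  · exact Or.inr (psq_three h1 h)

end Traces

/-! ### The theorem -/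

variable {F : Type*} [Field F] [Fintype F]

theorem card_eq_char (p : ℕ) [Fact p.Prime] [CharP F p] {lam : F}
    (hgen : Subfield.closure ({lam} : Set F) = ⊤) {m : ℤ} (hm : (m : F) = lam) : Fintype.card F = p := by
  let f := ZMod.castHom (dvd_refl p) F
  have htop : f.fieldRange = ⊤ := by
    refine top_le_iff.1 (hgen ▸ Subfield.closure_le.2 (Set.singleton_subset_iff.2 ?_))
    exact ⟨(m : ZMod p), by rw [map_intCast, hm]⟩
  have hsurj : Function.Surjective f := fun y => by
    have h : y ∈ f.fieldRange := htop ▸ Subfield.mem_top y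
    exact h
  rw [← Fintype.card_congr (Equiv.ofBijective f ⟨f.injective, hsurj⟩), ZMod.card]

theorem two_transvections (h2 : (2 : F) ≠ 0) (lam : F) (hlam : lam ≠ 0)
    (hgen : Subfield.closure ({lam} : Set F) = ⊤) :
    (Subgroup.closure {g : SpecialLinearGroup (Fin 2) F | (g : Matrix (Fin 2) (Fin 2) F) = !![1, 0; 1, 1] ∨ (g : Matrix (Fin 2) (Fin 2) F) = !![1, lam; 0, 1]} = ⊤ ∧ ¬ (Fintype.card F = 9 ∧ lam ^ 2 = -1)) ∨
    (Fintype.card F = 9 ∧ lam ^ 2 = -1 ∧ Nat.card ↥(Subgroup.closure {g : SpecialLinearGroup (Fin 2) F | (g : Matrix (Fin 2) (Fin 2) F) = !![1, 0; 1, 1] ∨ (g : Matrix (Fin 2) (Fin 2) F) = !![1, lam; 0, 1]}) = 120) := by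
  classical
  obtain ⟨p, hpc⟩ := CharP.exists F
  have : Fact p.Prime := ⟨CharP.char_is_prime F p⟩
  have hp := (Fact.out : p.Prime)
  have hp2 : p ≠ 2 := fun e => h2 (by subst e; exact_mod_cast CharP.cast_eq_zero F 2)
  set H := Subgroup.closure {g : SL(2, F) | (g : Matrix (Fin 2) (Fin 2) F) = !![1, 0; 1, 1] ∨ (g : Matrix (Fin 2) (Fin 2) F) = !![1, lam; 0, 1]} with hH
  let A : SL(2, F) := ⟨!![1, 0; 1, 1], by simp [Matrix.det_fin_two_of]⟩
  let B : SL(2, F) := ⟨!![1, lam; 0, 1], by simp [Matrix.det_fin_two_of]⟩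
  have hAH : A ∈ H := Subgroup.subset_closure (Or.inl rfl)
  have hBH : B ∈ H := Subgroup.subset_closure (Or.inr rfl)
  let π := QuotientGroup.mk' (Subgroup.center SL(2, F))
  set Hb : Subgroup (ProjectiveSpecialLinearGroup (Fin 2) F) := H.map π with hHb
  have hu : (A : ProjectiveSpecialLinearGroup (Fin 2) F) ∈ Hb := ⟨A, hAH, rfl⟩
  have hv : (B : ProjectiveSpecialLinearGroup (Fin 2) F) ∈ Hb := ⟨B, hBH, rfl⟩
  -- invariants of two products
  have hs1 : psq ((A : ProjectiveSpecialLinearGroup (Fin 2) F) * (B : ProjectiveSpecialLinearGroup (Fin 2) F)) = (2 + lam) ^ 2 := by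
    rw [← QuotientGroup.mk_mul, psq_mk, trc, coe_mul']
    simp [A, B, Matrix.mul_apply, Fin.sum_univ_two]
    ring
  have hs2 : psq ((A : ProjectiveSpecialLinearGroup (Fin 2) F) * (A : ProjectiveSpecialLinearGroup (Fin 2) F) * (B : ProjectiveSpecialLinearGroup (Fin 2) F)) = (2 + 2 * lam) ^ 2 := by
    rw [← QuotientGroup.mk_mul, ← QuotientGroup.mk_mul, psq_mk, trc, coe_mul', coe_mul']
    simp [A, B, Matrix.mul_apply, Fin.sum_univ_two]
    ring
  have hA1 : (A : ProjectiveSpecialLinearGroup (Fin 2) F) ≠ 1 := fun e => by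
    obtain ⟨-, e10, -⟩ := Trace.mk_eq_one_iff.1 e
    simp [A] at e10
  have hpow : ∀ X : SL(2, F), trc X = 2 * 1 → (X : ProjectiveSpecialLinearGroup (Fin 2) F) ^ p = 1 :=
    fun X hX => Trace.mk_pow_char_eq_one p (one_pow 2) hX
  have hAp := hpow A (by simp [A, trc]; norm_num)
  have hBp := hpow B (by simp [B, trc]; norm_num)
  have hAo : orderOf (A : ProjectiveSpecialLinearGroup (Fin 2) F) = p := orderOf_eq_prime hAp hA1
  have hAc : A.1 = !![1, 0; 1, 1] := rfl
  have hBc : B.1 = !![1, lam; 0, 1] := rfl
  have hAB : ¬ Commute (A : ProjectiveSpecialLinearGroup (Fin 2) F) B := fun h => by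
    have h' : ((A * B : SL(2, F)) : ProjectiveSpecialLinearGroup (Fin 2) F) = (B * A : SL(2, F)) := h
    rcases eq_or_neg_of_mk h' with e | e
    · have e00 := congrArg (fun M : SL(2, F) => M.1 0 0) e
      simp only [coe_mul', hAc, hBc] at e00
      simp [Matrix.mul_apply, Fin.sum_univ_two] at e00
      exact hlam e00
    · have e01 := congrArg (fun M : SL(2, F) => M.1 0 1) e
      simp [coe_mul', hAc, hBc, Matrix.mul_apply, Fin.sum_univ_two] at e01
      exact hlam ((mul_eq_zero.1 (show (2 : F) * lam = 0 by linear_combination e01)).resolve_left h2)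
  have hpdvd : p ∣ Nat.card Hb := hAo ▸ Subgroup.orderOf_dvd_natCard _ hu
  -- the cardinalities
  have hG := gcd_mul_card_psl (F := F) (q := Fintype.card F) rfl
  have hqodd : Fintype.card F % 2 = 1 := FiniteField.odd_card_of_char_ne_two fun h => h2 (by
    have : CharP F 2 := ringChar.eq_iff.1 h
    exact_mod_cast CharP.cast_eq_zero F 2)
  rw [Nat.gcd_eq_left (Nat.dvd_of_mod_eq_zero (by omega))] at hG
  have hneg : (-1 : SL(2, F)) ∈ H := by
    obtain ⟨z, hzH, hz1, hz2⟩ : ∃ z ∈ H, z ≠ 1 ∧ z * z = 1 := by
      have h2' : 2 ∣ Nat.card H := by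
        by_contra hodd
        -- an odd order preimage would be isomorphic to its image, yet contain no involution
        have hno : ∀ x ∈ Hb, x ^ 2 = 1 → x = 1 := by
          intro x hx hx2
          have h1 : orderOf x ∣ Nat.card H :=
            (Subgroup.orderOf_dvd_natCard _ hx).trans (Subgroup.card_map_dvd _ _)
          have h2'' : orderOf x ∣ 2 := orderOf_dvd_of_pow_eq_one hx2
          rcases (Nat.dvd_prime Nat.prime_two).1 h2'' with e | e
          · exact orderOf_eq_one_iff.1 e
          · exact absurd ((dvd_of_eq e.symm).trans h1) hodd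
        have h2b : ¬ 2 ∣ Nat.card Hb := fun hd => by
          obtain ⟨x, hx⟩ := exists_prime_orderOf_dvd_card' (G := Hb) 2 hd
          have hx1 := hno x.1 x.2 (congrArg Subtype.val
            (show x ^ 2 = 1 by have h' := pow_orderOf_eq_one x; rwa [hx] at h'))
          have hx' : x = 1 := Subtype.ext hx1
          rw [hx', orderOf_one] at hx
          norm_num at hx
        rcases subgroup_cases_conj p (q := Fintype.card F) rfl Hb with
          ⟨-, hC, -⟩ | ⟨-, z, hz⟩ | ⟨n, -, hpn, -, ⟨ψ⟩⟩ | ⟨⟨ψ⟩⟩ | ⟨⟨ψ⟩⟩ | ⟨⟨ψ⟩⟩ | ⟨K, g, hK3, hc⟩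
        · exact hC hpdvd
        · exact hAB (by
            have hcz := commute_of_unip p (x := z) (g := ProjectiveSpecialLinearGroup.toPGL (A : ProjectiveSpecialLinearGroup (Fin 2) F))
              (g' := ProjectiveSpecialLinearGroup.toPGL (B : ProjectiveSpecialLinearGroup (Fin 2) F))
              (by rw [psl_smul]; exact hz _ hu) (by rw [psl_smul]; exact hz _ hv)
              (by rw [← map_pow, hAp, map_one]) (by rw [← map_pow, hBp, map_one])
            exact ProjectiveSpecialLinearGroup.toPGL_injective ((map_mul _ _ _).trans (hcz.eq.trans (map_mul _ _ _).symm)))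
        · exact h2b (by rw [card_of_equiv ψ DihedralGroup.nat_card]; exact dvd_mul_right 2 n)
        · exact h2b (by rw [card_of_equiv ψ natCard_alt_four]; norm_num)
        · exact h2b (by rw [card_of_equiv ψ natCard_perm_four]; norm_num)
        · exact h2b (by rw [card_of_equiv ψ natCard_alt_five]; norm_num)
        · have : Fintype K := Fintype.ofFinite K
          have hkd : Nat.card (pslImage K.subtype) ∣ Nat.card Hb := by
            rw [← card_map_pslConj g Hb]
            rcases hc with e | ⟨-, e⟩ <;> rw [e]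
            exact Subgroup.card_dvd_of_le (pslImage_le_pglImage _)
          refine h2b (dvd_trans ?_ hkd)
          obtain ⟨j, hj1, hjF⟩ := exists_card_pow K
          have hko : Nat.card K % 2 = 1 := by
            rcases Nat.mod_two_eq_zero_or_one (Nat.card K) with h | h
            · rw [← hjF, Nat.pow_mod, h] at hqodd
              rw [zero_pow (by omega : j ≠ 0)] at hqodd
              omega
            · exact h
          have h1 := card_pslImage_mul (K := K) rfl
          rw [Nat.gcd_eq_left (Nat.dvd_of_mod_eq_zero (by omega))] at h1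
          have h4 : 4 ∣ Nat.card K ^ 2 - 1 := by
            have e : Nat.card K ^ 2 % 4 = 1 := by
              rw [Nat.pow_mod]
              rcases (by omega : Nat.card K % 4 = 1 ∨ Nat.card K % 4 = 3) with e | e <;> rw [e]
            omega
          obtain ⟨t, ht⟩ := dvd_mul_of_dvd_right h4 (Nat.card K)
          rw [ht] at h1
          exact ⟨t, by omega⟩
      have : Fact (Nat.Prime 2) := ⟨Nat.prime_two⟩
      obtain ⟨z, hz⟩ := exists_prime_orderOf_dvd_card' (G := H) 2 h2'
      refine ⟨z.1, z.2, fun e => ?_, ?_⟩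
      · rw [show z = 1 from Subtype.ext e, orderOf_one] at hz
        norm_num at hz
      · rw [← pow_two]
        exact congrArg Subtype.val (show z ^ 2 = 1 by have h' := pow_orderOf_eq_one z; rwa [hz] at h')
    exact eq_neg_one_of_involution h2 hz2 hz1 ▸ hzH
  have hcomap : Hb.comap π = H := by
    rw [hHb, Subgroup.comap_map_eq, sup_eq_left]
    intro z hz
    rw [QuotientGroup.ker_mk', CfsgLib.Known.SL2ClassSizes.mem_center_iff'] at hz
    rcases hz with rfl | rfl
    · exact H.one_mem
    · exact hneg
  have hcardH : Nat.card H = 2 * Nat.card Hb := by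
    have hidx : H.index = Hb.index := by
      rw [← hcomap]; exact Subgroup.index_comap_of_surjective _ (QuotientGroup.mk'_surjective _)
    have e1 : Nat.card H * Hb.index = Fintype.card F * (Fintype.card F ^ 2 - 1) := by
      rw [← hidx, H.card_mul_index, Two.card_SL_two]
    rw [← hG, ← Hb.card_mul_index, ← mul_assoc] at e1
    exact Nat.eq_of_mul_eq_mul_right (Nat.pos_of_ne_zero Subgroup.index_ne_zero_of_finite) e1
  have htop : Hb = ⊤ → H = ⊤ := fun e => by rw [← hcomap, e, Subgroup.comap_top]
  -- the exceptional group is small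
  have hexc : Fintype.card F = 9 ∧ lam ^ 2 = -1 → Nat.card H ≤ 120 := by
    rintro ⟨h9, hl⟩
    obtain rfl : p = 3 := by
      obtain ⟨f, hf, hqf⟩ := exists_char_pow (F := F) p
      have : p ∣ 3 ^ 2 := by rw [show (3 : ℕ) ^ 2 = p ^ f by rw [← hqf, h9]; norm_num]; exact dvd_pow_self p (by omega)
      exact (Nat.prime_dvd_prime_iff_eq hp Nat.prime_three).1 (hp.dvd_of_dvd_pow this)
    let c : ZMod 3 →+* F := ZMod.castHom (dvd_refl 3) F
    let e : ZMod 3 × ZMod 3 → F := fun x => c x.1 + c x.2 * lam
    let m : Coord → Matrix (Fin 2) (Fin 2) F := fun X => !![e X.1, e X.2.1; e X.2.2.1, e X.2.2.2]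
    have hlow : ∀ X, !![(1 : F), 0; 1, 1] * m X = m (lowStep X) := fun X => by
      ext i j
      fin_cases i <;> fin_cases j <;>
        simp [m, e, lowStep, Matrix.mul_apply, Fin.sum_univ_two] <;> ring
    have hup : ∀ X, !![(1 : F), lam; 0, 1] * m X = m (upStep X) := fun X => by
      ext i j
      fin_cases i <;> fin_cases j <;>
        simp [m, e, upStep, Matrix.mul_apply, Fin.sum_univ_two]
      · linear_combination c X.2.2.1.2 * hl
      · linear_combination c X.2.2.2.2 * hl
    have hcover : ∀ g ∈ H, ∃ X ∈ excSet, g.1 = m X := by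
      intro g hg
      rw [hH, ← Subgroup.mem_toSubmonoid, Subgroup.closure_toSubmonoid_of_finite] at hg
      induction hg using Submonoid.closure_induction_left with
      | one =>
        refine ⟨_, excSet_one, ?_⟩
        ext i j
        fin_cases i <;> fin_cases j <;> simp [m, e]
      | mul_left x hx y _ ih =>
        obtain ⟨X, hX, hXy⟩ := ih
        rcases hx with hx | hx
        · refine ⟨lowStep X, (excSet_steps X hX).1, ?_⟩
          rw [coe_mul', hx, hXy, hlow]
        · refine ⟨upStep X, (excSet_steps X hX).2, ?_⟩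
          rw [coe_mul', hx, hXy, hup]
    choose X hX hXg using fun g : H => hcover g.1 g.2
    have hinj : Function.Injective fun g : H => (⟨X g, List.mem_toFinset.2 (hX g)⟩ : excSet.toFinset) :=
      fun a b h => by
        have h' : X a = X b := congrArg Subtype.val h
        exact Subtype.ext (Subtype.ext (by rw [hXg a, hXg b, h']))
    refine (Nat.card_le_card_of_injective _ hinj).trans ?_
    rw [Nat.card_eq_fintype_card, Fintype.card_coe]
    exact (List.toFinset_card_le _).trans (by simp [excSet, excCodes])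
  -- the classification
  have hmain : Hb = ⊤ ∨ (Fintype.card F = 9 ∧ lam ^ 2 = -1 ∧ Nat.card Hb = 60) := by
    have hprime : ∀ {Γ : Type} [Group Γ] (ψ : Hb ≃* Γ) (N : ℕ), Nat.card Γ = N → p ∣ N :=
      fun ψ N hN => card_of_equiv ψ hN ▸ hpdvd
    have hord : ∀ {Γ : Type} [Group Γ] (ψ : Hb ≃* Γ) {n : ℕ} (x : ProjectiveSpecialLinearGroup (Fin 2) F)
        (hx : x ∈ Hb), (ψ ⟨x, hx⟩) ^ n = 1 → x ^ n = 1 := fun ψ n x hx h => by
      rw [← map_pow, ← map_one ψ] at h
      exact congrArg Subtype.val (ψ.injective h)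
    have hprimeFld : ∀ {m : ℤ}, (m : F) = lam → Nat.card Hb ≤ Nat.card (ProjectiveSpecialLinearGroup (Fin 2) F) ∧
        Fintype.card F = p := fun {m} hm => ⟨Subgroup.card_le_card_group _, card_eq_char p hgen hm⟩
    rcases subgroup_cases_conj p (q := Fintype.card F) rfl Hb with
      ⟨-, hC, -⟩ | ⟨-, z, hz⟩ | ⟨n, -, hpn, -, ⟨ψ⟩⟩ | ⟨⟨ψ⟩⟩ | ⟨⟨ψ⟩⟩ | ⟨⟨ψ⟩⟩ | ⟨K, g, hK3, hc⟩
    · exact absurd hpdvd hC
    · exfalso
      refine hAB ?_
      have hcz := commute_of_unip p (x := z) (g := ProjectiveSpecialLinearGroup.toPGL (A : ProjectiveSpecialLinearGroup (Fin 2) F))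
        (g' := ProjectiveSpecialLinearGroup.toPGL (B : ProjectiveSpecialLinearGroup (Fin 2) F))
        (by rw [psl_smul]; exact hz _ hu) (by rw [psl_smul]; exact hz _ hv)
        (by rw [← map_pow, hAp, map_one]) (by rw [← map_pow, hBp, map_one])
      exact ProjectiveSpecialLinearGroup.toPGL_injective ((map_mul _ _ _).trans (hcz.eq.trans (map_mul _ _ _).symm))
    · exfalso
      have h := card_of_equiv ψ DihedralGroup.nat_card ▸ hpdvd
      rcases hp.dvd_mul.1 h with h' | h'
      · exact hp2 ((Nat.prime_dvd_prime_iff_eq hp Nat.prime_two).1 h')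
      · exact hpn h'
    · -- alternating of degree four
      obtain rfl : p = 3 := by
        have h := hprime ψ 12 natCard_alt_four
        rcases hp.dvd_mul.1 (show p ∣ 2 ^ 2 * 3 by norm_num; exact h) with h' | h'
        · exact absurd ((Nat.prime_dvd_prime_iff_eq hp Nat.prime_two).1 (hp.dvd_of_dvd_pow h')) hp2
        · exact (Nat.prime_dvd_prime_iff_eq hp Nat.prime_three).1 h'
      have h30 : (3 : F) = 0 := by exact_mod_cast CharP.cast_eq_zero F 3
      have hval : ∀ x ∈ Hb, psq x = 1 ∨ psq x = 0 := fun x hx => by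
        rcases (by decide +kernel : ∀ a : alternatingGroup (Fin 4), a ^ 2 = 1 ∨ a ^ 3 = 1) (ψ ⟨x, hx⟩) with h | h
        · rcases psq_of_sq (hord ψ x hx h) with e | e
          · exact Or.inl (by linear_combination e + h30)
          · exact Or.inr e
        · rcases psq_of_cube (hord ψ x hx h) with e | e
          · exact Or.inl (by linear_combination e + h30)
          · exact Or.inl e
      have hs := hs1 ▸ hval _ (mul_mem hu hv)
      obtain ⟨m, hm⟩ : ∃ m : ℤ, (m : F) = lam := by
        rcases hs with e | e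
        · rcases sq_eq_one_iff.1 e with e' | e'
          · exact ⟨-1, by push_cast; linear_combination -e'⟩
          · exact ⟨-3, by push_cast; linear_combination -e'⟩
        · exact ⟨-2, by push_cast; linear_combination -(sq_eq_zero_iff.1 e)⟩
      left
      refine Subgroup.eq_top_of_le_card _ ?_
      rw [card_of_equiv ψ natCard_alt_four]
      have hq := (hprimeFld hm).2
      rw [hq] at hG
      simp only [Nat.reduceMul, Nat.reducePow, Nat.reduceSub] at hG
      omega
    · -- symmetric of degree four
      exfalso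
      obtain rfl : p = 3 := by
        have h := hprime ψ 24 natCard_perm_four
        rcases hp.dvd_mul.1 (show p ∣ 2 ^ 3 * 3 by norm_num; exact h) with h' | h'
        · exact absurd ((Nat.prime_dvd_prime_iff_eq hp Nat.prime_two).1 (hp.dvd_of_dvd_pow h')) hp2
        · exact (Nat.prime_dvd_prime_iff_eq hp Nat.prime_three).1 h'
      have h30 : (3 : F) = 0 := by exact_mod_cast CharP.cast_eq_zero F 3
      have hval : ∀ x ∈ Hb, psq x = 1 ∨ psq x = 0 ∨ psq x = -1 := fun x hx => by
        rcases (by decide +kernel : ∀ a : Equiv.Perm (Fin 4), a ^ 2 = 1 ∨ a ^ 3 = 1 ∨ (a ^ 4 = 1 ∧ a ^ 2 ≠ 1))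
          (ψ ⟨x, hx⟩) with h | h | ⟨h, hne⟩
        · rcases psq_of_sq (hord ψ x hx h) with e | e
          · exact Or.inl (by linear_combination e + h30)
          · exact Or.inr (Or.inl e)
        · rcases psq_of_cube (hord ψ x hx h) with e | e
          · exact Or.inl (by linear_combination e + h30)
          · exact Or.inl e
        · refine Or.inr (Or.inr ?_)
          rw [psq_four (fun e => hne (by
            rw [← map_pow, show (⟨x, hx⟩ : Hb) ^ 2 = 1 from Subtype.ext e, map_one])) (hord ψ x hx h)]
          linear_combination h30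
      have e1 := hs1 ▸ hval _ (mul_mem hu hv)
      have e2 := hs2 ▸ hval _ (mul_mem (mul_mem hu hu) hv)
      have key : ∀ {t : F}, t ^ 2 = 1 ∨ t ^ 2 = 0 → ∃ m : ℤ, (m : F) = t := by
        intro t ht
        rcases ht with e | e
        · rcases sq_eq_one_iff.1 e with e' | e'
          · exact ⟨1, by simp [e']⟩
          · exact ⟨-1, by simp [e']⟩
        · exact ⟨0, by simp [sq_eq_zero_iff.1 e]⟩
      obtain ⟨m, hm⟩ : ∃ m : ℤ, (m : F) = lam := by
        rcases e1 with e | e | e
        · obtain ⟨m, hm⟩ := key (Or.inl e); exact ⟨m - 2, by push_cast; linear_combination hm⟩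
        · obtain ⟨m, hm⟩ := key (Or.inr e); exact ⟨m - 2, by push_cast; linear_combination hm⟩
        · rcases e2 with e' | e' | e'
          · obtain ⟨m, hm⟩ := key (Or.inl e'); exact ⟨2 * (m - 2), by push_cast; linear_combination 2 * hm + lam * h30⟩
          · obtain ⟨m, hm⟩ := key (Or.inr e'); exact ⟨2 * (m - 2), by push_cast; linear_combination 2 * hm + lam * h30⟩
          · exfalso
            refine hlam ?_
            linear_combination e' - e - lam * (lam + 1) * h30
      have hq := (hprimeFld hm).2
      have hle := (hprimeFld hm).1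
      rw [card_of_equiv ψ natCard_perm_four] at hle
      rw [hq] at hG
      simp only [Nat.reduceMul, Nat.reducePow, Nat.reduceSub] at hG
      omega
    · -- alternating of degree five
      have h := hprime ψ 60 natCard_alt_five
      have hp35 : p = 3 ∨ p = 5 := by
        rcases hp.dvd_mul.1 (show p ∣ 2 ^ 2 * (3 * 5) by norm_num; exact h) with h' | h'
        · exact absurd ((Nat.prime_dvd_prime_iff_eq hp Nat.prime_two).1 (hp.dvd_of_dvd_pow h')) hp2
        · rcases hp.dvd_mul.1 h' with h'' | h''
          · exact Or.inl ((Nat.prime_dvd_prime_iff_eq hp Nat.prime_three).1 h'')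
          · exact Or.inr ((Nat.prime_dvd_prime_iff_eq hp (by norm_num)).1 h'')
      have hval : ∀ x ∈ Hb, psq x = 4 ∨ psq x = 0 ∨ psq x = 1 ∨ psq x * psq x - 3 * psq x + 1 = 0 := fun x hx => by
        rcases (by decide +kernel : ∀ a : alternatingGroup (Fin 5), a ^ 2 = 1 ∨ a ^ 3 = 1 ∨ (a ^ 5 = 1 ∧ a ≠ 1))
          (ψ ⟨x, hx⟩) with h | h | ⟨h, hne⟩
        · rcases psq_of_sq (hord ψ x hx h) with e | e
          · exact Or.inl e
          · exact Or.inr (Or.inl e)
        · rcases psq_of_cube (hord ψ x hx h) with e | e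
          · exact Or.inl e
          · exact Or.inr (Or.inr (Or.inl e))
        · exact Or.inr (Or.inr (Or.inr (psq_five (fun e => hne (by
            rw [show (⟨x, hx⟩ : Hb) = 1 from Subtype.ext e, map_one])) (hord ψ x hx h))))
      have e1 := hs1 ▸ hval _ (mul_mem hu hv)
      have e2 := hs2 ▸ hval _ (mul_mem (mul_mem hu hu) hv)
      have hle : 60 ≤ Nat.card (ProjectiveSpecialLinearGroup (Fin 2) F) :=
        card_of_equiv ψ natCard_alt_five ▸ Subgroup.card_le_card_group _
      rcases hp35 with rfl | rfl
      · have h30 : (3 : F) = 0 := by exact_mod_cast CharP.cast_eq_zero F 3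
        have hnot : ∀ m : ℤ, (m : F) ≠ lam := fun m hm => by
          have hq := (hprimeFld hm).2
          rw [hq] at hG
          simp only [Nat.reduceMul, Nat.reducePow, Nat.reduceSub] at hG
          omega
        have key : ∀ {t : F}, (t ^ 2 = 4 ∨ t ^ 2 = 0 ∨ t ^ 2 = 1 ∨ t ^ 2 * t ^ 2 - 3 * t ^ 2 + 1 = 0) →
            (∃ m : ℤ, (m : F) = t) ∨ t ^ 2 * t ^ 2 = -1 := by
          intro t ht
          rcases ht with e | e | e | e
          · rcases sq_eq_one_iff.1 (show t ^ 2 = 1 by linear_combination e + h30) with e' | e'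
            · exact Or.inl ⟨1, by simp [e']⟩
            · exact Or.inl ⟨-1, by simp [e']⟩
          · exact Or.inl ⟨0, by simp [sq_eq_zero_iff.1 e]⟩
          · rcases sq_eq_one_iff.1 e with e' | e'
            · exact Or.inl ⟨1, by simp [e']⟩
            · exact Or.inl ⟨-1, by simp [e']⟩
          · exact Or.inr (by linear_combination e + t ^ 2 * h30)
        have i1 : (2 + lam) ^ 2 * (2 + lam) ^ 2 = -1 := by
          rcases key e1 with ⟨m, hm⟩ | e
          · exact absurd (by push_cast; linear_combination hm : ((m - 2 : ℤ) : F) = lam) (hnot _)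
          · exact e
        have i2 : (2 + 2 * lam) ^ 2 * (2 + 2 * lam) ^ 2 = -1 := by
          rcases key e2 with ⟨m, hm⟩ | e
          · exact absurd (by push_cast; linear_combination 2 * hm + lam * h30 : ((2 * (m - 2) : ℤ) : F) = lam) (hnot _)
          · exact e
        have hprod : ((2 + 2 * lam) ^ 2 - (2 + lam) ^ 2) * ((2 + 2 * lam) ^ 2 + (2 + lam) ^ 2) = 0 := by
          linear_combination i2 - i1
        have hl2 : lam ^ 2 = -1 := by
          rcases mul_eq_zero.1 hprod with e | e
          · exfalso
            refine hlam ?_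
            linear_combination e - lam * (lam + 1) * h30
          · linear_combination -e + (2 * lam ^ 2 + 4 * lam + 3) * h30
        refine Or.inr ⟨?_, hl2, card_of_equiv ψ natCard_alt_five⟩
        -- the field has nine elements
        let c : ZMod 3 →+* F := ZMod.castHom (dvd_refl 3) F
        let K : Subfield F :=
          { carrier := {x | x ^ 9 = x}
            one_mem' := one_pow 9
            zero_mem' := zero_pow (by norm_num)
            mul_mem' := fun {a b} ha hb => by
              show (a * b) ^ 9 = a * b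
              rw [mul_pow, show a ^ 9 = a from ha, show b ^ 9 = b from hb]
            add_mem' := fun {a b} ha hb => by
              show (a + b) ^ 9 = a + b
              rw [show (9 : ℕ) = 3 ^ 2 by norm_num, add_pow_char_pow]
              exact congrArg₂ (· + ·) ha hb
            neg_mem' := fun {a} ha => by
              show (-a) ^ 9 = -a
              rw [Odd.neg_pow (by decide), show a ^ 9 = a from ha]
            inv_mem' := fun a ha => by
              show a⁻¹ ^ 9 = a⁻¹
              rw [inv_pow, show a ^ 9 = a from ha] }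
        have hKtop : K = ⊤ := by
          refine top_le_iff.1 (hgen ▸ Subfield.closure_le.2 (Set.singleton_subset_iff.2 ?_))
          show lam ^ 9 = lam
          linear_combination (lam ^ 7 - lam ^ 5 + lam ^ 3 - lam) * hl2
        have hall : ∀ x : F, x ^ 9 = x := fun x => by
          have h : x ∈ K := hKtop ▸ Subfield.mem_top x
          exact h
        obtain ⟨f, hf, hqf⟩ := exists_char_pow (F := F) 3
        have hle9 : Fintype.card F ≤ 9 := by
          have hd : (Polynomial.X ^ 9 - Polynomial.X : Polynomial F).natDegree = 9 :=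
            FiniteField.X_pow_card_sub_X_natDegree_eq F (by norm_num)
          have hne : (Polynomial.X ^ 9 - Polynomial.X : Polynomial F) ≠ 0 :=
            FiniteField.X_pow_card_sub_X_ne_zero F (by norm_num)
          have hsub : (Finset.univ : Finset F).val ⊆ (Polynomial.X ^ 9 - Polynomial.X : Polynomial F).roots :=
            fun x _ => (Polynomial.mem_roots hne).2 (by simp [hall x])
          calc Fintype.card F = Multiset.card (Finset.univ : Finset F).val := rfl
            _ ≤ Multiset.card (Polynomial.X ^ 9 - Polynomial.X : Polynomial F).roots :=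
              Multiset.card_le_card ((Multiset.le_iff_subset Finset.univ.nodup).2 hsub)
            _ ≤ 9 := (Polynomial.card_roots' _).trans hd.le
        rw [hqf] at hle9 ⊢
        rcases (by
          have : f ≤ 2 := by
            by_contra hlt
            have := Nat.pow_le_pow_right (show 3 > 0 by norm_num) (by omega : 3 ≤ f)
            omega
          omega : f = 1 ∨ f = 2) with rfl | rfl
        · rw [hqf] at hG
          simp only [Nat.reduceMul, Nat.reducePow, Nat.reduceSub] at hG
          omega
        · norm_num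
      · left
        have h50 : (5 : F) = 0 := by exact_mod_cast CharP.cast_eq_zero F 5
        obtain ⟨m, hm⟩ : ∃ m : ℤ, (m : F) = lam := by
          rcases e1 with e | e | e | e
          · rcases sq_eq_sq_iff_eq_or_eq_neg.1 (show (2 + lam) ^ 2 = 2 ^ 2 by linear_combination e) with e' | e'
            · exact ⟨0, by push_cast; linear_combination -e'⟩
            · exact ⟨-4, by push_cast; linear_combination -e'⟩
          · exact ⟨-2, by push_cast; linear_combination -(sq_eq_zero_iff.1 e)⟩
          · rcases sq_eq_one_iff.1 e with e' | e'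
            · exact ⟨-1, by push_cast; linear_combination -e'⟩
            · exact ⟨-3, by push_cast; linear_combination -e'⟩
          · have h' : ((2 + lam) ^ 2 + 1) ^ 2 = 0 := by linear_combination e + (2 + lam) ^ 2 * h50
            have h'' : (2 + lam) ^ 2 = 2 ^ 2 := by linear_combination (sq_eq_zero_iff.1 h') - h50
            rcases sq_eq_sq_iff_eq_or_eq_neg.1 h'' with e' | e'
            · exact ⟨0, by push_cast; linear_combination -e'⟩
            · exact ⟨-4, by push_cast; linear_combination -e'⟩
        refine Subgroup.eq_top_of_le_card _ ?_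
        rw [card_of_equiv ψ natCard_alt_five]
        have hq := (hprimeFld hm).2
        rw [hq] at hG
        simp only [Nat.reduceMul, Nat.reducePow, Nat.reduceSub] at hG
        omega
    · left
      have hK : ∀ x ∈ Hb, psq x ∈ K := fun x hx => by
        rw [← psq_pslConj g]
        refine psq_mem_of_pglImage ?_
        have h1 : pslConj g x ∈ Hb.map (pslConj g).toMonoidHom := ⟨x, hx, rfl⟩
        rcases hc with e | ⟨-, e⟩ <;> rw [e] at h1
        · exact h1
        · exact pslImage_le_pglImage _ h1
      have m1 := hs1 ▸ hK _ (mul_mem hu hv)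
      have m2 := hs2 ▸ hK _ (mul_mem (mul_mem hu hu) hv)
      have m8 : (8 : F) * lam ∈ K := by
        rw [show (8 : F) * lam = 4 * ((2 + lam) ^ 2) - (2 + 2 * lam) ^ 2 - 12 by ring]
        exact sub_mem (sub_mem (mul_mem (ofNat_mem _ _) m1) m2) (ofNat_mem _ _)
      have h8 : (8 : F) ≠ 0 := by
        rw [show (8 : F) = 2 ^ 3 by norm_num]; exact pow_ne_zero _ h2
      have hlamK : lam ∈ K := by
        rw [show lam = 8⁻¹ * (8 * lam) by rw [← mul_assoc, inv_mul_cancel₀ h8, one_mul]]
        exact mul_mem (inv_mem (ofNat_mem _ _)) m8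
      have hKtop : K = ⊤ :=
        top_le_iff.1 (hgen ▸ Subfield.closure_le.2 (Set.singleton_subset_iff.2 hlamK))
      exact eq_top_of_subfield p (by rw [hKtop]; exact card_top_subfield) hc
  rcases hmain with h | ⟨h9, hl, h60⟩
  · refine Or.inl ⟨htop h, fun he => ?_⟩
    have h1 := hexc he
    rw [hcardH, h, Subgroup.card_top] at h1
    rw [he.1, show 9 * (9 ^ 2 - 1) = 720 by norm_num] at hG
    omega
  · exact Or.inr ⟨h9, hl, by rw [hcardH, h60]⟩

end CfsgLib.Classical.Dickson
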